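import Mathlib.Combinatorics.Configuration
import Mathlib.GroupTheory.Sylow
import Mathlib.GroupTheory.GroupAction.Quotient

/-!
Collineations of finite projective planes: first facts (for S3732).
-/

set_option autoImplicit false

namespace Cfsg.Agent.Lib.Ostrom64

open Configuration

universe u w

section Defs

variable (P : Type u) (L : Type w) [Membership P L]

/-- Collineations as pairs of permutations preserving incidence. -/
def colSub : Subgroup (Equiv.Perm P × Equiv.Perm L) where
  carrier := {g | ∀ (p : P) (l : L), g.1 p ∈ g.2 l ↔ p ∈ l}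
  one_mem' := by intro p l; simp
  mul_mem' := by
    intro g h hg hh p l
    simp only [Prod.fst_mul, Prod.snd_mul, Equiv.Perm.mul_apply]
    exact (hg (h.1 p) (h.2 l)).trans (hh p l)
  inv_mem' := by
    intro g hg p l
    have := hg (g.1⁻¹ p) (g.2⁻¹ l)
    simpa using this.symm

/-- The collineation group. -/
abbrev Col := ↥(colSub P L)

noncomputable instance colPointAction : MulAction (Col P L) P :=
  MulAction.compHom P ((MonoidHom.fst (Equiv.Perm P) (Equiv.Perm L)).comp (colSub P L).subtype)

noncomputable instance colLineAction : MulAction (Col P L) L :=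
  MulAction.compHom L ((MonoidHom.snd (Equiv.Perm P) (Equiv.Perm L)).comp (colSub P L).subtype)

variable {P L}

theorem smul_point_def (g : Col P L) (p : P) : g • p = g.1.1 p := rfl

theorem smul_line_def (g : Col P L) (l : L) : g • l = g.1.2 l := rfl

theorem smul_mem_smul (g : Col P L) {p : P} {l : L} : g • p ∈ g • l ↔ p ∈ l := g.2 p l

instance [Finite P] [Finite L] : Finite (Col P L) := Subtype.finite

/-- `l` is an axis of `g`: all its points are fixed. -/
def IsAxis (g : Col P L) (l : L) : Prop := ∀ p : P, p ∈ l → g • p = p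

/-- `C` is a centre of `g`: all lines through it are fixed. -/
def IsCentre (g : Col P L) (C : P) : Prop := ∀ l : L, C ∈ l → g • l = l

/-- `g` is a nontrivial perspectivity. -/
def IsPersp (g : Col P L) : Prop := g ≠ 1 ∧ ∃ l : L, IsAxis g l

variable (L) in
/-- No line contains all three points. -/
def NonColl (a b c : P) : Prop := ∀ l : L, a ∈ l → b ∈ l → c ∉ l

/-- All elements of `H` fix a common quadrangle. -/
def HasQuad (H : Subgroup (Col P L)) : Prop :=
  ∃ a b c d : P, (∀ h ∈ H, h • a = a ∧ h • b = b ∧ h • c = c ∧ h • d = d) ∧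
    NonColl L a b c ∧ NonColl L a b d ∧ NonColl L a c d ∧ NonColl L b c d

/-- Two-transitivity of a group of collineations on points. -/
def TwoTrans (G : Subgroup (Col P L)) : Prop :=
  ∀ p q r s : P, p ≠ q → r ≠ s → ∃ g ∈ G, g • p = r ∧ g • q = s

end Defs

/-! ### Incidence -/

section Plane

variable {P : Type u} {L : Type w} [Membership P L] [ProjectivePlane P L]

theorem eq_of_mem {p q : P} {l m : L} (hlm : l ≠ m) (hpl : p ∈ l) (hpm : p ∈ m)
    (hql : q ∈ l) (hqm : q ∈ m) : p = q :=
  (Nondegenerate.eq_or_eq hpl hql hpm hqm).resolve_right hlm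

theorem line_eq {p q : P} {l m : L} (hpq : p ≠ q) (hpl : p ∈ l) (hql : q ∈ l) (hpm : p ∈ m)
    (hqm : q ∈ m) : l = m :=
  (Nondegenerate.eq_or_eq hpl hql hpm hqm).resolve_left hpq

variable (L) in
theorem exists_line (p q : P) (h : p ≠ q) : ∃ l : L, p ∈ l ∧ q ∈ l :=
  ⟨HasLines.mkLine h, HasLines.mkLine_ax h⟩

variable (P) in
theorem exists_point (l m : L) (h : l ≠ m) : ∃ p : P, p ∈ l ∧ p ∈ m :=
  ⟨HasPoints.mkPoint h, HasPoints.mkPoint_ax h⟩

variable [Finite P] [Finite L]

theorem card_on_line (l : L) : Nat.card {p : P // p ∈ l} = ProjectivePlane.order P L + 1 :=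
  ProjectivePlane.pointCount_eq P l

theorem card_thru (p : P) : Nat.card {l : L // p ∈ l} = ProjectivePlane.order P L + 1 :=
  ProjectivePlane.lineCount_eq L p

theorem card_point :
    Nat.card P = ProjectivePlane.order P L ^ 2 + ProjectivePlane.order P L + 1 := by
  classical
  cases nonempty_fintype P
  rw [Nat.card_eq_fintype_card, ProjectivePlane.card_points P L]

theorem card_off (l : L) : Nat.card {p : P // p ∉ l} = ProjectivePlane.order P L ^ 2 := by
  classical
  have h := Nat.card_congr (Equiv.sumCompl (fun p : P => p ∈ l))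
  rw [Nat.card_sum, card_on_line, card_point (L := L)] at h
  omega

/-- A line has a point different from two given ones. -/
theorem exists_third (l : L) (a b : P) : ∃ c : P, c ∈ l ∧ c ≠ a ∧ c ≠ b := by
  classical
  cases nonempty_fintype P
  by_contra! hc
  have hsub : (Finset.univ.filter fun p : P => p ∈ l) ⊆ {a, b} := by
    intro p hp
    rw [Finset.mem_filter] at hp
    by_cases h : p = a
    · simp [h]
    · simp [hc p hp.2 h]
  have h1 := (Finset.card_le_card hsub).trans Finset.card_le_two
  have h2 := card_on_line (P := P) l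
  rw [Nat.card_eq_fintype_card, Fintype.card_subtype] at h2
  have h3 := ProjectivePlane.one_lt_order P L
  omega

theorem exists_other (l : L) (a : P) : ∃ c : P, c ∈ l ∧ c ≠ a :=
  (exists_third l a a).imp fun _ h => ⟨h.1, h.2.1⟩

/-- A point has a line through it different from two given ones. -/
theorem exists_third_line (p : P) (a b : L) : ∃ c : L, p ∈ c ∧ c ≠ a ∧ c ≠ b :=
  exists_third (P := Dual L) (L := Dual P) p a b

theorem exists_other_line (p : P) (a : L) : ∃ c : L, p ∈ c ∧ c ≠ a :=
  exists_other (P := Dual L) (L := Dual P) p a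

end Plane

/-! ### Collineations -/

section Basic

variable {P : Type u} {L : Type w} [Membership P L] [ProjectivePlane P L]

theorem smul_line_eq_of_two (g : Col P L) {p q : P} {l : L} (hpq : p ≠ q) (hp : p ∈ l) (hq : q ∈ l)
    (hp' : g • p = p) (hq' : g • q = q) : g • l = l := by
  have h1 : p ∈ g • l := by
    have := (smul_mem_smul g (p := p) (l := l)).2 hp
    rwa [hp'] at this
  have h2 : q ∈ g • l := by
    have := (smul_mem_smul g (p := q) (l := l)).2 hq
    rwa [hq'] at this
  exact line_eq hpq h1 h2 hp hq

theorem smul_point_eq_of_two (g : Col P L) {p : P} {l m : L} (hlm : l ≠ m) (hl : p ∈ l) (hm : p ∈ m)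
    (hl' : g • l = l) (hm' : g • m = m) : g • p = p := by
  have h1 : g • p ∈ l := by
    have := (smul_mem_smul g (p := p) (l := l)).2 hl
    rwa [hl'] at this
  have h2 : g • p ∈ m := by
    have := (smul_mem_smul g (p := p) (l := m)).2 hm
    rwa [hm'] at this
  exact eq_of_mem hlm h1 h2 hl hm

theorem mem_of_fix (g : Col P L) {p : P} {l : L} (hl : g • l = l) (hp : p ∈ l) : g • p ∈ l := by
  have := (smul_mem_smul g (p := p) (l := l)).2 hp
  rwa [hl] at this

theorem mem_line_of_fix (g : Col P L) {p : P} {l : L} (hp : g • p = p) (hl : p ∈ l) :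
    p ∈ g • l := by
  have := (smul_mem_smul g (p := p) (l := l)).2 hl
  rwa [hp] at this

variable [Finite P] [Finite L]

theorem col_ext {g h : Col P L} (hp : ∀ p : P, g • p = h • p) : g = h := by
  refine Subtype.ext (Prod.ext (Equiv.ext hp) (Equiv.ext fun l => ?_))
  obtain ⟨a, ha, -⟩ := Configuration.ProjectivePlane.exists_config (P := P) (L := L)
  obtain ⟨p, hpl, -⟩ := exists_third l a a
  obtain ⟨q, hql, hqp⟩ := exists_other l p
  have h1 : g • p ∈ g • l := (smul_mem_smul g).2 hpl
  have h2 : g • q ∈ g • l := (smul_mem_smul g).2 hql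
  have h3 : h • p ∈ h • l := (smul_mem_smul h).2 hpl
  have h4 : h • q ∈ h • l := (smul_mem_smul h).2 hql
  rw [← hp p] at h3
  rw [← hp q] at h4
  exact line_eq (p := g • p) (q := g • q) (l := g • l) (m := h • l)
    (fun e => hqp ((MulAction.injective g) e).symm) h1 h2 h3 h4

theorem eq_one_of_fix_all {g : Col P L} (h : ∀ p : P, g • p = p) : g = 1 :=
  col_ext fun p => by rw [h p, one_smul]

instance : FaithfulSMul (Col P L) P := ⟨fun h => col_ext h⟩

theorem ne_one_iff {g : Col P L} : g ≠ 1 ↔ ∃ p : P, g • p ≠ p := by
  constructor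
  · intro h
    by_contra! hc
    exact h (eq_one_of_fix_all hc)
  · rintro ⟨p, hp⟩ rfl
    exact hp (one_smul _ p)

/-- A collineation fixes as many lines as points. -/
theorem card_fixed_eq (g : Col P L) :
    Nat.card {p : P // g • p = p} = Nat.card {l : L // g • l = l} := by
  classical
  cases nonempty_fintype P
  cases nonempty_fintype L
  have hn := ProjectivePlane.one_lt_order P L
  set n := ProjectivePlane.order P L with hn'
  have hA : ∀ p : P, (Finset.univ.filter fun l : L => p ∈ l ∧ g • p ∈ l).card =
      1 + if g • p = p then n else 0 := by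
    intro p
    by_cases hp : g • p = p
    · rw [if_pos hp]
      simp only [hp, and_self]
      have h := card_thru (L := L) p
      rw [Nat.card_eq_fintype_card, Fintype.card_subtype] at h
      omega
    · rw [if_neg hp, add_zero, Finset.card_eq_one]
      obtain ⟨l, h1, h2⟩ := exists_line L p (g • p) (Ne.symm hp)
      refine ⟨l, Finset.ext fun m => ?_⟩
      simp only [Finset.mem_filter, Finset.mem_univ, true_and, Finset.mem_singleton]
      constructor
      · intro hm
        exact line_eq (Ne.symm hp) hm.1 hm.2 h1 h2
      · rintro rfl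
        exact ⟨h1, h2⟩
  have hB : ∀ l : L, (Finset.univ.filter fun p : P => p ∈ l ∧ g • p ∈ l).card =
      1 + if g • l = l then n else 0 := by
    intro l
    by_cases hl : g • l = l
    · rw [if_pos hl]
      have : (Finset.univ.filter fun p : P => p ∈ l ∧ g • p ∈ l) =
          Finset.univ.filter fun p : P => p ∈ l :=
        Finset.filter_congr fun p _ => ⟨fun h => h.1, fun h => ⟨h, mem_of_fix g hl h⟩⟩
      rw [this]
      have h := card_on_line (P := P) l
      rw [Nat.card_eq_fintype_card, Fintype.card_subtype] at h
      omega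
    · rw [if_neg hl, add_zero, Finset.card_eq_one]
      have hl' : l ≠ g⁻¹ • l := fun e => hl (by
        have h2 := congrArg (g • ·) e
        simpa using h2)
      obtain ⟨p, h1, h2⟩ := exists_point P l (g⁻¹ • l) hl'
      refine ⟨p, Finset.ext fun q => ?_⟩
      simp only [Finset.mem_filter, Finset.mem_univ, true_and, Finset.mem_singleton]
      constructor
      · intro hq
        have h3 : q ∈ g⁻¹ • l := by
          rw [← smul_mem_smul g, smul_inv_smul]
          exact hq.2
        exact eq_of_mem hl' hq.1 h3 h1 h2
      · rintro rfl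
        refine ⟨h1, ?_⟩
        rw [← smul_mem_smul g, smul_inv_smul] at h2
        exact h2
  have key : ∑ p : P, (Finset.univ.filter fun l : L => p ∈ l ∧ g • p ∈ l).card =
      ∑ l : L, (Finset.univ.filter fun p : P => p ∈ l ∧ g • p ∈ l).card := by
    simp only [Finset.card_filter]
    exact Finset.sum_comm
  simp only [hA, hB, Finset.sum_add_distrib, Finset.sum_ite, Finset.sum_const, Finset.card_univ,
    smul_eq_mul, mul_one, mul_zero, add_zero, ProjectivePlane.card_points_eq_card_lines P L,
    add_right_inj] at key
  rw [Nat.card_eq_fintype_card, Nat.card_eq_fintype_card, Fintype.card_subtype,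
    Fintype.card_subtype]
  exact Nat.eq_of_mul_eq_mul_right (by omega) key

end Basic

/-! ### Duality -/

section DualPlane

variable (P : Type u) (L : Type w) [Membership P L]

/-- The collineation group of the dual plane. -/
def dualHom : Col P L →* Col (Dual L) (Dual P) where
  toFun g := ⟨(g.1.2, g.1.1), fun l p => g.2 p l⟩
  map_one' := rfl
  map_mul' _ _ := rfl

theorem dualHom_injective : Function.Injective (dualHom P L) := fun g h e => by
  have := congrArg Subtype.val e
  exact Subtype.ext (Prod.ext (congrArg Prod.snd this) (congrArg Prod.fst this))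

variable {P L}

theorem dualHom_line (g : Col P L) (l : L) :
    (dualHom P L g) • (show Dual L from l) = (g • l : L) := rfl

theorem dualHom_point (g : Col P L) (p : P) :
    (dualHom P L g) • (show Dual P from p) = (g • p : P) := rfl

theorem isAxis_dual {g : Col P L} {C : P} :
    IsAxis (dualHom P L g) (show Dual P from C) ↔ IsCentre g C := Iff.rfl

theorem isCentre_dual {g : Col P L} {l : L} :
    IsCentre (dualHom P L g) (show Dual L from l) ↔ IsAxis g l := Iff.rfl

end DualPlane

end Cfsg.Agent.Lib.Ostrom64
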