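import Cfsg.Agent.Lib.Ostrom64.Tower

/-!
The fixed plane of a largest 2-group fixing a quadrangle (brick C of S3732).
-/

set_option autoImplicit false
set_option linter.unusedSectionVars false
set_option linter.style.haveILetI false

namespace Cfsg.Agent.Lib.Ostrom64

open Configuration

universe u w

variable {P : Type u} {L : Type w} [Membership P L] [ProjectivePlane P L] [Finite P] [Finite L]

/-- A largest 2-subgroup fixing a quadrangle. -/
def MaxQuad (G R : Subgroup (Col P L)) : Prop :=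
  R ≤ G ∧ IsPGroup 2 R ∧ HasQuad R ∧
    ∀ S : Subgroup (Col P L), S ≤ G → IsPGroup 2 S → HasQuad S → Nat.card S ≤ Nat.card R

/-- The group induced on the fixed plane. -/
noncomputable def inducedGroup (G R : Subgroup (Col P L)) :
    Subgroup (Col (fixP R) (fixL R)) :=
  (G.subgroupOf (Subgroup.normalizer (R : Set (Col P L)))).map (restrictCol R)

theorem mem_inducedGroup {G R : Subgroup (Col P L)} {γ : Col (fixP R) (fixL R)} :
    γ ∈ inducedGroup G R ↔ ∃ g : Subgroup.normalizer (R : Set (Col P L)),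
      (g : Col P L) ∈ G ∧ restrictCol R g = γ := by
  simp only [inducedGroup, Subgroup.mem_map, Subgroup.mem_subgroupOf]

theorem restrictCol_eq_one {R : Subgroup (Col P L)} (hq : HasQuad R)
    (g : Subgroup.normalizer (R : Set (Col P L))) (hg : (g : Col P L) ∈ R) :
    restrictCol R g = 1 := by
  letI := subPlane hq
  exact eq_one_of_fix_all fun p => Subtype.ext (p.2 _ hg)

/-- A 2-element outside `R` normalising it gives a 2-group. -/
theorem isPGroup_sup {R : Subgroup (Col P L)} (hR : IsPGroup 2 R) {g : Col P L}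
    (hgN : g ∈ Subgroup.normalizer (R : Set (Col P L))) {k : ℕ} (hk : g ^ 2 ^ k = 1) :
    IsPGroup 2 (R ⊔ Subgroup.zpowers g : Subgroup (Col P L)) := by
  have hz : IsPGroup 2 (Subgroup.zpowers g) := by
    have : Fact (Nat.Prime 2) := ⟨Nat.prime_two⟩
    obtain ⟨j, -, hj⟩ := (Nat.dvd_prime_pow Nat.prime_two).1 (orderOf_dvd_of_pow_eq_one hk)
    exact IsPGroup.of_card (n := j) (by rw [Nat.card_zpowers, hj])
  exact IsPGroup.to_sup_of_normal_left' hR hz (Subgroup.zpowers_le.2 hgN)

/-- A 2-element of the normaliser fixing a quadrangle of the fixed plane acts trivially on it. -/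
theorem MaxQuad.trivial_of_quad {G R : Subgroup (Col P L)} (hm : MaxQuad G R)
    (g : Subgroup.normalizer (R : Set (Col P L))) (hgG : (g : Col P L) ∈ G) {k : ℕ}
    (hk : (g : Col P L) ^ 2 ^ k = 1) (hq : HasQuad (Subgroup.zpowers (restrictCol R g))) :
    restrictCol R g = 1 := by
  obtain ⟨hRG, hR2, hRq, hmax⟩ := hm
  letI := subPlane hRq
  set S := R ⊔ Subgroup.zpowers (g : Col P L) with hS
  obtain ⟨a, b, c, d, hf, habc, habd, hacd, hbcd⟩ := hq
  have hf' := hf _ (Subgroup.mem_zpowers _)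
  have hfix : ∀ x : fixP R, restrictCol R g • x = x → ∀ h ∈ S, h • (x : P) = x := by
    intro x hx h hh
    have hle : S ≤ MulAction.stabilizer (Col P L) (x : P) :=
      sup_le (fun r hr => x.2 r hr) (Subgroup.zpowers_le.2 (congrArg Subtype.val hx))
    exact hle hh
  have hnc : ∀ {x y z : fixP R}, NonColl (fixL R) x y z → NonColl L (x : P) y z := by
    intro x y z h l hx hy hz
    have hxy : (x : P) ≠ y := fun e => h.ne₁₂ (Subtype.ext e)
    exact h ⟨l, line_mem_fixL hxy hx hy x.2 y.2⟩ hx hy hz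
  have hSq : HasQuad S :=
    ⟨a, b, c, d, fun h hh => ⟨hfix a hf'.1 h hh, hfix b hf'.2.1 h hh, hfix c hf'.2.2.1 h hh,
      hfix d hf'.2.2.2 h hh⟩, hnc habc, hnc habd, hnc hacd, hnc hbcd⟩
  have hle := hmax S (sup_le hRG (Subgroup.zpowers_le.2 hgG)) (isPGroup_sup hR2 g.2 hk) hSq
  have hRS : R = S := Subgroup.eq_of_le_of_card_ge le_sup_left hle
  exact restrictCol_eq_one hRq g
    ((le_of_eq hRS.symm) ((le_sup_right : Subgroup.zpowers (g : Col P L) ≤ S)
      (Subgroup.mem_zpowers _)))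

/-- An induced involution lifts to a 2-element. -/
theorem exists_two_lift {G R : Subgroup (Col P L)} {γ : Col (fixP R) (fixL R)}
    (hγ : γ ∈ inducedGroup G R) (hγ2 : γ * γ = 1) :
    ∃ g : Subgroup.normalizer (R : Set (Col P L)),
      (g : Col P L) ∈ G ∧ restrictCol R g = γ ∧ ∃ k : ℕ, (g : Col P L) ^ 2 ^ k = 1 := by
  obtain ⟨g, hgG, rfl⟩ := mem_inducedGroup.1 hγ
  obtain ⟨k, m, hm, hkm⟩ := Nat.exists_eq_two_pow_mul_odd (n := orderOf (g : Col P L))
    (orderOf_pos _).ne'
  refine ⟨g ^ m, ?_, ?_, k, ?_⟩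
  · rw [SubgroupClass.coe_pow]
    exact pow_mem hgG m
  · obtain ⟨j, rfl⟩ := hm
    rw [map_pow, pow_succ, pow_mul, pow_two, hγ2, one_pow, one_mul]
  · rw [SubgroupClass.coe_pow, ← pow_mul, mul_comm, ← hkm, pow_orderOf_eq_one]

/-- All involutions of the induced group are perspectivities. -/
theorem MaxQuad.persp {G R : Subgroup (Col P L)} (hm : MaxQuad G R) {γ : Col (fixP R) (fixL R)}
    (hγ : γ ∈ inducedGroup G R) (hγ2 : γ * γ = 1) (hγ1 : γ ≠ 1) :
    ∃ l : fixL R, IsAxis γ l := by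
  letI := subPlane hm.2.2.1
  refine (persp_or_quad hγ2).resolve_right fun hq => hγ1 ?_
  obtain ⟨g, hgG, rfl, k, hk⟩ := exists_two_lift hγ hγ2
  exact hm.trivial_of_quad g hgG hk hq

/-- Some power of an element with 2-power order is an involution. -/
theorem exists_involution_pow {Γ : Type*} [Group Γ] {x : Γ} {k : ℕ} (hx : x ≠ 1)
    (hk : x ^ 2 ^ k = 1) : ∃ e : ℕ, x ^ e * x ^ e = 1 ∧ x ^ e ≠ 1 := by
  induction k generalizing x with
  | zero => exact absurd (by simpa using hk) hx
  | succ k ih =>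
    by_cases h : x ^ 2 ^ k = 1
    · exact ih hx h
    · exact ⟨2 ^ k, by rw [← pow_add, ← two_mul, ← pow_succ']; exact hk, h⟩

/-- An involution of a plane fixes two points. -/
theorem exists_two_fixed {g : Col P L} (hgg : g * g = 1) :
    ∃ a b : P, a ≠ b ∧ g • a = a ∧ g • b = b := by
  rcases persp_or_quad hgg with ⟨l, hl⟩ | ⟨a, b, c, d, hf, habc, -⟩
  · obtain ⟨p, -, -, -, -⟩ := Configuration.ProjectivePlane.exists_config (P := P) (L := L)
    obtain ⟨a, ha, -⟩ := exists_third l p p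
    obtain ⟨b, hb, hba⟩ := exists_other l a
    exact ⟨a, b, hba.symm, hl a ha, hl b hb⟩
  · exact ⟨a, b, habc.ne₁₂, (hf g (Subgroup.mem_zpowers g)).1,
      (hf g (Subgroup.mem_zpowers g)).2.1⟩

/-- All two-point stabilisers have the same order. -/
theorem TwoTrans.card_pair {G : Subgroup (Col P L)} (h2 : TwoTrans G) {a b c d : P} (hab : a ≠ b)
    (hcd : c ≠ d) :
    Nat.card (G ⊓ MulAction.stabilizer (Col P L) a ⊓ MulAction.stabilizer (Col P L) b :
        Subgroup (Col P L)) =
      Nat.card (G ⊓ MulAction.stabilizer (Col P L) c ⊓ MulAction.stabilizer (Col P L) d :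
        Subgroup (Col P L)) := by
  suffices key : ∀ {a b c d : P}, a ≠ b → c ≠ d →
      Nat.card (G ⊓ MulAction.stabilizer (Col P L) a ⊓ MulAction.stabilizer (Col P L) b :
          Subgroup (Col P L)) ≤
        Nat.card (G ⊓ MulAction.stabilizer (Col P L) c ⊓ MulAction.stabilizer (Col P L) d :
          Subgroup (Col P L)) from le_antisymm (key hab hcd) (key hcd hab)
  intro a b c d hab hcd
  obtain ⟨g, hg, hga, hgb⟩ := h2 a b c d hab hcd
  set H := G ⊓ MulAction.stabilizer (Col P L) a ⊓ MulAction.stabilizer (Col P L) b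
  have hinj : Function.Injective (MulAut.conj g).toMonoidHom := (MulAut.conj g).injective
  rw [← Nat.card_congr (H.equivMapOfInjective (MulAut.conj g).toMonoidHom hinj).toEquiv.symm]
  refine Subgroup.card_le_of_le ?_
  intro x hx
  obtain ⟨h, ⟨⟨h1, h2'⟩, h3⟩, rfl⟩ := Subgroup.mem_map.1 hx
  change (g * h * g⁻¹ ∈ G ∧ (g * h * g⁻¹) • c = c) ∧ (g * h * g⁻¹) • d = d
  refine ⟨⟨mul_mem (mul_mem hg h1) (inv_mem hg), ?_⟩, ?_⟩
  · rw [mul_smul, mul_smul, inv_smul_eq_iff.2 hga.symm, show h • a = a from h2', hga]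
  · rw [mul_smul, mul_smul, inv_smul_eq_iff.2 hgb.symm, show h • b = b from h3, hgb]

/-- Any two fixed points are fixed by an induced involution. -/
theorem MaxQuad.pair {G R : Subgroup (Col P L)} (h2 : TwoTrans G) (hm : MaxQuad G R)
    {X Y : fixP R} (hXY : X ≠ Y) :
    ∃ γ ∈ inducedGroup G R, γ * γ = 1 ∧ γ ≠ 1 ∧ γ • X = X ∧ γ • Y = Y := by
  obtain ⟨hRG, hR2, hRq, hmax⟩ := id hm
  letI := subPlane hRq
  have : Fact (Nat.Prime 2) := ⟨Nat.prime_two⟩
  have hXY' : (X : P) ≠ Y := fun e => hXY (Subtype.ext e)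
  set H : Subgroup (Col P L) := G ⊓ MulAction.stabilizer (Col P L) (X : P) ⊓
    MulAction.stabilizer (Col P L) (Y : P) with hH
  have hRH : R ≤ H := fun r hr => ⟨⟨hRG hr, X.2 r hr⟩, Y.2 r hr⟩
  obtain ⟨S, hRS⟩ : ∃ S : Sylow 2 H, R.subgroupOf H ≤ (S : Subgroup H) :=
    (hR2.comap_subtype (K := H)).exists_le_sylow
  set T : Subgroup (Col P L) := (S : Subgroup H).map H.subtype with hT
  have hTH : T ≤ H := Subgroup.map_subtype_le _
  have hTc : Nat.card T = 2 ^ (Nat.card H).factorization 2 := by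
    rw [hT, Subgroup.card_map_of_injective H.subtype_injective]
    exact S.card_eq_multiplicity
  have hRT : R ≤ T := fun r hr =>
    Subgroup.mem_map.2 ⟨⟨r, hRH hr⟩, hRS (Subgroup.mem_subgroupOf.2 hr), rfl⟩
  rcases eq_or_lt_of_le hRT with heq | hlt
  · -- `R` would be a full Sylow subgroup: swap the two points
    exfalso
    obtain ⟨g, hg, hgX, hgY⟩ := h2 (X : P) Y Y X hXY' (Ne.symm hXY')
    set R1 : Subgroup (Col P L) := R.map (MulAut.conj g).toMonoidHom with hR1
    have hR1H : R1 ≤ H := by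
      intro x hx
      obtain ⟨r, hr, rfl⟩ := Subgroup.mem_map.1 hx
      change (g * r * g⁻¹ ∈ G ∧ (g * r * g⁻¹) • (X : P) = X) ∧ (g * r * g⁻¹) • (Y : P) = Y
      refine ⟨⟨mul_mem (mul_mem hg (hRG hr)) (inv_mem hg), ?_⟩, ?_⟩
      · rw [mul_smul, mul_smul, inv_smul_eq_iff.2 hgY.symm, Y.2 r hr, hgY]
      · rw [mul_smul, mul_smul, inv_smul_eq_iff.2 hgX.symm, X.2 r hr, hgX]
    let S1 : Sylow 2 H := Sylow.ofCard (R1.subgroupOf H) (by
      rw [Nat.card_congr (Subgroup.subgroupOfEquivOfLe hR1H).toEquiv, hR1,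
        Subgroup.card_map_of_injective (MulAut.conj g).injective, heq, hTc])
    obtain ⟨v, hv⟩ := MulAction.exists_smul_eq H S1 S
    set f : Col P L := (v : Col P L) * g with hf
    have hfN : f ∈ Subgroup.normalizer (R : Set (Col P L)) := by
      have hmap : R.map (MulAut.conj f).toMonoidHom = R := by
        refine Subgroup.eq_of_le_of_card_ge ?_ (le_of_eq
          (Subgroup.card_map_of_injective (MulAut.conj f).injective).symm)
        intro x hx
        obtain ⟨r, hr, rfl⟩ := Subgroup.mem_map.1 hx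
        have h1 : g * r * g⁻¹ ∈ R1 := Subgroup.mem_map.2 ⟨r, hr, rfl⟩
        have h2' : (⟨g * r * g⁻¹, hR1H h1⟩ : H) ∈ (S1 : Subgroup H) :=
          Subgroup.mem_subgroupOf.2 h1
        have h3 : MulAut.conj v ⟨g * r * g⁻¹, hR1H h1⟩ ∈ (S : Subgroup H) := by
          rw [← hv]
          exact Subgroup.smul_mem_pointwise_smul _ _ _ h2'
        have h4 : H.subtype (MulAut.conj v ⟨g * r * g⁻¹, hR1H h1⟩) ∈ T :=
          Subgroup.mem_map.2 ⟨_, h3, rfl⟩
        rw [heq]
        simp only [MulAut.conj_apply, map_mul, map_inv, Subgroup.coe_subtype] at h4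
        change f * r * f⁻¹ ∈ T
        rw [hf]
        convert h4 using 1
        group
      rw [Subgroup.mem_normalizer_iff]
      intro x
      conv_rhs => rw [← hmap]
      rw [Subgroup.mem_map]
      exact ⟨fun h => ⟨x, h, rfl⟩, fun ⟨y, hy, hy'⟩ => (MulAut.conj f).injective hy' ▸ hy⟩
    have hfG : f ∈ G := mul_mem v.2.1.1 hg
    set δ := restrictCol R ⟨f, hfN⟩ with hδ
    have hδmem : δ ∈ inducedGroup G R := mem_inducedGroup.2 ⟨_, hfG, rfl⟩
    have hfX : f • (X : P) = Y := by rw [hf, mul_smul, hgX]; exact v.2.2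
    have hfY : f • (Y : P) = X := by rw [hf, mul_smul, hgY]; exact v.2.1.2
    have hδX : δ • X = Y := Subtype.ext hfX
    have hδY : δ • Y = X := Subtype.ext hfY
    have hδeven : ∃ i, orderOf δ = 2 * i ∧ 0 < i := by
      rcases Nat.even_or_odd (orderOf δ) with ⟨i, hi⟩ | ⟨i, hi⟩
      · have := orderOf_pos δ
        exact ⟨i, by omega, by omega⟩
      · exfalso
        have hsq : ∀ j : ℕ, (δ ^ 2) ^ j • X = X := by
          intro j
          induction j with
          | zero => rw [pow_zero, one_smul]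
          | succ j ih => rw [pow_succ, mul_smul, pow_two, mul_smul, hδX, hδY, ← pow_two, ih]
        have h1 := pow_orderOf_eq_one δ
        rw [hi, pow_succ', pow_mul] at h1
        have h2' : (δ * (δ ^ 2) ^ i) • X = X := by rw [h1, one_smul]
        rw [mul_smul, hsq, hδX] at h2'
        exact hXY h2'.symm
    obtain ⟨i, hi, hi0⟩ := hδeven
    set ι := δ ^ i with hι
    have hι2 : ι * ι = 1 := by
      rw [hι, ← pow_add, ← two_mul, ← hi, pow_orderOf_eq_one]
    have hι1 : ι ≠ 1 := by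
      intro e
      have := orderOf_dvd_of_pow_eq_one (hι ▸ e)
      have := Nat.le_of_dvd hi0 this
      omega
    obtain ⟨a, b, hab, ha, hb⟩ := exists_two_fixed hι2
    obtain ⟨g', hg'G, hg'ι, k, hk⟩ := exists_two_lift (pow_mem hδmem i) hι2
    have hab' : (a : P) ≠ b := fun e => hab (Subtype.ext e)
    set K : Subgroup (Col P L) := G ⊓ MulAction.stabilizer (Col P L) (a : P) ⊓
      MulAction.stabilizer (Col P L) (b : P) with hK
    have hg'K : (g' : Col P L) ∈ K := by
      rw [hι, ← hg'ι] at ha hb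
      exact ⟨⟨hg'G, congrArg Subtype.val ha⟩, congrArg Subtype.val hb⟩
    have hUK : R ⊔ Subgroup.zpowers (g' : Col P L) ≤ K :=
      sup_le (fun r hr => ⟨⟨hRG hr, a.2 r hr⟩, b.2 r hr⟩) (Subgroup.zpowers_le.2 hg'K)
    obtain ⟨j, hj⟩ := IsPGroup.iff_card.1 (isPGroup_sup hR2 g'.2 hk)
    have hdvd := Subgroup.card_dvd_of_le hUK
    rw [hj, h2.card_pair hab' hXY',
      Nat.prime_two.pow_dvd_iff_le_factorization Nat.card_pos.ne'] at hdvd
    have hle : Nat.card (R ⊔ Subgroup.zpowers (g' : Col P L) : Subgroup (Col P L)) ≤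
        Nat.card R := by
      rw [hj, heq, hTc]
      exact Nat.pow_le_pow_right two_pos hdvd
    have hRU : R = R ⊔ Subgroup.zpowers (g' : Col P L) :=
      Subgroup.eq_of_le_of_card_ge le_sup_left hle
    refine hι1 ?_
    rw [hι, ← hg'ι]
    exact restrictCol_eq_one hRq g' ((le_of_eq hRU.symm)
      ((le_sup_right : Subgroup.zpowers (g' : Col P L) ≤ _) (Subgroup.mem_zpowers _)))
  · -- grow `R` inside the Sylow subgroup
    have hTp : IsPGroup 2 T := IsPGroup.of_card hTc
    have : Group.IsNilpotent T := hTp.isNilpotent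
    have htop : R.subgroupOf T < ⊤ := by
      rw [lt_top_iff_ne_top, Ne, Subgroup.subgroupOf_eq_top]
      exact not_le_of_gt hlt
    obtain ⟨g, hgN, hgR⟩ := SetLike.exists_of_lt
      (Group.normalizerCondition_of_isNilpotent _ htop)
    have hgN' : (g : Col P L) ∈ Subgroup.normalizer (R : Set (Col P L)) := by
      rw [Subgroup.mem_normalizer_iff]
      intro x
      constructor
      · intro hx
        have := (Subgroup.mem_normalizer_iff.1 hgN ⟨x, hRT hx⟩).1
          (Subgroup.mem_subgroupOf.2 hx)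
        exact Subgroup.mem_subgroupOf.1 this
      · intro hx
        have hxT : x ∈ T := by
          have := mul_mem (mul_mem (inv_mem g.2) (hRT hx)) g.2
          simpa [mul_assoc] using this
        exact Subgroup.mem_subgroupOf.1 ((Subgroup.mem_normalizer_iff.1 hgN ⟨x, hxT⟩).2
          (Subgroup.mem_subgroupOf.2 hx))
    obtain ⟨k, hk⟩ := hTp g
    have hk' : (g : Col P L) ^ 2 ^ k = 1 := congrArg Subtype.val hk
    have hgG : (g : Col P L) ∈ G := (hTH g.2).1.1
    have hgX : (g : Col P L) • (X : P) = X := (hTH g.2).1.2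
    have hgY : (g : Col P L) • (Y : P) = Y := (hTH g.2).2
    set δ := restrictCol R ⟨(g : Col P L), hgN'⟩ with hδ
    have hδ1 : δ ≠ 1 := by
      intro e
      -- then `R ⊔ ⟨g⟩` would still fix the quadrangle
      obtain ⟨a, b, c, d, hf, hn⟩ := hRq
      have hfix : ∀ x : P, (∀ r ∈ R, r • x = x) →
          ∀ h ∈ R ⊔ Subgroup.zpowers (g : Col P L), h • x = x := by
        intro x hx h hh
        have hgx : (g : Col P L) • x = x := by
          have := congrArg (fun q : Col (fixP R) (fixL R) => ((q • (⟨x, hx⟩ : fixP R) : fixP R) : P)) e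
          simpa [hδ] using this
        have hle : R ⊔ Subgroup.zpowers (g : Col P L) ≤ MulAction.stabilizer (Col P L) x :=
          sup_le (fun r hr => hx r hr) (Subgroup.zpowers_le.2 hgx)
        exact hle hh
      have hle := hmax (R ⊔ Subgroup.zpowers (g : Col P L))
        (sup_le hRG (Subgroup.zpowers_le.2 hgG)) (isPGroup_sup hR2 hgN' hk')
        ⟨a, b, c, d, fun h hh => ⟨hfix a (fun r hr => (hf r hr).1) h hh,
          hfix b (fun r hr => (hf r hr).2.1) h hh, hfix c (fun r hr => (hf r hr).2.2.1) h hh,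
          hfix d (fun r hr => (hf r hr).2.2.2) h hh⟩, hn⟩
      have hRU := Subgroup.eq_of_le_of_card_ge le_sup_left hle
      exact hgR (Subgroup.mem_subgroupOf.2 ((le_of_eq hRU.symm)
        ((le_sup_right : Subgroup.zpowers (g : Col P L) ≤ _) (Subgroup.mem_zpowers _))))
    have hδk : δ ^ 2 ^ k = 1 := by
      rw [hδ, ← map_pow]
      have : (⟨(g : Col P L), hgN'⟩ : Subgroup.normalizer (R : Set (Col P L))) ^ 2 ^ k = 1 :=
        Subtype.ext hk'
      rw [this, map_one]
    obtain ⟨e, he2, he1⟩ := exists_involution_pow hδ1 hδk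
    have hfixpow : ∀ x : fixP R, δ • x = x → δ ^ e • x = x := by
      intro x hx
      have : ∀ j : ℕ, δ ^ j • x = x := fun j => by
        induction j with
        | zero => rw [pow_zero, one_smul]
        | succ j ih => rw [pow_succ, mul_smul, hx, ih]
      exact this e
    exact ⟨δ ^ e, pow_mem (mem_inducedGroup.2 ⟨⟨(g : Col P L), hgN'⟩, hgG, rfl⟩) e, he2, he1,
      hfixpow X (Subtype.ext hgX), hfixpow Y (Subtype.ext hgY)⟩

/-- The stabiliser of two lines is transitive in the dual sense. -/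
theorem TwoTrans.dual {G : Subgroup (Col P L)} (h2 : TwoTrans G) :
    TwoTrans (G.map (dualHom P L)) := by
  suffices key : ∀ l m l' m' : L, l ≠ m → l' ≠ m' → ∃ f ∈ G, f • l = l' ∧ f • m = m' by
    intro l m l' m' hlm hlm'
    obtain ⟨f, hf, h1, h2'⟩ := key l m l' m' hlm hlm'
    exact ⟨dualHom P L f, Subgroup.mem_map_of_mem _ hf, h1, h2'⟩
  intro l m l' m' hlm hlm'
  obtain ⟨X, hXl, hXm⟩ := exists_point P l m hlm
  obtain ⟨X', hXl', hXm'⟩ := exists_point P l' m' hlm'
  obtain ⟨g, hg, hgX, hgl⟩ := h2.flag hXl hXl'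
  obtain ⟨Y, hY, hYX⟩ := exists_other l' X'
  have hgm : X' ∈ g • m := by
    rw [← hgX]
    exact (smul_mem_smul g).2 hXm
  have hne : g • m ≠ l' := fun e => hlm (MulAction.injective g (e.trans hgl.symm)).symm
  have hY1 : Y ∉ g • m := fun h => hne (line_eq hYX h hgm hY hXl')
  have hY2 : Y ∉ m' := fun h => hlm' (line_eq hYX hY hXl' h hXm')
  obtain ⟨f, hf, hfY, hfX, hfm⟩ := h2.pencil hgm hXm' hY1 hY2
  have hfl : f • l' = l' := smul_line_eq_of_two f hYX hY hXl' hfY hfX
  exact ⟨f * g, mul_mem hf hg, by rw [mul_smul, hgl, hfl], by rw [mul_smul, hfm]⟩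

/-- The notion is self-dual. -/
theorem MaxQuad.dual {G R : Subgroup (Col P L)} (hm : MaxQuad G R) :
    MaxQuad (G.map (dualHom P L)) (R.map (dualHom P L)) := by
  obtain ⟨hRG, hR2, hRq, hmax⟩ := hm
  refine ⟨Subgroup.map_mono hRG, hR2.map _, hRq.lines, fun S hS hS2 hSq => ?_⟩
  have hle : S ≤ (dualHom P L).range := hS.trans (Subgroup.map_le_range _ _)
  have hS' : (S.comap (dualHom P L)).map (dualHom P L) = S :=
    Subgroup.map_comap_eq_self hle
  have hcomap : S.comap (dualHom P L) ≤ G := by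
    intro x hx
    obtain ⟨y, hy, hyx⟩ := Subgroup.mem_map.1 (hS hx)
    exact dualHom_injective P L hyx ▸ hy
  have hq : HasQuad (S.comap (dualHom P L)) := by
    obtain ⟨a, b, c, d, hf, h1, h2', h3, h4⟩ := hSq.lines
    exact ⟨a, b, c, d, fun h hh => hf _ (Subgroup.mem_map_of_mem (dualHom (Dual L) (Dual P))
      (show dualHom P L h ∈ S from hh)), h1, h2', h3, h4⟩
  have := hmax _ hcomap (hS2.comap_of_injective _ (dualHom_injective P L)) hq
  rw [← hS', Subgroup.card_map_of_injective (dualHom_injective P L),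
    Subgroup.card_map_of_injective (dualHom_injective P L)]
  exact this

/-- Any two fixed lines are fixed by an induced involution. -/
theorem MaxQuad.pair_lines {G R : Subgroup (Col P L)} (h2 : TwoTrans G) (hm : MaxQuad G R)
    {l m : fixL R} (hlm : l ≠ m) :
    ∃ γ ∈ inducedGroup G R, γ * γ = 1 ∧ γ ≠ 1 ∧ γ • l = l ∧ γ • m = m := by
  letI := subPlane hm.2.2.1
  letI := subPlane hm.dual.2.2.1
  have hl : ∀ x : fixL R,
      (show Dual L from (x : L)) ∈ fixP (R.map (dualHom P L)) := by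
    intro x h hh
    obtain ⟨r, hr, rfl⟩ := Subgroup.mem_map.1 hh
    exact x.2 r hr
  obtain ⟨γ', hγ', hγ2, hγ1, hγl, hγm⟩ := hm.dual.pair h2.dual
    (X := ⟨_, hl l⟩) (Y := ⟨_, hl m⟩) (fun e => hlm (Subtype.ext (congrArg Subtype.val e :)))
  obtain ⟨g', hg'G, rfl⟩ := mem_inducedGroup.1 hγ'
  obtain ⟨g, hg, hgg'⟩ := Subgroup.mem_map.1 hg'G
  have hgN : g ∈ Subgroup.normalizer (R : Set (Col P L)) := by
    rw [Subgroup.mem_normalizer_iff]
    intro x
    have := Subgroup.mem_normalizer_iff.1 g'.2 (dualHom P L x)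
    rw [← hgg', ← map_inv, ← map_mul, ← map_mul] at this
    simp only [Subgroup.mem_map_iff_mem (dualHom_injective P L)] at this
    exact this
  have hact : ∀ x : fixL R, g • (x : L) =
      ((restrictCol (R.map (dualHom P L)) g' • (⟨_, hl x⟩ : fixP (R.map (dualHom P L))) :
        fixP (R.map (dualHom P L))) : Dual L) := by
    intro x
    rw [restrictCol_point, ← hgg']
    rfl
  set γ := restrictCol R ⟨g, hgN⟩ with hγ
  refine ⟨γ, mem_inducedGroup.2 ⟨⟨g, hgN⟩, hg, rfl⟩, ?_, fun e => hγ1 ?_, ?_, ?_⟩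
  · -- an involution on the lines is one on the points
    have h1 : dualHom (fixP R) (fixL R) (γ * γ) = 1 := by
      refine eq_one_of_fix_all (fun x => ?_)
      apply Subtype.ext
      change g • g • (x.1 : L) = x.1
      have h0 := congrArg (fun q : Col (fixP (R.map (dualHom P L))) (fixL (R.map (dualHom P L))) =>
        ((q • (⟨_, hl x⟩ : fixP (R.map (dualHom P L))) : fixP (R.map (dualHom P L))) : Dual L)) hγ2
      simp only [mul_smul, one_smul, restrictCol_point, ← hgg'] at h0
      exact h0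
    exact dualHom_injective _ _ (h1.trans (map_one _).symm)
  · refine eq_one_of_fix_all (fun y => Subtype.ext ?_)
    have hy : (show L from (y : Dual L)) ∈ fixL R := fun r hr =>
      y.2 _ (Subgroup.mem_map_of_mem _ hr)
    have h0 := congrArg (fun q : Col (fixP R) (fixL R) =>
      ((q • (⟨_, hy⟩ : fixL R) : fixL R) : L)) e
    simp only [one_smul, hγ, restrictCol_line] at h0
    rw [restrictCol_point, ← hgg']
    exact h0
  · exact Subtype.ext ((hact l).trans (congrArg Subtype.val hγl))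
  · exact Subtype.ext ((hact m).trans (congrArg Subtype.val hγm))

/-- Brick C. -/
theorem bottom (hD : PlanePowBrick.{u, w}) : BottomBrick.{u, w} := by
  intro P L _ _ _ _ G h2 hodd hno
  classical
  obtain ⟨R, hR, hmax⟩ := Set.Finite.exists_maximalFor (fun S : Subgroup (Col P L) => Nat.card S)
    {S | S ≤ G ∧ IsPGroup 2 S ∧ HasQuad S} (Set.toFinite _)
    ⟨⊥, bot_le, IsPGroup.of_bot, hasQuad_bot⟩
  have hm : MaxQuad G R := ⟨hR.1, hR.2.1, hR.2.2, fun S h1 h2' h3 => by
    by_contra hlt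
    exact hlt (hmax ⟨h1, h2', h3⟩ (le_of_not_ge hlt))⟩
  letI := subPlane hR.2.2
  obtain ⟨i, hi⟩ := order_tower R hR.2.1 hR.2.2
  have hk : IsPrimePow (ProjectivePlane.order (fixP R) (fixL R)) := by
    refine hD (fixP R) (fixL R) (inducedGroup G R) ?_ (fun g hg h1 h2' => hm.persp hg h1 h2')
      (fun X Y hXY => hm.pair h2 hXY) (fun l m hlm => hm.pair_lines h2 hlm)
    rw [hi] at hodd
    exact (Nat.odd_pow_iff (pow_pos two_pos i).ne').1 hodd
  rw [hi]
  exact hk.pow (pow_pos two_pos i).ne'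

end Cfsg.Agent.Lib.Ostrom64
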