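import Cfsg.Agent.Lib.Ostrom64.CoordSpread
import Mathlib.LinearAlgebra.Projectivization.Basic
import Mathlib.LinearAlgebra.FiniteDimensional.Basic
import Mathlib.RingTheory.IntegralDomain

/-!
Brick G: a plane in which every line is a translation line is Desarguesian.
-/

set_option autoImplicit false
set_option linter.unusedSectionVars false

namespace Cfsg.Agent.Lib.Ostrom64

open Configuration Matrix Coord

universe u w

variable {P : Type u} {L : Type w} [Membership P L] [ProjectivePlane P L] [Finite P] [Finite L]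
  {p m : ℕ} [Fact p.Prime] (F : Frame P L p m)

section Algebra

variable {S : Type} [Field S]

/-- The linear form with given coefficients. -/
def Coord.form (c : Fin 3 → S) : (Fin 3 → S) →ₗ[S] S :=
  ∑ i, c i • LinearMap.proj i

theorem Coord.form_apply (c r : Fin 3 → S) :
    Coord.form c r = c 0 * r 0 + c 1 * r 1 + c 2 * r 2 := by
  simp [Coord.form, Fin.sum_univ_three]

theorem Coord.finrank_ker_form {c : Fin 3 → S} (hc : c ≠ 0) :
    Module.finrank S (LinearMap.ker (Coord.form c)) = 2 := by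
  have h := LinearMap.finrank_range_add_finrank_ker (Coord.form c)
  have htop : LinearMap.range (Coord.form c) = ⊤ := by
    refine LinearMap.range_eq_top.2 fun y => ?_
    obtain ⟨i, hi⟩ := Function.ne_iff.1 hc
    exact ⟨Pi.single i (y / c i), by
      rw [Coord.form_apply]
      fin_cases i <;> simp_all [mul_div_cancel₀]⟩
  rw [htop, finrank_top, Module.finrank_self, Module.finrank_fin_fun] at h
  omega

theorem Coord.mk_le_ker_iff {c r : Fin 3 → S} (hr : r ≠ 0) :
    (Projectivization.mk S r hr).submodule ≤ LinearMap.ker (Coord.form c) ↔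
      c 0 * r 0 + c 1 * r 1 + c 2 * r 2 = 0 := by
  rw [Projectivization.submodule_mk, Submodule.span_singleton_le_iff_mem, LinearMap.mem_ker,
    Coord.form_apply]

/-- A bijection with homogeneous coordinates, with a form for every line, gives the conclusion. -/
theorem Coord.desarguesian_of_coordinates [Fintype S] (crd : P → Fin 3 → S) (hne : ∀ q, crd q ≠ 0)
    (hinj : ∀ q q', ∀ a : S, a • crd q' = crd q → q = q')
    (hsurj : ∀ r : Fin 3 → S, r ≠ 0 → ∃ q, ∃ a : S, a • r = crd q)
    (hline : ∀ k : L, ∃ c : Fin 3 → S, c ≠ 0 ∧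
      ∀ q : P, q ∈ k ↔ c 0 * crd q 0 + c 1 * crd q 1 + c 2 * crd q 2 = 0) :
    Desarguesian P L := by
  classical
  let φ : P ≃ Projectivization S (Fin 3 → S) :=
    Equiv.ofBijective (fun q => Projectivization.mk S (crd q) (hne q))
      ⟨fun q q' h => by
        obtain ⟨a, ha⟩ := (Projectivization.mk_eq_mk_iff' S _ _ (hne q) (hne q')).1 h
        exact hinj q q' a ha,
      fun x => by
        induction x using Projectivization.ind with
        | h r hr =>
          obtain ⟨q, a, ha⟩ := hsurj r hr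
          exact ⟨q, (Projectivization.mk_eq_mk_iff' S _ _ (hne q) hr).2 ⟨a, ha⟩⟩⟩
  have hmem : ∀ k : L, ∃ W : Submodule S (Fin 3 → S), Module.finrank S W = 2 ∧
      ∀ q : P, q ∈ k ↔ (φ q).submodule ≤ W := by
    intro k
    obtain ⟨c, hc, hk⟩ := hline k
    exact ⟨_, finrank_ker_form hc, fun q => (hk q).trans (mk_le_ker_iff (hne q)).symm⟩
  refine ⟨S, inferInstance, inferInstance, φ, hmem, fun W hW => ?_⟩
  let b := Module.finBasisOfFinrankEq S W hW
  have hb : ∀ i, ((b i : W) : Fin 3 → S) ≠ 0 := fun i h => b.ne_zero i (Subtype.ext h)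
  have hne' : φ.symm (Projectivization.mk S _ (hb 0)) ≠ φ.symm (Projectivization.mk S _ (hb 1)) := by
    intro h
    obtain ⟨a, ha⟩ := (Projectivization.mk_eq_mk_iff' S _ _ (hb 0) (hb 1)).1 (φ.symm.injective h)
    have h2 : a • b 1 = b 0 := Subtype.ext ha
    have h3 := congrArg (fun x => b.repr x 0) h2
    simp at h3
  obtain ⟨k, h0, h1⟩ := exists_line L _ _ hne'
  obtain ⟨W', hW', hk⟩ := hmem k
  have hle : W ≤ W' := by
    intro x hx
    have h2 := b.sum_repr ⟨x, hx⟩
    rw [Fin.sum_univ_two] at h2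
    have hin : ∀ i : Fin 2, φ.symm (Projectivization.mk S _ (hb i)) ∈ k → ((b i : W) : Fin 3 → S) ∈ W' := by
      intro i hi
      have := (hk _).1 hi
      rwa [Equiv.apply_symm_apply, Projectivization.submodule_mk,
        Submodule.span_singleton_le_iff_mem] at this
    rw [show x = ((⟨x, hx⟩ : W) : Fin 3 → S) from rfl, ← h2]
    exact add_mem (Submodule.smul_mem _ _ (hin 0 h0)) (Submodule.smul_mem _ _ (hin 1 h1))
  obtain rfl := Submodule.eq_of_le_of_finrank_eq hle (hW.trans hW'.symm)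
  exact ⟨k, hk⟩

end Algebra

include F in
theorem Coord.exists_coordinates (hF : SpreadBrick) (hm : 0 < m) (hAT : AllTranslation P L) :
    Desarguesian P L := by
  classical
  cases nonempty_fintype (F.spreadRing hF hm hAT)
  letI fld : Field (F.spreadRing hF hm hAT) := (F.spreadRing_isField hF hm hAT).toField


  let θ₀ : ↥(F.spreadRing hF hm hAT) → Vec p m := fun A => A.1 *ᵥ Pi.single ⟨0, hm⟩ 1
  have hθinj : Function.Injective θ₀ := by
    intro A B h
    by_contra hne
    have hne' : A.1 - B.1 ≠ 0 := sub_ne_zero.2 fun e => hne (Subtype.ext e)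
    have hu := F.isUnit_of_mem hAT (sub_mem A.2 B.2) hne'
    have h2 : (A.1 - B.1) *ᵥ Pi.single ⟨0, hm⟩ 1 = 0 := by
      rw [sub_mulVec]; exact sub_eq_zero.2 h
    have h3 := congrArg ((A.1 - B.1)⁻¹ *ᵥ ·) h2
    simp only [mulVec_mulVec, Matrix.nonsing_inv_mul _ (Frame.det_of_isUnit hu), one_mulVec,
      mulVec_zero] at h3
    simpa using congrFun h3 ⟨0, hm⟩
  have hθbij : Function.Bijective θ₀ := hθinj.bijective_of_nat_card_le (by
    rw [Nat.card_fun, Nat.card_fin, Nat.card_zmod]
    exact (F.card_spreadSet hAT).ge)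
  let θ : ↥(F.spreadRing hF hm hAT) ≃ Vec p m := Equiv.ofBijective θ₀ hθbij
  have hθmul : ∀ A B, θ (A * B) = A.1 *ᵥ θ B := fun A B => (mulVec_mulVec _ A.1 B.1).symm
  have hθadd : ∀ A B, θ (A + B) = θ A + θ B := fun A B => add_mulVec A.1 B.1 _
  have hθsub : ∀ A B, θ (A - B) = θ A - θ B := fun A B => by
    rw [eq_sub_iff_add_eq, ← hθadd, sub_add_cancel]
  -- homogeneous coordinates
  have hv : ∀ q : P, ∃ v, q ∉ F.l → F.pt v = q := fun q => by
    by_cases hq : q ∈ F.l
    · exact ⟨0, fun h => absurd hq h⟩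
    · exact (F.pt_surj hAT hq).imp fun _ e _ => e
  choose cv hcv using hv
  have hcvpt : ∀ v, cv (F.pt v) = v := fun v => F.pt_injective (hcv _ (F.pt_not_mem v))
  have hd : ∀ q : P, ∃ A : ↥(F.spreadRing hF hm hAT), q ∈ F.l → q ≠ F.Ci → F.mat q = A.1 := fun q => by
    by_cases hq : q ∈ F.l ∧ q ≠ F.Ci
    · exact ⟨⟨F.mat q, q, hq.1, hq.2, rfl⟩, fun _ _ => rfl⟩
    · exact ⟨0, fun h h' => absurd ⟨h, h'⟩ hq⟩
  choose cd hcd using hd
  obtain ⟨crd, hcrd⟩ : ∃ crd : P → Fin 3 → ↥(F.spreadRing hF hm hAT), crd = fun q =>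
      if q ∈ F.l then (if q = F.Ci then ![0, 0, 1] else ![0, 1, cd q])
      else ![1, θ.symm (cv q).1, θ.symm (cv q).2] := ⟨_, rfl⟩
  have hi : crd F.Ci = ![0, 0, 1] := by rw [hcrd]; simp [F.hi]
  have hd' : ∀ q, q ∈ F.l → q ≠ F.Ci → crd q = ![0, 1, cd q] := fun q h h' => by
    rw [hcrd]; simp [h, h']
  have ha : ∀ q, q ∉ F.l → crd q = ![1, θ.symm (cv q).1, θ.symm (cv q).2] := fun q h => by
    rw [hcrd]; simp [h]
  have hcases : ∀ q, q ∉ F.l ∨ (q ∈ F.l ∧ q ≠ F.Ci) ∨ q = F.Ci := fun q => by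
    by_cases h : q ∈ F.l <;> by_cases h' : q = F.Ci <;> simp [h, h']
  refine Coord.desarguesian_of_coordinates crd (fun q e => ?_) (fun q q' a e => ?_) (fun r hr => ?_)
    (fun k => ?_)
  · rcases hcases q with h | ⟨h, h'⟩ | rfl
    · simpa [ha q h] using congrFun e 0
    · simpa [hd' q h h'] using congrFun e 1
    · simpa [hi] using congrFun e 2
  · have e0 := congrFun e 0
    have e1 := congrFun e 1
    have e2 := congrFun e 2
    rcases hcases q with h | ⟨h, h'⟩ | rfl <;> rcases hcases q' with g | ⟨g, g'⟩ | rfl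
    · simp [ha q h, ha q' g] at e0 e1 e2
      subst e0
      simp at e1 e2
      rw [← hcv q h, ← hcv q' g]
      congr 1
      exact (Prod.ext e1 e2).symm
    · simp [ha q h, hd' q' g g'] at e0
    · simp [ha q h, hi] at e0
    · simp [hd' q h h', ha q' g] at e0 e1
      simp [e0] at e1
    · simp [hd' q h h', hd' q' g g'] at e1 e2
      subst e1
      rw [one_mul] at e2
      exact F.mat_injective hAT h h' g g' ((hcd q h h').trans ((congrArg Subtype.val e2.symm).trans
        (hcd q' g g').symm))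
    · simp [hd' q h h', hi] at e1
    · simp [hi, ha q' g] at e0 e2
      simp [e0] at e2
    · simp [hi, hd' q' g g'] at e1 e2
      simp [e1] at e2
    · rfl
  · by_cases h0 : r 0 = 0
    · by_cases h1 : r 1 = 0
      · have h2 : r 2 ≠ 0 := fun h2 => hr (funext fun i => by fin_cases i <;> assumption)
        exact ⟨F.Ci, (r 2)⁻¹, by rw [hi]; funext i; fin_cases i <;> simp [h0, h1, h2]⟩
      · obtain ⟨C, hC, hCi, hCm⟩ := ((r 1)⁻¹ * r 2).2
        refine ⟨C, (r 1)⁻¹, ?_⟩
        rw [hd' C hC hCi, show cd C = (r 1)⁻¹ * r 2 from Subtype.ext ((hcd C hC hCi).symm.trans hCm)]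
        funext i
        fin_cases i <;> simp [h0, h1]
    · refine ⟨F.pt (θ ((r 0)⁻¹ * r 1), θ ((r 0)⁻¹ * r 2)), (r 0)⁻¹, ?_⟩
      rw [ha _ (F.pt_not_mem _), hcvpt]
      funext i
      fin_cases i <;> simp [h0]
  · by_cases hk : k = F.l
    · subst hk
      refine ⟨![1, 0, 0], fun e => by simpa using congrFun e 0, fun q => ?_⟩
      rcases hcases q with h | ⟨h, h'⟩ | rfl
      · simp [ha q h, h]
      · simp [hd' q h h', h]
      · simp [hi, F.hi]
    obtain ⟨C, hCk, hC⟩ := exists_point P k F.l hk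
    obtain ⟨q₀, hq₀k, hq₀C⟩ := exists_other k C
    have hq₀ : q₀ ∉ F.l := fun h => hq₀C (eq_of_mem hk hq₀k h hCk hC)
    have hpt : ∀ q, q ∉ F.l → (q ∈ k ↔ F.τ (cv q - cv q₀) ∈ elatC C F.l) := fun q hq => by
      conv_lhs => rw [← hcv q hq]
      exact F.pt_mem_iff hC hCk hk (by rw [hcv q₀ hq₀]; exact hq₀k) _
    have hinf : ∀ q, q ∈ F.l → (q ∈ k ↔ q = C) := fun q hq =>
      ⟨fun h => eq_of_mem hk h hq hCk hC, fun h => h ▸ hCk⟩
    by_cases hCi : C = F.Ci
    · subst hCi
      refine ⟨![-θ.symm (cv q₀).1, 1, 0], fun e => by simpa using congrFun e 1, fun q => ?_⟩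
      rcases hcases q with h | ⟨h, h'⟩ | rfl
      · rw [hpt q h, F.diri, Prod.fst_sub, sub_eq_zero, ha q h]
        simp only [cons_val_zero, cons_val_one, cons_val_two, Matrix.head_cons, Matrix.tail_cons,
          mul_one, one_mul, zero_mul, add_zero]
        rw [neg_add_eq_zero, θ.symm.injective.eq_iff, eq_comm]
      · rw [hinf q h, hd' q h h']
        simp [h']
      · rw [hinf _ hC, hi]
        simp
    · refine ⟨![cd C * θ.symm (cv q₀).1 - θ.symm (cv q₀).2, -cd C, 1],
        fun e => by simpa using congrFun e 2, fun q => ?_⟩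
      rcases hcases q with h | ⟨h, h'⟩ | rfl
      · rw [hpt q h, show F.τ (cv q - cv q₀) ∈ elatC C F.l ↔
            (cv q).2 - (cv q₀).2 = F.mat C *ᵥ ((cv q).1 - (cv q₀).1) from F.mat_spec hAT hC hCi _ _,
          hcd C hC hCi]
        conv_lhs =>
          rw [← θ.apply_symm_apply (cv q).1, ← θ.apply_symm_apply (cv q).2,
            ← θ.apply_symm_apply (cv q₀).1, ← θ.apply_symm_apply (cv q₀).2, ← hθsub, ← hθsub,
            ← hθmul, θ.injective.eq_iff, ← sub_eq_zero]
        rw [ha q h]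
        simp only [cons_val_zero, cons_val_one, cons_val_two, Matrix.head_cons, Matrix.tail_cons]
        refine Eq.congr_left ?_
        ring
      · rw [hinf q h, hd' q h h']
        simp only [cons_val_zero, cons_val_one, cons_val_two, Matrix.head_cons, Matrix.tail_cons]
        rw [mul_zero, zero_add, mul_one, one_mul, neg_add_eq_zero]
        constructor
        · rintro rfl; rfl
        · intro e
          exact F.mat_injective hAT h h' hC hCi ((hcd q h h').trans ((congrArg Subtype.val e.symm).trans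
            (hcd C hC hCi).symm))
      · rw [hinf _ F.hi, hi]
        simp [Ne.symm hCi]

theorem coord : CoordBrick.{u, w} := by
  intro hF P L _ _ _ _ hAT
  obtain ⟨p, m, hp, hm, ⟨F⟩⟩ := Coord.exists_frame hAT
  exact Coord.exists_coordinates F hF hm hAT

end Cfsg.Agent.Lib.Ostrom64
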