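import Cfsg.Agent.Lib.Ostrom64.Spec

/-!
The translation group of a translation line: transitive directions, commutative, prime exponent.
-/

set_option autoImplicit false
set_option linter.unusedSectionVars false

namespace Cfsg.Agent.Lib.Ostrom64.Coord

open Configuration Cfsg.Agent.Lib.Ostrom64

universe u w

variable {P : Type u} {L : Type w} [Membership P L] [ProjectivePlane P L] [Finite P] [Finite L]

theorem elatC_le (C : P) (l : L) : elatC C l ≤ elat P l := inf_le_left

theorem conj_of_fix {g t : Col P L} {C : P} {l : L} (hg : g ∈ elatC C l) (hl : t • l = l)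
    (hC : t • C = C) : t * g * t⁻¹ ∈ elatC C l := by
  have h := elatC_conj hg t
  rwa [hl, hC] at h

/-- The elation moving `p` to a point of the line through `C` has centre `C`. -/
theorem mem_elatC_of_moves {g : Col P L} {C : P} {l m : L} (hg : g ∈ elat P l) (hC : C ∈ l)
    (hCm : C ∈ m) (hml : m ≠ l) {p : P} (hp : p ∈ m) (hpl : p ∉ l) (hq : g • p ∈ m) :
    g ∈ elatC C l := by
  by_cases h1 : g = 1
  · subst h1; exact one_mem _
  obtain ⟨D, hDl, hD⟩ := exists_centre_of_mem_elat hg
  have hne : g • p ≠ p := fun e => h1 (elat_free hg hpl e)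
  obtain ⟨k, hDk, hpk⟩ := exists_line L D p (fun e => hpl (e ▸ hDl))
  have hgk : g • p ∈ k := mem_of_fix g (hD.2 k hDk) hpk
  have hkm : k = m := line_eq hne hgk hpk hq hp
  subst hkm
  rwa [eq_of_mem hml hCm hC hDk hDl]

/-- Elations with centre `C` move points along the lines through `C`. -/
theorem smul_mem_of_elatC {g : Col P L} {C : P} {l m : L} (hg : g ∈ elatC C l) (hCm : C ∈ m)
    {p : P} (hp : p ∈ m) : g • p ∈ m :=
  mem_of_fix g (hg.2 m hCm) hp

theorem exists_translation (hAT : AllTranslation P L) {C : P} {l m : L} (hC : C ∈ l) (hCm : C ∈ m)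
    (hml : m ≠ l) {p q : P} (hp : p ∈ m) (hpl : p ∉ l) (hq : q ∈ m) (hql : q ∉ l) :
    ∃ g ∈ elatC C l, g • p = q := by
  obtain ⟨g, hg, rfl⟩ := hAT l p q hpl hql
  exact ⟨g, mem_elatC_of_moves hg hC hCm hml hp hpl hq, rfl⟩

theorem card_line_off {C : P} {l m : L} (hC : C ∈ l) (hCm : C ∈ m) (hml : m ≠ l) :
    Nat.card {p : P // p ∈ m ∧ p ∉ l} = ProjectivePlane.order P L := by
  classical
  have hset : {p : P | p ∈ m} = insert C {p : P | p ∈ m ∧ p ∉ l} := by
    ext p
    simp only [Set.mem_setOf_eq, Set.mem_insert_iff]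
    constructor
    · intro hp
      by_cases hpl : p ∈ l
      · exact Or.inl (eq_of_mem hml hp hpl hCm hC)
      · exact Or.inr ⟨hp, hpl⟩
    · rintro (rfl | h)
      · exact hCm
      · exact h.1
  have h := card_on_line (P := P) m
  rw [← Set.coe_setOf, Nat.card_coe_set_eq, hset, Set.ncard_insert_of_notMem (fun h => h.2 hC) (Set.toFinite _),
    ← Nat.card_coe_set_eq] at h
  simp only [Set.coe_setOf] at h
  omega

theorem card_elatC (hAT : AllTranslation P L) {C : P} {l : L} (hC : C ∈ l) :
    Nat.card (elatC C l) = ProjectivePlane.order P L := by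
  classical
  obtain ⟨m, hCm, hml⟩ := exists_other_line (P := P) C l
  obtain ⟨p, hpm, hpC⟩ := exists_other m C
  have hpl : p ∉ l := fun h => hpC (eq_of_mem hml hpm h hCm hC)
  rw [← card_line_off hC hCm hml]
  refine Nat.card_congr (Equiv.ofBijective (fun g => ⟨(g : Col P L) • p, smul_mem_of_elatC g.2 hCm hpm,
    fun h => hpl (by
      have h1 := elat_isAxis (inv_mem (elatC_le _ _ g.2)) _ h
      rw [inv_smul_smul] at h1
      exact h1 ▸ h)⟩) ⟨fun g g' h => ?_, fun q => ?_⟩)
  · have h' : (g : Col P L) • p = (g' : Col P L) • p := congrArg Subtype.val h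
    have h1 : ((g' : Col P L)⁻¹ * g) = 1 := elat_free (mul_mem (inv_mem (elatC_le _ _ g'.2))
      (elatC_le _ _ g.2)) hpl (by rw [mul_smul, h', inv_smul_smul])
    exact Subtype.ext (inv_mul_eq_one.1 h1).symm
  · obtain ⟨g, hg, e⟩ := exists_translation hAT hC hCm hml hpm hpl q.2.1 q.2.2
    exact ⟨⟨g, hg⟩, Subtype.ext e⟩

theorem exists_ne_one (hAT : AllTranslation P L) {C : P} {l : L} (hC : C ∈ l) :
    ∃ g ∈ elatC C l, g ≠ 1 := by
  by_contra! h
  have hb : elatC C l = ⊥ := (Subgroup.eq_bot_iff_forall _).2 h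
  have := card_elatC hAT hC
  rw [hb, Subgroup.card_bot] at this
  have := ProjectivePlane.one_lt_order P L
  omega

theorem commute_of_ne {g h : Col P L} {C D : P} {l : L} (hC : C ∈ l) (hD : D ∈ l) (hCD : C ≠ D)
    (hg : g ∈ elatC C l) (hh : h ∈ elatC D l) : g * h = h * g := by
  refine commutatorElement_eq_one_iff_mul_comm.1 (elatC_inf hCD (l := l) ?_ ?_)
  · rw [commutatorElement_def, show g * h * g⁻¹ * h⁻¹ = g * (h * g⁻¹ * h⁻¹) by group]
    exact mul_mem hg (conj_of_fix (inv_mem hg) hh.1.1.smul_line (elat_isAxis hh.1 C hC))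
  · rw [commutatorElement_def]
    exact mul_mem (conj_of_fix hh hg.1.1.smul_line (elat_isAxis hg.1 D hD)) (inv_mem hh)

theorem elat_comm (hAT : AllTranslation P L) {l : L} {g h : Col P L} (hg : g ∈ elat P l)
    (hh : h ∈ elat P l) : g * h = h * g := by
  obtain ⟨C, hC, hgC⟩ := exists_centre_of_mem_elat hg
  obtain ⟨D, hD, hhD⟩ := exists_centre_of_mem_elat hh
  by_cases hCD : C = D
  · subst hCD
    obtain ⟨E, hE, hEC⟩ := exists_other l C
    obtain ⟨k, hk, hk1⟩ := exists_ne_one hAT hE
    obtain ⟨F, hF, hhk⟩ := exists_centre_of_mem_elat (mul_mem hh hk.1)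
    have hkC : k ∉ elatC C l := fun h' => hk1 (elatC_inf hEC hk h')
    have hFC : C ≠ F := by
      rintro rfl
      refine hkC ?_
      have := mul_mem (inv_mem hhD) hhk
      rwa [inv_mul_cancel_left] at this
    have h1 := commute_of_ne hC hF hFC hgC hhk
    have h2 := commute_of_ne hC hE (Ne.symm hEC) hgC hk
    rw [← mul_assoc, mul_assoc h, ← h2, ← mul_assoc] at h1
    exact mul_right_cancel h1
  · exact commute_of_ne hC hD hCD hgC hhD

theorem exists_prime (hAT : AllTranslation P L) (l : L) :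
    ∃ p : ℕ, p.Prime ∧ ∀ g ∈ elat P l, g ^ p = 1 := by
  classical
  obtain ⟨C, hC, -⟩ := exists_third l (Classical.choose
    (Configuration.ProjectivePlane.exists_config (P := P) (L := L))) (Classical.choose
    (Configuration.ProjectivePlane.exists_config (P := P) (L := L)))
  set p := (ProjectivePlane.order P L).minFac
  have hp : p.Prime := Nat.minFac_prime (by have := ProjectivePlane.one_lt_order P L; omega)
  have := Fact.mk hp
  obtain ⟨e, he⟩ := exists_prime_orderOf_dvd_card' (G := elatC C l) p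
    (by rw [card_elatC hAT hC]; exact Nat.minFac_dvd _)
  have heo : orderOf (e : Col P L) = p := by rwa [Subgroup.orderOf_coe]
  have hep : (e : Col P L) ^ p = 1 := by rw [← heo]; exact pow_orderOf_eq_one _
  have he1 : (e : Col P L) ≠ 1 := fun h => by
    rw [h, orderOf_one] at heo
    exact hp.one_lt.ne heo
  -- everything with another centre
  have step : ∀ (A : P) (a : Col P L), A ∈ l → a ∈ elatC A l → a ^ p = 1 → a ≠ 1 →
      ∀ (B : P) (b : Col P L), B ∈ l → b ∈ elatC B l → A ≠ B → b ^ p = 1 := by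
    intro A a hA ha hap ha1 B b hB hb hAB
    obtain ⟨F, hF, hab⟩ := exists_centre_of_mem_elat (mul_mem ha.1 hb.1)
    have hFB : B ≠ F := by
      rintro rfl
      refine ha1 (elatC_inf hAB ha ?_)
      have := mul_mem hab (inv_mem hb)
      rwa [mul_inv_cancel_right] at this
    refine elatC_inf hFB (pow_mem hb p) ?_
    have := pow_mem hab p
    rwa [(show Commute a b from elat_comm hAT ha.1 hb.1).mul_pow, hap, one_mul] at this
  refine ⟨p, hp, fun g hg => ?_⟩
  obtain ⟨D, hD, hgD⟩ := exists_centre_of_mem_elat hg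
  by_cases hCD : C = D
  · subst hCD
    obtain ⟨E, hE, hEC⟩ := exists_other l C
    obtain ⟨k, hk, hk1⟩ := exists_ne_one hAT hE
    exact step E k hE hk (step C e hC e.2 hep he1 E k hE hk (Ne.symm hEC)) hk1 C g hC hgD hEC
  · exact step C e hC e.2 hep he1 D g hD hgD hCD

end Cfsg.Agent.Lib.Ostrom64.Coord
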