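import Cfsg.Agent.Lib.Ostrom64.CoordElat
import Mathlib.Algebra.Module.ZMod
import Mathlib.FieldTheory.Finiteness
import Mathlib.LinearAlgebra.FreeModule.Finite.Basic
import Mathlib.LinearAlgebra.Matrix.ToLin
import Mathlib.LinearAlgebra.Dimension.Free
import Mathlib.Algebra.Field.ZMod
import Mathlib.LinearAlgebra.FiniteDimensional.Basic

/-!
Coordinates on the translation group of a translation line, and the matrices of the directions.
-/

set_option autoImplicit false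
set_option linter.unusedSectionVars false

namespace Cfsg.Agent.Lib.Ostrom64.Coord

open Configuration Cfsg.Agent.Lib.Ostrom64 Matrix

universe u w

variable {P : Type u} {L : Type w} [Membership P L] [ProjectivePlane P L] [Finite P] [Finite L]

/-- A product decomposition along two directions. -/
theorem exists_mul (hAT : AllTranslation P L) {A B : P} {l : L} (hA : A ∈ l) (hB : B ∈ l)
    (hAB : A ≠ B) {O : P} (hO : O ∉ l) {g : Col P L} (hg : g ∈ elat P l) :
    ∃ a ∈ elatC A l, ∃ b ∈ elatC B l, g = a * b := by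
  obtain ⟨mA, hmA, hOA⟩ := exists_line L A O (fun e => hO (e ▸ hA))
  have hgO : g • O ∉ l := fun h => hO (by
    have h1 := elat_isAxis (inv_mem hg) _ h
    rw [inv_smul_smul] at h1
    exact h1 ▸ h)
  obtain ⟨mB, hmB, hOB⟩ := exists_line L B (g • O) (fun e => hgO (e ▸ hB))
  have hmAl : mA ≠ l := fun e => hO (e ▸ hOA)
  have hmBl : mB ≠ l := fun e => hgO (e ▸ hOB)
  have hne : mA ≠ mB := fun e => hAB (eq_of_mem hmAl hmA hA (e ▸ hmB) hB)
  obtain ⟨q, hqA, hqB⟩ := exists_point P mA mB hne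
  have hql : q ∉ l := fun h => hAB ((eq_of_mem hmAl hmA hA hqA h).trans
    (eq_of_mem hmBl hqB h hmB hB))
  obtain ⟨a, ha, haO⟩ := exists_translation hAT hA hmA hmAl hOA hO hqA hql
  obtain ⟨b, hb, hbq⟩ := exists_translation hAT hB hmB hmBl hqB hql hOB hgO
  refine ⟨a, ha, b, hb, ?_⟩
  rw [elat_comm hAT ha.1 hb.1]
  exact (inv_mul_eq_one.1 (elat_free (mul_mem (inv_mem hg) (mul_mem hb.1 ha.1)) hO
    (by rw [mul_smul, mul_smul, haO, hbq, inv_smul_smul])))

/-- An element of one direction is completed to any third direction inside a second one. -/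
theorem exists_comp (hAT : AllTranslation P L) {A B C : P} {l : L} (hB : B ∈ l) (hC : C ∈ l)
    (hBC : B ≠ C) {O : P} (hO : O ∉ l) {a : Col P L} (ha : a ∈ elatC A l) :
    ∃ b ∈ elatC B l, a * b ∈ elatC C l := by
  obtain ⟨c, hc, b, hb, e⟩ := exists_mul hAT hC hB (Ne.symm hBC) hO ha.1
  exact ⟨b⁻¹, inv_mem hb, by rw [e, mul_inv_cancel_right]; exact hc⟩

theorem comp_unique {B C : P} {l : L} (hBC : B ≠ C) {a b b' : Col P L} (hb : b ∈ elatC B l)
    (hb' : b' ∈ elatC B l) (h : a * b ∈ elatC C l) (h' : a * b' ∈ elatC C l) : b = b' := by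
  refine inv_mul_eq_one.1 (elatC_inf hBC (mul_mem (inv_mem hb) hb') ?_)
  have := mul_mem (inv_mem h) h'
  rwa [_root_.mul_inv_rev, mul_assoc, inv_mul_cancel_left] at this

/-- The space of coordinates of one direction. -/
abbrev Vec (p m : ℕ) := Fin m → ZMod p

/-- Coordinates of the translations of a line. -/
structure Frame (P : Type u) (L : Type w) [Membership P L] [ProjectivePlane P L] [Finite P]
    [Finite L] (p m : ℕ) where
  l : L
  O : P
  C0 : P
  C1 : P
  Ci : P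
  hO : O ∉ l
  h0 : C0 ∈ l
  h1 : C1 ∈ l
  hi : Ci ∈ l
  ne01 : C0 ≠ C1
  ne0i : C0 ≠ Ci
  ne1i : C1 ≠ Ci
  τ : Vec p m × Vec p m → Col P L
  map_add : ∀ v v', τ (v + v') = τ v * τ v'
  inj : Function.Injective τ
  mem : ∀ v, τ v ∈ elat P l
  surj : ∀ g ∈ elat P l, ∃ v, τ v = g
  dir0 : ∀ v, τ v ∈ elatC C0 l ↔ v.2 = 0
  diri : ∀ v, τ v ∈ elatC Ci l ↔ v.1 = 0
  dir1 : ∀ v, τ v ∈ elatC C1 l ↔ v.1 = v.2
  hcard : ProjectivePlane.order P L = p ^ m

theorem exists_frame (hAT : AllTranslation P L) :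
    ∃ (p m : ℕ) (_ : Fact p.Prime), 0 < m ∧ Nonempty (Frame P L p m) := by
  classical
  obtain ⟨x₁, x₂, x₃, l₁, l₂, l₃, -⟩ :=
    Configuration.ProjectivePlane.exists_config (P := P) (L := L)
  set l := l₁
  obtain ⟨C0, h0, -⟩ := exists_other l x₁
  obtain ⟨Ci, hi, nei0⟩ := exists_other l C0
  obtain ⟨C1, h1, ne10, ne1i⟩ := exists_third l C0 Ci
  obtain ⟨m0, hm0, hm0l⟩ := exists_other_line (P := P) C0 l
  obtain ⟨O, hOm, hOC⟩ := exists_other m0 C0
  have hO : O ∉ l := fun h => hOC (eq_of_mem hm0l hOm h hm0 h0)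
  obtain ⟨p, hp, hexp⟩ := exists_prime hAT l
  haveI := Fact.mk hp
  letI : CommGroup (elatC C0 l) :=
    { (inferInstance : Group (elatC C0 l)) with
      mul_comm := fun a b => Subtype.ext (elat_comm hAT a.2.1 b.2.1) }
  have hmod : Nonempty (Module (ZMod p) (Additive (elatC C0 l))) :=
    ⟨AddCommGroup.zmodModule fun x => Additive.toMul.injective (by
      rw [toMul_nsmul]
      exact Subtype.ext (by simpa using hexp _ (Additive.toMul x).2.1))⟩
  obtain ⟨_inst⟩ := hmod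
  haveI : Module.Finite (ZMod p) (Additive (elatC C0 l)) := Module.Finite.of_finite
  set m := Module.finrank (ZMod p) (Additive (elatC C0 l))
  have hcard : ProjectivePlane.order P L = p ^ m := by
    have h : Nat.card (Additive (elatC C0 l)) =
        Nat.card (ZMod p) ^ Module.finrank (ZMod p) (Additive (elatC C0 l)) :=
      Module.natCard_eq_pow_finrank
    rw [Nat.card_zmod] at h
    rw [← card_elatC hAT h0]
    exact (Nat.card_congr Additive.ofMul).trans h
  have hm : 0 < m := Nat.pos_of_ne_zero fun e => by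
    have := ProjectivePlane.one_lt_order P L
    rw [hcard, e, pow_zero] at this
    omega
  let bas : Additive (elatC C0 l) ≃ₗ[ZMod p] Vec p m :=
    (Module.finBasis (ZMod p) (Additive (elatC C0 l))).equivFun
  obtain ⟨α, hα⟩ : ∃ α : Vec p m → Col P L,
      α = fun x => ((Additive.toMul (bas.symm x) : elatC C0 l) : Col P L) := ⟨_, rfl⟩
  have hα0 : ∀ x, α x ∈ elatC C0 l := fun x => hα ▸ SetLike.coe_mem _
  have hαadd : ∀ x y, α (x + y) = α x * α y := fun x y => by rw [hα]; simp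
  have hαinj : Function.Injective α := fun x y h => by
    subst hα
    exact bas.symm.injective (Additive.toMul.injective (Subtype.ext h))
  have hαsurj : ∀ a ∈ elatC C0 l, ∃ x, α x = a := fun a ha =>
    ⟨bas (Additive.ofMul ⟨a, ha⟩), by rw [hα]; simp⟩
  choose β hβ hβ1 using fun x => exists_comp hAT hi h1 (Ne.symm ne1i) hO (hα0 x)
  have hβadd : ∀ x y, β (x + y) = β x * β y := fun x y =>
    comp_unique (Ne.symm ne1i) (hβ _) (mul_mem (hβ x) (hβ y)) (hβ1 (x + y)) (by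
      rw [hαadd, mul_assoc, ← mul_assoc (α y), elat_comm hAT (hα0 y).1 (hβ x).1, mul_assoc (β x),
        ← mul_assoc]
      exact mul_mem (hβ1 x) (hβ1 y))
  have hα00 : α 0 = 1 := by
    have := hαadd 0 0; rwa [add_zero, left_eq_mul] at this
  have hβ00 : β 0 = 1 := by
    have := hβadd 0 0; rwa [add_zero, left_eq_mul] at this
  have hβinj : Function.Injective β := fun x y h => by
    have h2 : α x * (α y)⁻¹ = 1 := by
      refine elatC_inf (A := C0) (B := C1) (Ne.symm ne10) (mul_mem (hα0 x) (inv_mem (hα0 y))) ?_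
      have := mul_mem (hβ1 x) (inv_mem (hβ1 y))
      rwa [h, _root_.mul_inv_rev, mul_assoc, mul_inv_cancel_left] at this
    exact hαinj (mul_inv_eq_one.1 h2)
  have hβsurj : ∀ b ∈ elatC Ci l, ∃ x, β x = b := fun b hb => by
    obtain ⟨a, ha, hba⟩ := exists_comp hAT h0 h1 (Ne.symm ne10) hO hb
    obtain ⟨x, rfl⟩ := hαsurj a ha
    rw [elat_comm hAT hb.1 ha.1] at hba
    exact ⟨x, comp_unique (Ne.symm ne1i) (hβ x) hb (hβ1 x) hba⟩
  refine ⟨p, m, ‹_›, hm, ⟨{
    l := l, O := O, C0 := C0, C1 := C1, Ci := Ci, hO := hO, h0 := h0, h1 := h1, hi := hi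
    ne01 := Ne.symm ne10, ne0i := Ne.symm nei0, ne1i := ne1i
    τ := fun v => α v.1 * β v.2
    map_add := fun v v' => ?_
    inj := fun v v' h => ?_
    mem := fun v => mul_mem (hα0 _).1 (hβ _).1
    surj := fun g hg => ?_
    dir0 := fun v => ?_, diri := fun v => ?_, dir1 := fun v => ?_
    hcard := hcard }⟩⟩
  · simp only [Prod.fst_add, Prod.snd_add, hαadd, hβadd]
    rw [mul_assoc, ← mul_assoc (α v'.1), elat_comm hAT (hα0 v'.1).1 (hβ v.2).1, mul_assoc (β v.2),
      ← mul_assoc]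
  · have h' : (α v'.1)⁻¹ * α v.1 = β v'.2 * (β v.2)⁻¹ := by
      rw [inv_mul_eq_iff_eq_mul, ← mul_assoc]
      exact eq_mul_inv_of_mul_eq h
    have h2 : (α v'.1)⁻¹ * α v.1 = 1 := elatC_inf (A := C0) (B := Ci) (Ne.symm nei0)
      (mul_mem (inv_mem (hα0 _)) (hα0 _)) (h' ▸ mul_mem (hβ _) (inv_mem (hβ _)))
    have h3 := hαinj (inv_mul_eq_one.1 h2).symm
    refine Prod.ext h3 (hβinj ?_)
    have h4 : α v.1 * β v.2 = α v'.1 * β v'.2 := h
    rw [h3] at h4
    exact mul_left_cancel h4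
  · obtain ⟨a, ha, b, hb, rfl⟩ := exists_mul hAT h0 hi (Ne.symm nei0) hO hg
    obtain ⟨x, rfl⟩ := hαsurj a ha
    obtain ⟨y, rfl⟩ := hβsurj b hb
    exact ⟨(x, y), rfl⟩
  · constructor
    · intro h
      have h2 := mul_mem (inv_mem (hα0 v.1)) h
      rw [inv_mul_cancel_left] at h2
      exact hβinj ((elatC_inf (A := Ci) (B := C0) nei0 (hβ _) h2).trans hβ00.symm)
    · intro h
      rw [h, hβ00, mul_one]
      exact hα0 _
  · constructor
    · intro h
      have h2 := mul_mem h (inv_mem (hβ v.2))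
      rw [mul_inv_cancel_right] at h2
      exact hαinj ((elatC_inf (A := C0) (B := Ci) (Ne.symm nei0) (hα0 _) h2).trans hα00.symm)
    · intro h
      rw [h, hα00, one_mul]
      exact hβ _
  · constructor
    · intro h
      exact hβinj (comp_unique (Ne.symm ne1i) (hβ _) (hβ _) (hβ1 v.1) h)
    · intro h
      rw [h]
      exact hβ1 _

namespace Frame

variable {p m : ℕ} (F : Frame P L p m)

/-- The frame with the two axes exchanged. -/
def swap : Frame P L p m where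
  l := F.l
  O := F.O
  C0 := F.Ci
  C1 := F.C1
  Ci := F.C0
  hO := F.hO
  h0 := F.hi
  h1 := F.h1
  hi := F.h0
  ne01 := Ne.symm F.ne1i
  ne0i := Ne.symm F.ne0i
  ne1i := Ne.symm F.ne01
  τ v := F.τ v.swap
  map_add v v' := by rw [Prod.swap_add, F.map_add]
  inj := F.inj.comp Prod.swap_injective
  mem v := F.mem _
  surj g hg := by
    obtain ⟨v, rfl⟩ := F.surj g hg
    exact ⟨v.swap, by rw [Prod.swap_swap]⟩
  dir0 v := F.diri v.swap
  diri v := F.dir0 v.swap
  dir1 v := (F.dir1 v.swap).trans eq_comm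
  hcard := F.hcard

theorem τ_zero : F.τ 0 = 1 := by
  have := F.map_add 0 0
  rwa [add_zero, left_eq_mul] at this

theorem τ_sub (v v' : Vec p m × Vec p m) : F.τ (v - v') = F.τ v * (F.τ v')⁻¹ :=
  eq_mul_inv_of_mul_eq (by rw [← F.map_add, sub_add_cancel])

/-- The affine point with given coordinates. -/
noncomputable def pt (v : Vec p m × Vec p m) : P := F.τ v • F.O

theorem pt_injective : Function.Injective F.pt := fun v v' h =>
  F.inj (inv_mul_eq_one.1 (elat_free (mul_mem (inv_mem (F.mem v')) (F.mem v)) F.hO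
    (by rw [mul_smul]; exact inv_smul_eq_iff.2 h))).symm

theorem pt_not_mem (v : Vec p m × Vec p m) : F.pt v ∉ F.l := fun h => F.hO (by
  have h1 := elat_isAxis (inv_mem (F.mem v)) _ h
  rw [pt, inv_smul_smul] at h1
  exact h1 ▸ h)

theorem pt_surj (hAT : AllTranslation P L) {q : P} (hq : q ∉ F.l) : ∃ v, F.pt v = q := by
  obtain ⟨g, hg, rfl⟩ := hAT F.l F.O q F.hO hq
  obtain ⟨v, rfl⟩ := F.surj g hg
  exact ⟨v, rfl⟩

/-- The points of a line through `C` differ by translations with centre `C`. -/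
theorem pt_mem_iff {C : P} {k : L} (hC : C ∈ F.l) (hCk : C ∈ k) (hk : k ≠ F.l)
    {v₀ : Vec p m × Vec p m} (h₀ : F.pt v₀ ∈ k) (v : Vec p m × Vec p m) :
    F.pt v ∈ k ↔ F.τ (v - v₀) ∈ elatC C F.l := by
  have e : F.pt v = F.τ (v - v₀) • F.pt v₀ := by rw [pt, pt, ← mul_smul, ← F.map_add, sub_add_cancel]
  rw [e]
  exact ⟨fun h => mem_elatC_of_moves (F.mem _) hC hCk hk h₀ (F.pt_not_mem _) h,
    fun h => smul_mem_of_elatC h hCk h₀⟩

/-- The matrix of a direction. -/
noncomputable def mat (C : P) : Matrix (Fin m) (Fin m) (ZMod p) :=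
  Classical.epsilon fun M => ∀ x y, F.τ (x, y) ∈ elatC C F.l ↔ y = M *ᵥ x

theorem mat_spec (hAT : AllTranslation P L) {C : P} (hC : C ∈ F.l) (hCi : C ≠ F.Ci)
    (x y : Vec p m) : F.τ (x, y) ∈ elatC C F.l ↔ y = F.mat C *ᵥ x := by
  refine Classical.epsilon_spec (p := fun M => ∀ x y, F.τ (x, y) ∈ elatC C F.l ↔ y = M *ᵥ x) ?_ x y
  have huniq : ∀ x y y', F.τ (x, y) ∈ elatC C F.l → F.τ (x, y') ∈ elatC C F.l → y = y' := by
    intro x y y' h h'
    have h2 := mul_mem h (inv_mem h')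
    rw [← τ_sub, Prod.mk_sub_mk, sub_self] at h2
    have h3 := F.inj ((elatC_inf hCi h2 ((F.diri _).2 rfl)).trans F.τ_zero.symm)
    exact sub_eq_zero.1 (congrArg Prod.snd h3)
  have hex : ∀ x, ∃ y, F.τ (x, y) ∈ elatC C F.l := by
    intro x
    obtain ⟨b, hb, hab⟩ := exists_comp hAT F.hi hC (Ne.symm hCi) F.hO ((F.dir0 (x, 0)).2 rfl)
    obtain ⟨v, rfl⟩ := F.surj b hb.1
    refine ⟨v.2, ?_⟩
    rw [← F.map_add, show ((x, 0) : Vec p m × Vec p m) + v = (x, v.2) by
      obtain ⟨v1, v2⟩ := v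
      simp [show v1 = 0 from (F.diri _).1 hb]] at hab
    exact hab
  choose f hf using hex
  let fh : Vec p m →+ Vec p m := AddMonoidHom.mk' f fun a b => huniq _ _ _ (hf _) (by
    rw [← Prod.mk_add_mk, F.map_add]
    exact mul_mem (hf a) (hf b))
  refine ⟨LinearMap.toMatrix' (fh.toZModLinearMap p), fun x y => ?_⟩
  rw [LinearMap.toMatrix'_mulVec]
  refine ⟨fun h => huniq _ _ _ h (hf x), fun h => ?_⟩
  subst h
  exact hf x

theorem mat_eq_of (hAT : AllTranslation P L) {C : P} (hC : C ∈ F.l) (hCi : C ≠ F.Ci)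
    {M : Matrix (Fin m) (Fin m) (ZMod p)} (h : ∀ x, F.τ (x, M *ᵥ x) ∈ elatC C F.l) :
    F.mat C = M :=
  Matrix.ext_of_mulVec_single fun i => ((F.mat_spec hAT hC hCi _ _).1 (h _)).symm

theorem mat_C0 (hAT : AllTranslation P L) : F.mat F.C0 = 0 :=
  F.mat_eq_of hAT F.h0 F.ne0i fun x => (F.dir0 _).2 (zero_mulVec x)

theorem mat_C1 (hAT : AllTranslation P L) : F.mat F.C1 = 1 :=
  F.mat_eq_of hAT F.h1 F.ne1i fun x => (F.dir1 _).2 (one_mulVec x).symm

theorem mat_injective (hAT : AllTranslation P L) {C D : P} (hC : C ∈ F.l) (hCi : C ≠ F.Ci)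
    (hD : D ∈ F.l) (hDi : D ≠ F.Ci) (h : F.mat C = F.mat D) : C = D := by
  by_contra hCD
  obtain ⟨g, hg, hg1⟩ := exists_ne_one hAT hC
  obtain ⟨⟨x, y⟩, rfl⟩ := F.surj g hg.1
  exact hg1 (elatC_inf hCD hg ((F.mat_spec hAT hD hDi x y).2 (h ▸ (F.mat_spec hAT hC hCi x y).1 hg)))

/-- An elation moves the directions by a constant. -/
theorem mat_add (hAT : AllTranslation P L) {C D : P} (hC : C ∈ F.l) (hCi : C ≠ F.Ci) (hD : D ∈ F.l)
    (hDi : D ≠ F.Ci) : ∃ E ∈ F.l, E ≠ F.Ci ∧ F.mat E = F.mat C + F.mat D := by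
  obtain ⟨a, hOa, hia⟩ := exists_line L F.O F.Ci (fun e => F.hO (e ▸ F.hi))
  have hla : F.l ≠ a := fun e => F.hO (e.symm ▸ hOa)
  have hn0 : F.C0 ∉ a := fun h => F.ne0i (eq_of_mem hla F.h0 h F.hi hia)
  obtain ⟨e, he, heC⟩ := exists_translation hAT hia F.hi hla F.h0 hn0 hC
    fun h => hCi (eq_of_mem hla hC h F.hi hia)
  have hel : e • F.l = F.l := he.2 _ F.hi
  have hei : e • F.Ci = F.Ci := elat_isAxis he.1 _ hia
  have heO : e • F.O = F.O := elat_isAxis he.1 _ hOa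
  have key : ∀ v, (e * F.τ v * e⁻¹) • F.O = e • F.pt v := fun v => by
    rw [mul_smul, mul_smul, inv_smul_eq_iff.2 heO.symm, pt]
  have hmem : ∀ v, e * F.τ v * e⁻¹ ∈ elat P F.l := fun v => by
    have := elat_conj (F.mem v) e
    rwa [hel] at this
  have hconj : ∀ {A : P} {v}, F.τ v ∈ elatC A F.l → e * F.τ v * e⁻¹ ∈ elatC (e • A) F.l := by
    intro A v h
    have := elatC_conj h e
    rwa [hel] at this
  have hy : ∀ y, e * F.τ (0, y) * e⁻¹ = F.τ (0, y) := fun y =>
    (inv_mul_eq_one.1 (elat_free (mul_mem (inv_mem (F.mem (0, y))) (hmem (0, y))) F.hO (by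
      rw [mul_smul, key, inv_smul_eq_iff]
      exact elat_isAxis he.1 _ (smul_mem_of_elatC ((F.diri _).2 rfl) hia hOa)))).symm
  have hx : ∀ x, e * F.τ (x, 0) * e⁻¹ = F.τ (x, F.mat C *ᵥ x) := fun x => by
    obtain ⟨⟨w1, w2⟩, hw⟩ := F.surj _ (hmem (x, 0))
    have hp : F.pt (w1, w2) = e • F.pt (x, 0) := by rw [← key, ← hw, pt]
    obtain ⟨k, hik, hpk⟩ := exists_line L F.Ci (F.pt (x, 0)) (fun h => F.pt_not_mem _ (h ▸ F.hi))
    have hkl : k ≠ F.l := fun h => F.pt_not_mem _ (h ▸ hpk)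
    have h2 := (F.pt_mem_iff F.hi hik hkl hpk (w1, w2)).1
      (hp ▸ mem_of_fix e (he.2 k hik) hpk)
    have h3 : w1 = x := sub_eq_zero.1 ((F.diri _).1 h2)
    subst h3
    have h4 := hconj ((F.dir0 (w1, 0)).2 rfl)
    rw [heC, ← hw, F.mat_spec hAT hC hCi] at h4
    rw [← hw, h4]
  refine ⟨e • D, ?_, fun h => hDi (MulAction.injective e (h.trans hei.symm)), ?_⟩
  · exact mem_of_fix e hel hD
  · refine F.mat_eq_of hAT (mem_of_fix e hel hD)
      (fun h => hDi (MulAction.injective e (h.trans hei.symm))) fun x => ?_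
    have h := hconj ((F.mat_spec hAT hD hDi x _).2 rfl)
    rwa [show ((x, F.mat D *ᵥ x) : Vec p m × Vec p m) = (x, 0) + (0, F.mat D *ᵥ x) by simp, F.map_add,
      show e * (F.τ (x, 0) * F.τ (0, F.mat D *ᵥ x)) * e⁻¹ =
        (e * F.τ (x, 0) * e⁻¹) * (e * F.τ (0, F.mat D *ᵥ x) * e⁻¹) by group, hx, hy, ← F.map_add,
      Prod.mk_add_mk, add_zero, ← add_mulVec] at h

theorem mat_swap (hAT : AllTranslation P L) {C : P} (hC : C ∈ F.l) (h0 : C ≠ F.C0) (hi : C ≠ F.Ci) :
    F.mat C * F.swap.mat C = 1 := by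
  refine Matrix.ext_of_mulVec_single fun i => ?_
  rw [← mulVec_mulVec, one_mulVec]
  exact ((F.mat_spec hAT hC hi _ _).1 ((F.swap.mat_spec hAT hC h0 (Pi.single i 1) _).2 rfl)).symm

end Frame

end Cfsg.Agent.Lib.Ostrom64.Coord
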