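import Cfsg.Agent.Lib.Ostrom64.CoordFrame
import Mathlib.LinearAlgebra.Matrix.NonsingularInverse

/-!
The matrices of the directions form a spread set closed under `A B A`.
-/

set_option autoImplicit false
set_option linter.unusedSectionVars false

namespace Cfsg.Agent.Lib.Ostrom64.Coord.Frame

open Configuration Cfsg.Agent.Lib.Ostrom64 Cfsg.Agent.Lib.Ostrom64.Coord Matrix

universe u w

variable {P : Type u} {L : Type w} [Membership P L] [ProjectivePlane P L] [Finite P] [Finite L]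
  {p m : ℕ} [Fact p.Prime] (F : Frame P L p m)

/-- The matrices of the directions. -/
noncomputable def spreadSet (hAT : AllTranslation P L) :
    AddSubgroup (Matrix (Fin m) (Fin m) (ZMod p)) where
  carrier := {A | ∃ C ∈ F.l, C ≠ F.Ci ∧ F.mat C = A}
  zero_mem' := ⟨F.C0, F.h0, F.ne0i, F.mat_C0 hAT⟩
  add_mem' := by
    rintro _ _ ⟨C, hC, hCi, rfl⟩ ⟨D, hD, hDi, rfl⟩
    exact F.mat_add hAT hC hCi hD hDi
  neg_mem' := by
    rintro A hA
    have hmul : ∀ k : ℕ, k • A ∈ {A | ∃ C ∈ F.l, C ≠ F.Ci ∧ F.mat C = A} := by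
      intro k
      induction k with
      | zero => exact ⟨F.C0, F.h0, F.ne0i, by rw [zero_smul]; exact F.mat_C0 hAT⟩
      | succ k ih =>
        obtain ⟨C, hC, hCi, rfl⟩ := hA
        obtain ⟨D, hD, hDi, e⟩ := ih
        rw [succ_nsmul, ← e]
        exact F.mat_add hAT hD hDi hC hCi
    have h : (p - 1) • A = -A := by
      rw [← Nat.cast_smul_eq_nsmul (ZMod p), Nat.cast_sub (Nat.Prime.one_le Fact.out),
        ZMod.natCast_self, zero_sub, Nat.cast_one, neg_smul, one_smul]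
    exact h ▸ hmul (p - 1)

theorem mem_spreadSet {hAT : AllTranslation P L} {A : Matrix (Fin m) (Fin m) (ZMod p)} :
    A ∈ F.spreadSet hAT ↔ ∃ C ∈ F.l, C ≠ F.Ci ∧ F.mat C = A := Iff.rfl

theorem one_mem_spreadSet (hAT : AllTranslation P L) : 1 ∈ F.spreadSet hAT :=
  ⟨F.C1, F.h1, F.ne1i, F.mat_C1 hAT⟩

theorem card_spreadSet (hAT : AllTranslation P L) : Nat.card (F.spreadSet hAT) = p ^ m := by
  classical
  have h := card_on_line (P := P) F.l
  have hset : {C : P | C ∈ F.l} = insert F.Ci {C : P | C ∈ F.l ∧ C ≠ F.Ci} := by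
    ext C
    simp only [Set.mem_setOf_eq, Set.mem_insert_iff]
    constructor
    · intro hC
      by_cases h : C = F.Ci
      · exact Or.inl h
      · exact Or.inr ⟨hC, h⟩
    · rintro (rfl | h)
      · exact F.hi
      · exact h.1
  have h' : Nat.card {C : P // C ∈ F.l ∧ C ≠ F.Ci} = p ^ m := by
    rw [← Set.coe_setOf, Nat.card_coe_set_eq, hset,
      Set.ncard_insert_of_notMem (fun h => h.2 rfl) (Set.toFinite _), ← Nat.card_coe_set_eq,
      F.hcard] at h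
    exact Nat.add_right_cancel h
  rw [← h']
  refine (Nat.card_congr (Equiv.ofBijective
    (fun C => (⟨F.mat C.1, C.1, C.2.1, C.2.2, rfl⟩ : F.spreadSet hAT)) ⟨fun C D e => ?_,
      fun A => ?_⟩)).symm
  · exact Subtype.ext (F.mat_injective hAT C.2.1 C.2.2 D.2.1 D.2.2 (congrArg Subtype.val e))
  · obtain ⟨C, hC, hCi, e⟩ := A.2
    exact ⟨⟨C, hC, hCi⟩, Subtype.ext e⟩

theorem isUnit_mat (hAT : AllTranslation P L) {C : P} (hC : C ∈ F.l) (h0 : C ≠ F.C0)
    (hi : C ≠ F.Ci) : IsUnit (F.mat C) :=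
  IsUnit.of_mul_eq_one _ (F.mat_swap hAT hC h0 hi)

theorem isUnit_of_mem (hAT : AllTranslation P L) {A : Matrix (Fin m) (Fin m) (ZMod p)}
    (hA : A ∈ F.spreadSet hAT) (h : A ≠ 0) : IsUnit A := by
  obtain ⟨C, hC, hCi, rfl⟩ := hA
  exact F.isUnit_mat hAT hC (fun e => h (e ▸ F.mat_C0 hAT)) hCi

theorem inv_eq_swap (hAT : AllTranslation P L) {C : P} (hC : C ∈ F.l) (h0 : C ≠ F.C0)
    (hi : C ≠ F.Ci) : (F.mat C)⁻¹ = F.swap.mat C :=
  Matrix.inv_eq_right_inv (F.mat_swap hAT hC h0 hi)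

theorem exists_inv_add (hAT : AllTranslation P L) {A B : Matrix (Fin m) (Fin m) (ZMod p)}
    (hA : A ∈ F.spreadSet hAT) (hA0 : A ≠ 0) (hB : B ∈ F.spreadSet hAT) (hB0 : B ≠ 0) :
    (A⁻¹ + B⁻¹)⁻¹ ∈ F.spreadSet hAT := by
  obtain ⟨C, hC, hCi, rfl⟩ := hA
  obtain ⟨D, hD, hDi, rfl⟩ := hB
  have hC0 : C ≠ F.C0 := fun e => hA0 (e ▸ F.mat_C0 hAT)
  have hD0 : D ≠ F.C0 := fun e => hB0 (e ▸ F.mat_C0 hAT)
  obtain ⟨E, hE, hE0, e⟩ := F.swap.mat_add hAT hC hC0 hD hD0
  rw [F.inv_eq_swap hAT hC hC0 hCi, F.inv_eq_swap hAT hD hD0 hDi, ← e]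
  by_cases hEi : E = F.Ci
  · rw [hEi, show F.swap.mat F.Ci = 0 from F.swap.mat_C0 hAT, Matrix.inv_zero]
    exact zero_mem _
  · rw [Matrix.inv_eq_left_inv (F.mat_swap hAT hE hE0 hEi)]
    exact ⟨E, hE, hEi, rfl⟩

theorem det_of_isUnit {A : Matrix (Fin m) (Fin m) (ZMod p)} (h : IsUnit A) : IsUnit A.det :=
  (Matrix.isUnit_iff_isUnit_det A).1 h

theorem inv_mem_spreadSet (hAT : AllTranslation P L) {C : Matrix (Fin m) (Fin m) (ZMod p)}
    (hC : C ∈ F.spreadSet hAT) : C⁻¹ ∈ F.spreadSet hAT := by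
  by_cases hC0 : C = 0
  · rw [hC0, Matrix.inv_zero]; exact zero_mem _
  by_cases hC1 : C = 1
  · rw [hC1, inv_one]; exact F.one_mem_spreadSet hAT
  have h1 : (1 : Matrix (Fin m) (Fin m) (ZMod p)) ≠ 0 := fun e => hC0 (by
    rw [← one_mul C, e, zero_mul])
  have hD := sub_mem hC (F.one_mem_spreadSet hAT)
  have hD0 : C - 1 ≠ 0 := sub_ne_zero.2 hC1
  have hX := F.exists_inv_add hAT (F.one_mem_spreadSet hAT) h1 hD hD0
  have hu := det_of_isUnit (F.isUnit_of_mem hAT hC hC0)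
  have hd := det_of_isUnit (F.isUnit_of_mem hAT hD hD0)
  have e : ((1 : Matrix (Fin m) (Fin m) (ZMod p))⁻¹ + (C - 1)⁻¹)⁻¹ = 1 - C⁻¹ := by
    refine Matrix.inv_eq_left_inv ?_
    rw [inv_one]
    have h2 : 1 - C⁻¹ = C⁻¹ * (C - 1) := by rw [mul_sub, Matrix.nonsing_inv_mul _ hu, mul_one]
    rw [h2, mul_add, mul_one, mul_assoc, Matrix.mul_nonsing_inv _ hd, mul_one, ← h2, sub_add_cancel]
  rw [e] at hX
  have := sub_mem (F.one_mem_spreadSet hAT) hX
  rwa [sub_sub_cancel] at this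

theorem aba_mem (hAT : AllTranslation P L) {A B : Matrix (Fin m) (Fin m) (ZMod p)}
    (hA : A ∈ F.spreadSet hAT) (hB : B ∈ F.spreadSet hAT) : A * B * A ∈ F.spreadSet hAT := by
  by_cases hA0 : A = 0
  · rw [hA0, mul_zero]; exact zero_mem _
  by_cases hB0 : B = 0
  · rw [hB0, mul_zero, zero_mul]; exact zero_mem _
  have hu := det_of_isUnit (F.isUnit_of_mem hAT hA hA0)
  have hv := det_of_isUnit (F.isUnit_of_mem hAT hB hB0)
  by_cases h : B⁻¹ - A = 0
  · rw [← sub_eq_zero.1 h, Matrix.nonsing_inv_mul _ hv, one_mul]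
    exact F.inv_mem_spreadSet hAT hB
  have hD := sub_mem (F.inv_mem_spreadSet hAT hB) hA
  have hd := det_of_isUnit (F.isUnit_of_mem hAT hD h)
  have hX := F.exists_inv_add hAT hA hA0 hD h
  have e : (A⁻¹ + (B⁻¹ - A)⁻¹)⁻¹ = A - A * B * A := by
    refine Matrix.inv_eq_left_inv ?_
    have h1 : (A - A * B * A) = A * B * (B⁻¹ - A) := by
      rw [mul_sub (A * B), mul_assoc A B B⁻¹, Matrix.mul_nonsing_inv _ hv, mul_one]
    rw [mul_add, sub_mul A (A * B * A) A⁻¹, Matrix.mul_nonsing_inv _ hu, mul_assoc (A * B),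
      Matrix.mul_nonsing_inv _ hu, mul_one, h1, mul_assoc (A * B), Matrix.mul_nonsing_inv _ hd, mul_one,
      sub_add_cancel]
  rw [e] at hX
  have := sub_mem hA hX
  rwa [sub_sub_cancel] at this

/-- The matrices of the directions are a commutative ring. -/
noncomputable def spreadRing (hF : SpreadBrick) (hm : 0 < m) (hAT : AllTranslation P L) :
    Subring (Matrix (Fin m) (Fin m) (ZMod p)) where
  carrier := F.spreadSet hAT
  zero_mem' := zero_mem _
  one_mem' := F.one_mem_spreadSet hAT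
  add_mem' := add_mem
  neg_mem' := neg_mem
  mul_mem' := fun {A B} hA hB => (hF p m hm (F.spreadSet hAT) (F.card_spreadSet hAT)
    (F.one_mem_spreadSet hAT) (fun _ h h' => F.isUnit_of_mem hAT h h')
    (fun _ h _ h' => F.aba_mem hAT h h') A hA B hB).2

theorem spreadRing_isField (hF : SpreadBrick) (hm : 0 < m) (hAT : AllTranslation P L) :
    IsField (F.spreadRing hF hm hAT) where
  exists_pair_ne := ⟨0, 1, fun e => by
    have h := congrArg Subtype.val e
    simp only [ZeroMemClass.coe_zero, OneMemClass.coe_one] at h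
    haveI : Nonempty (Fin m) := ⟨⟨0, hm⟩⟩
    exact zero_ne_one h⟩
  mul_comm := fun A B => Subtype.ext (hF p m hm (F.spreadSet hAT) (F.card_spreadSet hAT)
    (F.one_mem_spreadSet hAT) (fun _ h h' => F.isUnit_of_mem hAT h h')
    (fun _ h _ h' => F.aba_mem hAT h h') A.1 A.2 B.1 B.2).1
  mul_inv_cancel := fun {A} hA => ⟨⟨A.1⁻¹, F.inv_mem_spreadSet hAT A.2⟩, Subtype.ext
    (Matrix.mul_nonsing_inv _ (det_of_isUnit (F.isUnit_of_mem hAT A.2 fun e => hA (Subtype.ext e))))⟩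

end Cfsg.Agent.Lib.Ostrom64.Coord.Frame
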