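import Cfsg.Agent.Lib.Ostrom64.Persp
import Mathlib.Algebra.Ring.Parity

/-!
Fixed subplanes and the dichotomy for involutions (for S3732).
-/

set_option autoImplicit false
set_option linter.unusedSectionVars false

namespace Cfsg.Agent.Lib.Ostrom64

open Configuration

universe u w

section Fix

variable {P : Type u} {L : Type w} [Membership P L]

/-- Points fixed by a group of collineations. -/
def fixP (H : Subgroup (Col P L)) : Set P := {p | ∀ h ∈ H, h • p = p}

/-- Lines fixed by a group of collineations. -/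
def fixL (H : Subgroup (Col P L)) : Set L := {l | ∀ h ∈ H, h • l = l}

instance fixMembership (H : Subgroup (Col P L)) : Membership (fixP H) (fixL H) :=
  ⟨fun l p => (p : P) ∈ (l : L)⟩

theorem mem_fix_iff {H : Subgroup (Col P L)} {p : fixP H} {l : fixL H} :
    p ∈ l ↔ (p : P) ∈ (l : L) := Iff.rfl

theorem HasQuad.mono {H K : Subgroup (Col P L)} (h : K ≤ H) (hq : HasQuad H) : HasQuad K := by
  obtain ⟨a, b, c, d, hf, hn⟩ := hq
  exact ⟨a, b, c, d, fun k hk => hf k (h hk), hn⟩

theorem fix_zpowers {α : Type*} [MulAction (Col P L) α] (g : Col P L) (x : α) :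
    (∀ h ∈ Subgroup.zpowers g, h • x = x) ↔ g • x = x :=
  ⟨fun h => h g (Subgroup.mem_zpowers g), fun h _ hk =>
    (Subgroup.zpowers_le.2 (show g ∈ MulAction.stabilizer (Col P L) x from h)) hk⟩

/-- The action of the normaliser on the fixed configuration. -/
noncomputable def restrictCol (H : Subgroup (Col P L)) :
    Subgroup.normalizer (H : Set (Col P L)) →* Col (fixP H) (fixL H) where
  toFun g :=
    ⟨(
      { toFun := fun p => ⟨(g : Col P L) • (p : P), fun h hh => by
          have hc : (g : Col P L)⁻¹ * h * g ∈ H :=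
            (Subgroup.mem_normalizer_iff''.1 g.2 h).1 hh
          have := p.2 _ hc
          rwa [mul_smul, mul_smul, inv_smul_eq_iff] at this⟩
        invFun := fun p => ⟨(g : Col P L)⁻¹ • (p : P), fun h hh => by
          have hc : (g : Col P L) * h * (g : Col P L)⁻¹ ∈ H :=
            (Subgroup.mem_normalizer_iff.1 g.2 h).1 hh
          have := p.2 _ hc
          rw [mul_smul, mul_smul] at this
          rw [eq_inv_smul_iff, this]⟩
        left_inv := fun p => Subtype.ext (inv_smul_smul _ _)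
        right_inv := fun p => Subtype.ext (smul_inv_smul _ _) },
      { toFun := fun l => ⟨(g : Col P L) • (l : L), fun h hh => by
          have hc : (g : Col P L)⁻¹ * h * g ∈ H :=
            (Subgroup.mem_normalizer_iff''.1 g.2 h).1 hh
          have := l.2 _ hc
          rwa [mul_smul, mul_smul, inv_smul_eq_iff] at this⟩
        invFun := fun l => ⟨(g : Col P L)⁻¹ • (l : L), fun h hh => by
          have hc : (g : Col P L) * h * (g : Col P L)⁻¹ ∈ H :=
            (Subgroup.mem_normalizer_iff.1 g.2 h).1 hh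
          have := l.2 _ hc
          rw [mul_smul, mul_smul] at this
          rw [eq_inv_smul_iff, this]⟩
        left_inv := fun l => Subtype.ext (inv_smul_smul _ _)
        right_inv := fun l => Subtype.ext (smul_inv_smul _ _) }),
     fun _ _ => smul_mem_smul (g : Col P L)⟩
  map_one' := Subtype.ext (Prod.ext (Equiv.ext fun p => Subtype.ext (one_smul _ _))
    (Equiv.ext fun l => Subtype.ext (one_smul _ _)))
  map_mul' g h := Subtype.ext (Prod.ext (Equiv.ext fun p => Subtype.ext (mul_smul _ _ _))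
    (Equiv.ext fun l => Subtype.ext (mul_smul _ _ _)))

@[simp] theorem restrictCol_point (H : Subgroup (Col P L))
    (g : Subgroup.normalizer (H : Set (Col P L))) (p : fixP H) :
    ((restrictCol H g • p : fixP H) : P) = (g : Col P L) • (p : P) := rfl

@[simp] theorem restrictCol_line (H : Subgroup (Col P L))
    (g : Subgroup.normalizer (H : Set (Col P L))) (l : fixL H) :
    ((restrictCol H g • l : fixL H) : L) = (g : Col P L) • (l : L) := rfl

end Fix

variable {P : Type u} {L : Type w} [Membership P L] [ProjectivePlane P L] [Finite P] [Finite L]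

theorem line_mem_fixL {H : Subgroup (Col P L)} {p q : P} {l : L} (hpq : p ≠ q) (hp : p ∈ l)
    (hq : q ∈ l) (hp' : p ∈ fixP H) (hq' : q ∈ fixP H) : l ∈ fixL H :=
  fun h hh => smul_line_eq_of_two h hpq hp hq (hp' h hh) (hq' h hh)

theorem point_mem_fixP {H : Subgroup (Col P L)} {p : P} {l m : L} (hlm : l ≠ m) (hl : p ∈ l)
    (hm : p ∈ m) (hl' : l ∈ fixL H) (hm' : m ∈ fixL H) : p ∈ fixP H :=
  fun h hh => smul_point_eq_of_two h hlm hl hm (hl' h hh) (hm' h hh)

theorem NonColl.ne₁₂ {a b c : P} (h : NonColl L a b c) : a ≠ b := by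
  intro e
  subst e
  by_cases hac : a = c
  · subst hac
    obtain ⟨-, -, -, l0, -⟩ := Configuration.ProjectivePlane.exists_config (P := P) (L := L)
    obtain ⟨l, hl, -⟩ := exists_other_line (P := P) a l0
    exact h l hl hl hl
  · obtain ⟨l, hl, hcl⟩ := exists_line L a c hac
    exact h l hl hl hcl

theorem NonColl.rot {a b c : P} (h : NonColl L a b c) : NonColl L b c a :=
  fun l hb hc ha => h l ha hb hc

theorem NonColl.ne₂₃ {a b c : P} (h : NonColl L a b c) : b ≠ c := h.rot.ne₁₂

theorem NonColl.ne₁₃ {a b c : P} (h : NonColl L a b c) : a ≠ c := h.rot.rot.ne₁₂.symm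

/-- The fixed configuration of a group fixing a quadrangle is a projective plane. -/
@[reducible]
noncomputable def subPlane {H : Subgroup (Col P L)} (hH : HasQuad H) :
    ProjectivePlane (fixP H) (fixL H) where
  exists_point l := by
    obtain ⟨a, b, c, d, hf, habc, -⟩ := hH
    by_cases ha : a ∈ (l : L)
    · by_cases hb : b ∈ (l : L)
      · exact ⟨⟨c, fun h hh => (hf h hh).2.2.1⟩, fun hc => habc l ha hb hc⟩
      · exact ⟨⟨b, fun h hh => (hf h hh).2.1⟩, hb⟩
    · exact ⟨⟨a, fun h hh => (hf h hh).1⟩, ha⟩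
  exists_line p := by
    obtain ⟨a, b, c, d, hf, habc, -, hacd, -⟩ := hH
    have ha : a ∈ fixP H := fun h hh => (hf h hh).1
    have hb : b ∈ fixP H := fun h hh => (hf h hh).2.1
    have hc : c ∈ fixP H := fun h hh => (hf h hh).2.2.1
    have hd : d ∈ fixP H := fun h hh => (hf h hh).2.2.2
    obtain ⟨l1, h1a, h1b⟩ := exists_line L a b habc.ne₁₂
    obtain ⟨l2, h2a, h2c⟩ := exists_line L a c habc.ne₁₃
    obtain ⟨l3, h3c, h3d⟩ := exists_line L c d hacd.ne₂₃
    by_cases h1 : (p : P) ∈ l1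
    · by_cases h2 : (p : P) ∈ l2
      · refine ⟨⟨l3, line_mem_fixL hacd.ne₂₃ h3c h3d hc hd⟩, fun h3 => ?_⟩
        have hne : l1 ≠ l2 := fun e => habc l1 h1a h1b (e ▸ h2c)
        have hpa : (p : P) = a := eq_of_mem hne h1 h2 h1a h2a
        exact hacd l3 (hpa ▸ h3) h3c h3d
      · exact ⟨⟨l2, line_mem_fixL habc.ne₁₃ h2a h2c ha hc⟩, h2⟩
    · exact ⟨⟨l1, line_mem_fixL habc.ne₁₂ h1a h1b ha hb⟩, h1⟩
  eq_or_eq h1 h2 h3 h4 :=
    (Nondegenerate.eq_or_eq (mem_fix_iff.1 h1) (mem_fix_iff.1 h2) (mem_fix_iff.1 h3)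
      (mem_fix_iff.1 h4)).imp Subtype.ext Subtype.ext
  mkPoint {l₁ l₂} h :=
    ⟨HasPoints.mkPoint (P := P) (fun e => h (Subtype.ext e) : (l₁ : L) ≠ l₂),
      point_mem_fixP (fun e => h (Subtype.ext e)) (HasPoints.mkPoint_ax _).1
        (HasPoints.mkPoint_ax _).2 l₁.2 l₂.2⟩
  mkPoint_ax _ := HasPoints.mkPoint_ax _
  mkLine {p₁ p₂} h :=
    ⟨HasLines.mkLine (L := L) (fun e => h (Subtype.ext e) : (p₁ : P) ≠ p₂),
      line_mem_fixL (fun e => h (Subtype.ext e)) (HasLines.mkLine_ax _).1
        (HasLines.mkLine_ax _).2 p₁.2 p₂.2⟩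
  mkLine_ax _ := HasLines.mkLine_ax _
  exists_config := by
    obtain ⟨a, b, c, d, hf, habc, habd, hacd, hbcd⟩ := hH
    have ha : a ∈ fixP H := fun h hh => (hf h hh).1
    have hb : b ∈ fixP H := fun h hh => (hf h hh).2.1
    have hc : c ∈ fixP H := fun h hh => (hf h hh).2.2.1
    have hd : d ∈ fixP H := fun h hh => (hf h hh).2.2.2
    obtain ⟨l1, h1c, h1d⟩ := exists_line L c d hacd.ne₂₃
    obtain ⟨l2, h2a, h2b⟩ := exists_line L a b habc.ne₁₂
    obtain ⟨l3, h3a, h3c⟩ := exists_line L a c habc.ne₁₃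
    exact ⟨⟨d, hd⟩, ⟨a, ha⟩, ⟨b, hb⟩, ⟨l1, line_mem_fixL hacd.ne₂₃ h1c h1d hc hd⟩,
      ⟨l2, line_mem_fixL habc.ne₁₂ h2a h2b ha hb⟩, ⟨l3, line_mem_fixL habc.ne₁₃ h3a h3c ha hc⟩,
      fun h => habd l2 h2a h2b h, fun h => hacd l3 h3a h3c h, fun h => hacd l1 h h1c h1d,
      h2a, h3a, fun h => hbcd l1 h h1c h1d, h2b, fun h => habc l3 h3a h h3c⟩

/-- An involution is a perspectivity or fixes a quadrangle. -/
theorem persp_or_quad {g : Col P L} (hgg : g * g = 1) :
    (∃ l : L, IsAxis g l) ∨ HasQuad (Subgroup.zpowers g) := by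
  classical
  obtain ⟨a0, -, -, l00, -⟩ := Configuration.ProjectivePlane.exists_config (P := P) (L := L)
  by_cases hg : g = 1
  · exact Or.inl ⟨l00, fun p _ => hg ▸ one_smul _ p⟩
  by_contra hc
  push Not at hc
  obtain ⟨hax, hquad⟩ := hc
  have hswap : ∀ p : P, g • g • p = p := fun p => by rw [← mul_smul, hgg, one_smul]
  have hswapL : ∀ l : L, g • g • l = l := fun l => by rw [← mul_smul, hgg, one_smul]
  -- every line has a fixed point
  have hblock : ∀ l : L, ∃ p : P, p ∈ l ∧ g • p = p := by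
    intro l
    by_cases hl : g • l = l
    · by_cases hoff : ∃ q : P, q ∉ l ∧ g • q ≠ q
      · obtain ⟨q, hq, hq'⟩ := hoff
        obtain ⟨m, hm1, hm2⟩ := exists_line L q (g • q) hq'.symm
        have hgm : g • m = m := by
          have h1 : g • q ∈ g • m := (smul_mem_smul g).2 hm1
          have h2 : g • g • q ∈ g • m := (smul_mem_smul g).2 hm2
          rw [hswap] at h2
          exact line_eq hq'.symm h2 h1 hm1 hm2
        have hml : m ≠ l := fun e => hq (e ▸ hm1)
        obtain ⟨x, hxm, hxl⟩ := exists_point P m l hml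
        exact ⟨x, hxl, smul_point_eq_of_two g hml hxm hxl hgm hl⟩
      · push Not at hoff
        exfalso
        obtain ⟨p, hp⟩ := ne_one_iff.1 hg
        have hpl : p ∈ l := by_contra fun h => hp (hoff p h)
        obtain ⟨k, hpk, hkl⟩ := exists_other_line (P := P) p l
        obtain ⟨m, hpm, hmk, hml⟩ := exists_third_line (P := P) p k l
        have hfixk : ∀ k : L, p ∈ k → k ≠ l → g • k = k := by
          intro k hpk hkl
          obtain ⟨a, ha, hap⟩ := exists_other k p
          obtain ⟨b, hb, hbp, hba⟩ := exists_third k p a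
          exact smul_line_eq_of_two g hba hb ha
            (hoff b fun h => hkl (line_eq hbp hb hpk h hpl))
            (hoff a fun h => hkl (line_eq hap ha hpk h hpl))
        exact hp (smul_point_eq_of_two g hmk.symm hpk hpm (hfixk k hpk hkl) (hfixk m hpm hml))
    · obtain ⟨x, hx1, hx2⟩ := exists_point P (g • l) l hl
      refine ⟨x, hx2, eq_of_mem (Ne.symm hl) ?_ ((smul_mem_smul g).2 hx2) hx2 hx1⟩
      have := (smul_mem_smul g).2 hx1
      rwa [hswapL] at this
  -- no line contains all fixed points but one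
  have hnot : ∀ (l : L) (C : P), ∃ p : P, g • p = p ∧ p ∉ l ∧ p ≠ C := by
    intro l C
    by_contra hcon
    push Not at hcon
    refine hax l fun A hA => ?_
    by_contra hgA
    obtain ⟨m1, hm1, hm1l⟩ := exists_other_line (P := P) A l
    obtain ⟨m2, hm2, hm21, hm2l⟩ := exists_third_line (P := P) A m1 l
    have key : ∀ m : L, A ∈ m → m ≠ l → C ∈ m := by
      intro m hm hml
      obtain ⟨x, hxm, hx⟩ := hblock m
      by_cases hxl : x ∈ l
      · exact absurd (eq_of_mem hml hm hA hxm hxl ▸ hx) hgA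
      · exact hcon x hx hxl ▸ hxm
    have hCA : C = A := eq_of_mem hm21.symm (key m1 hm1 hm1l) (key m2 hm2 hm2l) hm1 hm2
    -- then every fixed point is on `l` and the line through `A` carries none
    obtain ⟨x, hxm, hx⟩ := hblock m1
    by_cases hxl : x ∈ l
    · exact hgA (eq_of_mem hm1l hm1 hA hxm hxl ▸ hx)
    · exact hgA (hCA ▸ hcon x hx hxl ▸ hx)
  obtain ⟨a, ha, -, -⟩ := hnot l00 a0
  obtain ⟨l0, -⟩ := exists_other_line (P := P) a l00
  obtain ⟨b, hb, -, hba⟩ := hnot l0 a
  obtain ⟨lab, hab1, hab2⟩ := exists_line L a b hba.symm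
  obtain ⟨c, hc, hcab, -⟩ := hnot lab a
  obtain ⟨lac, hac1, hac2⟩ := exists_line L a c (fun e => hcab (e ▸ hab1))
  obtain ⟨lbc, hbc1, hbc2⟩ := exists_line L b c (fun e => hcab (e ▸ hab2))
  -- a quadrangle from three collinear fixed points and two off their line
  have hfive : ∀ (s : L) (u v d C e : P), u ∈ s → v ∈ s → d ∈ s → u ≠ v → u ≠ d → v ≠ d →
      C ∉ s → e ∉ s → e ≠ C → g • u = u → g • v = v → g • d = d → g • C = C → g • e = e →
      False := by
    intro s u v d C e hu hv hd huv hud hvd hC he heC gu gv gd gC ge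
    obtain ⟨k, hkC, hke⟩ := exists_line L C e heC.symm
    have hks : k ≠ s := fun h => hC (h ▸ hkC)
    have quad : ∀ x y : P, x ∈ s → y ∈ s → x ≠ y → g • x = x → g • y = y → x ∉ k → y ∉ k →
        False := by
      intro x y hx hy hxy gx gy hxk hyk
      refine hquad ⟨x, y, C, e, fun h hh => ⟨(fix_zpowers g x).2 gx h hh,
        (fix_zpowers g y).2 gy h hh, (fix_zpowers g C).2 gC h hh, (fix_zpowers g e).2 ge h hh⟩,
        ?_, ?_, ?_, ?_⟩
      · exact fun l h1 h2 h3 => hC (line_eq hxy h1 h2 hx hy ▸ h3)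
      · exact fun l h1 h2 h3 => he (line_eq hxy h1 h2 hx hy ▸ h3)
      · exact fun l h1 h2 h3 => hxk (line_eq heC.symm h2 h3 hkC hke ▸ h1)
      · exact fun l h1 h2 h3 => hyk (line_eq heC.symm h2 h3 hkC hke ▸ h1)
    by_cases huk : u ∈ k
    · exact quad v d hv hd hvd gv gd (fun h => huv (eq_of_mem hks huk hu h hv))
        (fun h => hud (eq_of_mem hks huk hu h hd))
    · by_cases hvk : v ∈ k
      · exact quad u d hu hd hud gu gd huk (fun h => hvd (eq_of_mem hks hvk hv h hd))
      · exact quad u v hu hv huv gu gv huk hvk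
  have hne_ab : a ≠ b := hba.symm
  have hne_ac : a ≠ c := fun e => hcab (e ▸ hab1)
  have hne_bc : b ≠ c := fun e => hcab (e ▸ hab2)
  have hb_ac : b ∉ lac := fun h => hcab (line_eq hne_ab hac1 h hab1 hab2 ▸ hac2)
  have ha_bc : a ∉ lbc := fun h => hcab (line_eq hne_ab h hbc1 hab1 hab2 ▸ hbc2)
  obtain ⟨d, hd, hdab, hdc⟩ := hnot lab c
  by_cases h1 : d ∈ lac
  · obtain ⟨e, he, heac, heb⟩ := hnot lac b
    exact hfive lac a c d b e hac1 hac2 h1 hne_ac (fun e' => hdab (e' ▸ hab1)) hdc.symm hb_ac heac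
      heb ha hc hd hb he
  by_cases h2 : d ∈ lbc
  · obtain ⟨e, he, hebc, hea⟩ := hnot lbc a
    exact hfive lbc b c d a e hbc1 hbc2 h2 hne_bc (fun e' => hdab (e' ▸ hab2)) hdc.symm ha_bc hebc
      hea hb hc hd ha he
  refine hquad ⟨a, b, c, d, fun h hh => ⟨(fix_zpowers g a).2 ha h hh, (fix_zpowers g b).2 hb h hh,
    (fix_zpowers g c).2 hc h hh, (fix_zpowers g d).2 hd h hh⟩, ?_, ?_, ?_, ?_⟩
  · exact fun l h1' h2' h3 => hcab (line_eq hne_ab h1' h2' hab1 hab2 ▸ h3)
  · exact fun l h1' h2' h3 => hdab (line_eq hne_ab h1' h2' hab1 hab2 ▸ h3)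
  · exact fun l h1' h2' h3 => h1 (line_eq hne_ac h1' h2' hac1 hac2 ▸ h3)
  · exact fun l h1' h2' h3 => h2 (line_eq hne_bc h1' h2' hbc1 hbc2 ▸ h3)

/-- An involution fixing a quadrangle is a Baer involution. -/
theorem baer_order {g : Col P L} (hgg : g * g = 1) (hg : g ≠ 1)
    (hq : HasQuad (Subgroup.zpowers g)) :
    letI := subPlane hq
    ProjectivePlane.order P L =
      ProjectivePlane.order (fixP (Subgroup.zpowers g)) (fixL (Subgroup.zpowers g)) ^ 2 := by
  classical
  letI := subPlane hq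
  set H := Subgroup.zpowers g
  obtain ⟨a, b, c, d, hf, habc, habd, hacd, hbcd⟩ := id hq
  have hgf := hf g (Subgroup.mem_zpowers g)
  obtain ⟨l, hla, hlb⟩ := exists_line L a b habc.ne₁₂
  have hl : l ∈ fixL H :=
    line_mem_fixL habc.ne₁₂ hla hlb (fun h hh => (hf h hh).1) (fun h hh => (hf h hh).2.1)
  have hmoved : ∃ A : P, A ∈ l ∧ g • A ≠ A := by
    by_contra hc
    push Not at hc
    exact hg (IsAxis.eq_one (l := l) hc (habc l hla hlb) (habd l hla hlb) hacd.ne₂₃ hgf.2.2.1
      hgf.2.2.2)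
  obtain ⟨A, hAl, hgA⟩ := hmoved
  have hswap : ∀ m : L, g • g • m = m := fun m => by rw [← mul_smul, hgg, one_smul]
  -- lines through `A` other than `l` against fixed points off `l`
  let f : {x : fixP H // x ∉ (⟨l, hl⟩ : fixL H)} → {m : L // A ∈ m ∧ m ≠ l} := fun x =>
    ⟨HasLines.mkLine (L := L) (p₁ := A) (p₂ := (x.1 : P))
        (fun e => hgA ((congrArg (g • ·) e).trans
          ((x.1.2 g (Subgroup.mem_zpowers g)).trans e.symm))),
      (HasLines.mkLine_ax _).1, fun e => x.2 (mem_fix_iff.2 (by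
        have := (HasLines.mkLine_ax (L := L) (p₁ := A) (p₂ := (x.1 : P))
          (fun e => hgA ((congrArg (g • ·) e).trans
            ((x.1.2 g (Subgroup.mem_zpowers g)).trans e.symm)))).2
        rwa [e] at this))⟩
  have hf_inj : Function.Injective f := by
    intro x y hxy
    by_contra hne
    have hne' : (x.1 : P) ≠ y.1 := fun e => hne (Subtype.ext (Subtype.ext e))
    have hm := congrArg Subtype.val hxy
    set m := (f x).1 with hm'
    have hAm : A ∈ m := (f x).2.1
    have hml : m ≠ l := (f x).2.2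
    have hxm : (x.1 : P) ∈ m := (HasLines.mkLine_ax _).2
    have hym : (y.1 : P) ∈ m := by rw [hm]; exact (HasLines.mkLine_ax _).2
    have hgm : g • m = m :=
      line_mem_fixL hne' hxm hym x.1.2 y.1.2 g (Subgroup.mem_zpowers g)
    exact hgA (smul_point_eq_of_two g hml hAm hAl hgm (hl g (Subgroup.mem_zpowers g)))
  have hf_surj : Function.Surjective f := by
    rintro ⟨m, hAm, hml⟩
    have hgm : g • m ≠ m := fun e =>
      hgA (smul_point_eq_of_two g hml hAm hAl e (hl g (Subgroup.mem_zpowers g)))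
    obtain ⟨x, hx1, hx2⟩ := exists_point P (g • m) m hgm
    have hxfix : g • x = x := by
      refine eq_of_mem (Ne.symm hgm) ?_ ((smul_mem_smul g).2 hx2) hx2 hx1
      have := (smul_mem_smul g).2 hx1
      rwa [hswap] at this
    have hxl : x ∉ l := fun h => hgA (eq_of_mem hml hAm hAl hx2 h ▸ hxfix)
    refine ⟨⟨⟨x, (fix_zpowers g x).2 hxfix⟩, fun h => hxl h⟩, Subtype.ext ?_⟩
    exact line_eq (show A ≠ x from fun e => hxl (e ▸ hAl)) (HasLines.mkLine_ax _).1 (HasLines.mkLine_ax _).2
      hAm hx2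
  have hcard := Nat.card_congr (Equiv.ofBijective f ⟨hf_inj, hf_surj⟩)
  rw [card_off] at hcard
  refine Eq.trans ?_ hcard.symm
  have h1 : {m : L | A ∈ m ∧ m ≠ l} = {m : L | A ∈ m} \ {l} := rfl
  have h2 : ({m : L | A ∈ m}).ncard = ProjectivePlane.order P L + 1 := by
    rw [← card_thru (L := L) A, ← Nat.card_coe_set_eq]
    rfl
  have h3 : Nat.card {m : L // A ∈ m ∧ m ≠ l} = ({m : L | A ∈ m ∧ m ≠ l}).ncard :=
    Nat.card_coe_set_eq _
  rw [h3, h1, Set.ncard_diff_singleton_of_mem (by exact hAl), h2, Nat.add_sub_cancel]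

/-- The order is determined by the number of points. -/
theorem order_eq_of_card {m : ℕ} (h : Nat.card P = m ^ 2 + m + 1) :
    ProjectivePlane.order P L = m := by
  rw [card_point (L := L)] at h
  rcases Nat.lt_trichotomy (ProjectivePlane.order P L) m with hlt | heq | hgt
  · have := Nat.pow_lt_pow_left hlt (n := 2) (by norm_num)
    omega
  · exact heq
  · have := Nat.pow_lt_pow_left hgt (n := 2) (by norm_num)
    omega

/-- An involution is a perspectivity, or the order is the square of the order of its fixed plane. -/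
theorem persp_or_baer {g : Col P L} (hgg : g * g = 1) (hg : g ≠ 1) :
    (∃ l : L, IsAxis g l) ∨
      ∃ m : ℕ, ProjectivePlane.order P L = m ^ 2 ∧
        Nat.card {p : P // g • p = p} = m ^ 2 + m + 1 ∧
        ∀ l : L, g • l = l → Nat.card {p : P // p ∉ l ∧ g • p = p} = m ^ 2 := by
  refine (persp_or_quad hgg).imp id fun hq => ?_
  letI := subPlane hq
  refine ⟨ProjectivePlane.order (fixP (Subgroup.zpowers g)) (fixL (Subgroup.zpowers g)),
    baer_order hgg hg hq, ?_, fun l hl => ?_⟩
  · rw [← card_point (L := fixL (Subgroup.zpowers g))]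
    exact Nat.card_congr (Equiv.subtypeEquivRight fun p => (fix_zpowers g p).symm)
  · have hl' : l ∈ fixL (Subgroup.zpowers g) := (fix_zpowers g l).2 hl
    rw [← card_off (P := fixP (Subgroup.zpowers g)) (⟨l, hl'⟩ : fixL (Subgroup.zpowers g))]
    refine Nat.card_congr
      { toFun := fun p => ⟨⟨p.1, (fix_zpowers g p.1).2 p.2.2⟩, p.2.1⟩
        invFun := fun p => ⟨p.1.1, p.2, (fix_zpowers g _).1 p.1.2⟩
        left_inv := fun p => rfl
        right_inv := fun p => rfl }

end Cfsg.Agent.Lib.Ostrom64
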