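import Cfsg.Agent.Lib.Ostrom64.Orbit
import Cfsg.Agent.Lib.Ostrom64.Sub
import Mathlib.GroupTheory.PGroup
import Mathlib.GroupTheory.Perm.Cycle.Type

/-!
Even order (brick A of S3732): a central involution of a Sylow subgroup of a flag stabiliser
is a perspectivity.
-/

set_option autoImplicit false
set_option linter.unusedSectionVars false

namespace Cfsg.Agent.Lib.Ostrom64

open Configuration

universe u w

theorem even_persp : EvenBrick.{u, w} := by
  intro P L _ _ _ _ G h2 hev
  classical
  have : Fact (Nat.Prime 2) := ⟨Nat.prime_two⟩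
  by_contra hno
  push Not at hno
  obtain ⟨p0, p₂, p₃, l₁, l₂, l₃, h₁, -⟩ :=
    Configuration.ProjectivePlane.exists_config (P := P) (L := L)
  obtain ⟨X, hX, -⟩ := exists_third l₂ p0 p0
  set l : L := l₂ with hl
  set H : Subgroup (Col P L) :=
    G ⊓ MulAction.stabilizer (Col P L) X ⊓ MulAction.stabilizer (Col P L) l with hH
  obtain ⟨T₀⟩ : Nonempty (Sylow 2 H) := inferInstance
  set T : Subgroup (Col P L) := (T₀ : Subgroup H).map H.subtype with hT
  have hTH : T ≤ H := Subgroup.map_subtype_le _
  have hTc : Nat.card T = 2 ^ (Nat.card H).factorization 2 := by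
    rw [hT, Subgroup.card_map_of_injective H.subtype_injective]
    exact T₀.card_eq_multiplicity
  set n := ProjectivePlane.order P L with hn
  have hn1 := ProjectivePlane.one_lt_order P L
  have hoff : ∀ h ∈ H, ∀ x : P, x ∉ l → h • x ∉ l := fun h hh x hx hm => hx (by
    have h1 := (smul_mem_smul h (p := x) (l := l)).1
    rw [show h • l = l from hh.2] at h1
    exact h1 hm)
  -- orbit lengths of `T` off `l`
  have horb : ∀ x : P, x ∉ l →
      2 ^ (2 * n.factorization 2) ∣ (MulAction.stabilizer (Col P L) x).relIndex T := by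
    intro x hx
    set S := MulAction.stabilizer (Col P L) x
    have hSH : S.relIndex H = n ^ 2 := by
      rw [relIndex_stabilizer, hn, ← card_off (P := P) l, ← Nat.card_coe_set_eq]
      refine Nat.card_congr (Equiv.subtypeEquivRight fun y => ⟨?_, fun hy => ?_⟩)
      · rintro ⟨h, rfl⟩
        exact hoff h h.2 x hx
      · obtain ⟨g, hg, h1, h2', h3⟩ := h2.flag_affine hX hx hy
        exact ⟨⟨g, ⟨hg, h1⟩, h2'⟩, h3⟩
    have h1 : Nat.card (S ⊓ T : Subgroup (Col P L)) * S.relIndex T = Nat.card T := by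
      rw [← Subgroup.inf_relIndex_right, ← Subgroup.relIndex_bot_left,
        ← Subgroup.relIndex_bot_left, Subgroup.relIndex_mul_relIndex _ _ _ bot_le inf_le_right]
    have h2' : Nat.card (S ⊓ H : Subgroup (Col P L)) * S.relIndex H = Nat.card H := by
      rw [← Subgroup.inf_relIndex_right, ← Subgroup.relIndex_bot_left,
        ← Subgroup.relIndex_bot_left, Subgroup.relIndex_mul_relIndex _ _ _ bot_le inf_le_right]
    have hdvd : Nat.card (S ⊓ T : Subgroup (Col P L)) ∣ Nat.card (S ⊓ H : Subgroup (Col P L)) :=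
      Subgroup.card_dvd_of_le (inf_le_inf_left S hTH)
    rw [hTc] at h1
    obtain ⟨a, -, ha⟩ := (Nat.dvd_prime_pow Nat.prime_two).1 (Dvd.intro _ h1)
    obtain ⟨b, -, hb⟩ := (Nat.dvd_prime_pow Nat.prime_two).1 (Dvd.intro_left _ h1)
    have hne : Nat.card (S ⊓ H : Subgroup (Col P L)) ≠ 0 := Nat.card_pos.ne'
    rw [ha] at hdvd h1
    have hale := (Nat.prime_two.pow_dvd_iff_le_factorization hne).1 hdvd
    rw [← h2', hSH, Nat.factorization_mul hne (pow_ne_zero _ (by omega)), Finsupp.add_apply,
      Nat.factorization_pow, Finsupp.smul_apply, smul_eq_mul, hb, ← pow_add] at h1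
    have := Nat.pow_right_injective le_rfl h1
    rw [hb]
    exact Nat.pow_dvd_pow 2 (by omega)
  have hv : 0 < n.factorization 2 :=
    Nat.prime_two.factorization_pos_of_dvd (by omega) (even_iff_two_dvd.1 hev)
  -- a central involution
  have hTne : Nat.card T ≠ 1 := by
    intro h1
    obtain ⟨x, hx⟩ : ∃ x : P, x ∉ l := Nondegenerate.exists_point l
    have h := horb x hx
    rw [Subgroup.eq_bot_of_card_eq T h1, Subgroup.relIndex_bot_right, Nat.dvd_one,
      pow_eq_one_iff_right (by norm_num)] at h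
    omega
  have hTp : IsPGroup 2 T := IsPGroup.of_card hTc
  have : Nontrivial T := (Subgroup.nontrivial_iff_ne_bot T).2
    (fun e => hTne (by rw [e, Subgroup.card_bot]))
  have hZ : Nontrivial (Subgroup.center T) := hTp.center_nontrivial
  obtain ⟨z₀, hz₀⟩ : ∃ z : Subgroup.center T, orderOf z = 2 := by
    refine exists_prime_orderOf_dvd_card' 2 ?_
    obtain ⟨k, hk⟩ := IsPGroup.iff_card.1 (hTp.to_subgroup (Subgroup.center T))
    have h1 : 1 < Nat.card (Subgroup.center T) := Finite.one_lt_card
    rw [hk] at h1 ⊢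
    exact dvd_pow_self 2 (fun e => by rw [e] at h1; simp at h1)
  set z : Col P L := ((z₀ : T) : Col P L) with hz
  have hzT : z ∈ T := (z₀ : T).2
  have hzz : z * z = 1 := by
    have := pow_orderOf_eq_one z₀
    rw [hz₀, pow_two] at this
    exact congrArg (fun x : Subgroup.center T => ((x : T) : Col P L)) this
  have hz1 : z ≠ 1 := by
    intro e
    have : z₀ = 1 := Subtype.ext (Subtype.ext e)
    rw [this, orderOf_one] at hz₀
    omega
  have hcomm : ∀ h ∈ T, h * z = z * h := fun h hh =>
    congrArg Subtype.val (Subgroup.mem_center_iff.1 z₀.2 ⟨h, hh⟩)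
  have hzl : z • l = l := (hTH hzT).2
  rcases persp_or_baer hzz hz1 with ⟨a, ha⟩ | ⟨m, hnm, -, hoffm⟩
  · exact hno z (hTH hzT).1.1 ⟨hz1, a, ha⟩
  have hm := hoffm l hzl
  -- the fixed points off `l` fall into long orbits of `T`
  let S : Type u := {p : P // p ∉ l ∧ z • p = p}
  let act : MulAction T S :=
    { smul := fun h p => ⟨(h : Col P L) • (p : P), hoff _ (hTH h.2) _ p.2.1, by
        rw [← mul_smul, ← hcomm _ h.2, mul_smul, p.2.2]⟩
      one_smul := fun p => Subtype.ext (one_smul _ _)
      mul_smul := fun g h p => Subtype.ext (mul_smul _ _ _) }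
  cases nonempty_fintype S
  have hdvd : 2 ^ (2 * n.factorization 2) ∣ Nat.card S := by
    rw [Nat.card_congr (MulAction.selfEquivSigmaOrbits T S), Nat.card_sigma]
    refine Finset.dvd_sum fun o _ => ?_
    rw [Nat.card_coe_set_eq, ← MulAction.index_stabilizer T o.out]
    have hst : MulAction.stabilizer T o.out =
        (MulAction.stabilizer (Col P L) (o.out : P)).subgroupOf T := by
      ext h
      exact ⟨fun e => congrArg Subtype.val e, fun e => Subtype.ext e⟩
    rw [hst]
    exact horb _ o.out.2.1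
  change 2 ^ (2 * n.factorization 2) ∣ Nat.card {p : P // p ∉ l ∧ z • p = p} at hdvd
  have hnm' : n = m ^ 2 := hnm
  have hm0 : m ≠ 0 := fun e => by
    subst e
    rw [hnm] at hn1
    simp at hn1
  rw [hm, Nat.prime_two.pow_dvd_iff_le_factorization (pow_ne_zero _ hm0)] at hdvd
  rw [hnm'] at hv hdvd
  simp only [Nat.factorization_pow, Finsupp.smul_apply, smul_eq_mul] at hdvd hv
  omega

end Cfsg.Agent.Lib.Ostrom64
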