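import Cfsg.Agent.Lib.Ostrom64.Spec

/-!
Orbit transitivity in a two-transitive collineation group (for S3732).
-/

set_option autoImplicit false
set_option linter.unusedSectionVars false

namespace Cfsg.Agent.Lib.Ostrom64

open Configuration

universe u w

section General

variable {Γ : Type*} [Group Γ] [Finite Γ] {α : Type*} [MulAction Γ α] [Finite α]

/-- The orbit of a subgroup counts the cosets of the stabiliser. -/
theorem relIndex_stabilizer (H : Subgroup Γ) (x : α) :
    (MulAction.stabilizer Γ x).relIndex H = (MulAction.orbit H x).ncard := by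
  rw [← MulAction.index_stabilizer H x]
  rfl

/-- Enough orbit length forces transitivity. -/
theorem orbit_eq_of_ncard_le {H : Subgroup Γ} {x : α} {O : Set α}
    (hO : ∀ h ∈ H, h • x ∈ O) (hcard : O.ncard ≤ (MulAction.stabilizer Γ x).relIndex H)
    {y : α} (hy : y ∈ O) : ∃ h ∈ H, h • x = y := by
  rw [relIndex_stabilizer] at hcard
  have hsub : MulAction.orbit H x ⊆ O := by
    rintro _ ⟨h, rfl⟩
    exact hO h h.2
  rw [← Set.eq_of_subset_of_ncard_le hsub hcard (Set.toFinite O)] at hy
  obtain ⟨h, hh⟩ := hy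
  exact ⟨h, h.2, hh⟩

/-- A `p`-subgroup of full order in `H` is transitive on an `H`-orbit of `p`-power length. -/
theorem sylow_transitive {p r : ℕ} [Fact p.Prime] {H Q : Subgroup Γ} (hQH : Q ≤ H)
    (hQ : Nat.card Q = p ^ (Nat.card H).factorization p) {x : α} {O : Set α}
    (hO : ∀ h ∈ H, h • x ∈ O) (htr : ∀ y ∈ O, ∃ h ∈ H, h • x = y)
    (hcard : O.ncard = p ^ r) {y : α} (hy : y ∈ O) : ∃ h ∈ Q, h • x = y := by
  refine orbit_eq_of_ncard_le (fun h hh => hO h (hQH hh)) ?_ hy
  have hp := (Fact.out : p.Prime)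
  set S := MulAction.stabilizer Γ x
  have hSH : S.relIndex H = p ^ r := by
    rw [relIndex_stabilizer, ← hcard]
    congr 1
    ext z
    refine ⟨?_, fun hz => ?_⟩
    · rintro ⟨h, rfl⟩
      exact hO h h.2
    · obtain ⟨h, hh, rfl⟩ := htr z hz
      exact ⟨⟨h, hh⟩, rfl⟩
  have h1 : S.relIndex Q * Nat.card (S ⊓ Q : Subgroup Γ) = Nat.card Q := by
    rw [← Subgroup.inf_relIndex_right, mul_comm]
    rw [← Subgroup.relIndex_bot_left, ← Subgroup.relIndex_bot_left,
      Subgroup.relIndex_mul_relIndex _ _ _ bot_le inf_le_right]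
  have h2 : S.relIndex H * Nat.card (S ⊓ H : Subgroup Γ) = Nat.card H := by
    rw [← Subgroup.inf_relIndex_right, mul_comm]
    rw [← Subgroup.relIndex_bot_left, ← Subgroup.relIndex_bot_left,
      Subgroup.relIndex_mul_relIndex _ _ _ bot_le inf_le_right]
  have hdvd : Nat.card (S ⊓ Q : Subgroup Γ) ∣ Nat.card (S ⊓ H : Subgroup Γ) :=
    Subgroup.card_dvd_of_le (inf_le_inf_left S hQH)
  rw [hcard]
  have hQpos : 0 < Nat.card (S ⊓ Q : Subgroup Γ) := Nat.card_pos
  have hHpos : 0 < Nat.card (S ⊓ H : Subgroup Γ) := Nat.card_pos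
  obtain ⟨a, -, ha⟩ := (Nat.dvd_prime_pow hp).1 (hQ ▸ Dvd.intro_left _ h1)
  rw [ha] at h1 hdvd
  have hale : a ≤ (Nat.card (S ⊓ H : Subgroup Γ)).factorization p :=
    (hp.pow_dvd_iff_le_factorization hHpos.ne').1 hdvd
  have hfac : (Nat.card H).factorization p = r + (Nat.card (S ⊓ H : Subgroup Γ)).factorization p := by
    rw [← h2, hSH, Nat.factorization_mul (pow_ne_zero _ hp.ne_zero) hHpos.ne',
      Finsupp.add_apply, Nat.Prime.factorization_pow hp, Finsupp.single_eq_same]
  rw [hQ] at h1
  have hle : p ^ r * p ^ a ≤ S.relIndex Q * p ^ a := by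
    rw [h1, ← pow_add]
    exact Nat.pow_le_pow_right hp.pos (by omega)
  exact Nat.le_of_mul_le_mul_right hle (pow_pos hp.pos _)

/-- Burnside: equal fixed point numbers give equally many orbits. -/
theorem card_orbits_eq_of_fixed {β : Type*} [MulAction Γ β] [Finite β] (H : Subgroup Γ)
    (h : ∀ g ∈ H, Nat.card {a : α // g • a = a} = Nat.card {b : β // g • b = b}) :
    Nat.card (MulAction.orbitRel.Quotient H α) = Nat.card (MulAction.orbitRel.Quotient H β) := by
  classical
  cases nonempty_fintype α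
  cases nonempty_fintype β
  have : Fintype H := Fintype.ofFinite H
  have hα := MulAction.sum_card_fixedBy_eq_card_orbits_mul_card_group H α
  have hβ := MulAction.sum_card_fixedBy_eq_card_orbits_mul_card_group H β
  have heq : (∑ a : H, Fintype.card (MulAction.fixedBy α a)) =
      ∑ a : H, Fintype.card (MulAction.fixedBy β a) := by
    refine Finset.sum_congr rfl fun a _ => ?_
    rw [← Nat.card_eq_fintype_card, ← Nat.card_eq_fintype_card]
    exact h a a.2
  rw [hα, hβ] at heq
  rw [Nat.card_eq_fintype_card, Nat.card_eq_fintype_card]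
  exact Nat.eq_of_mul_eq_mul_right Fintype.card_pos heq

end General

variable {P : Type u} {L : Type w} [Membership P L] [ProjectivePlane P L] [Finite P] [Finite L]
  {G : Subgroup (Col P L)}

/-- Transitivity on lines. -/
theorem TwoTrans.line (h2 : TwoTrans G) (l m : L) : ∃ g ∈ G, g • l = m := by
  obtain ⟨a, ha, -⟩ := exists_third l (Classical.choose
    (Configuration.ProjectivePlane.exists_config (P := P) (L := L))) (Classical.choose
    (Configuration.ProjectivePlane.exists_config (P := P) (L := L)))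
  obtain ⟨b, hb, hba⟩ := exists_other l a
  obtain ⟨c, hc, -⟩ := exists_third m a b
  obtain ⟨d, hd, hdc⟩ := exists_other m c
  obtain ⟨g, hg, h1, h2'⟩ := h2 a b c d hba.symm hdc.symm
  refine ⟨g, hg, line_eq hdc.symm ?_ ?_ hc hd⟩
  · rw [← h1]; exact (smul_mem_smul g).2 ha
  · rw [← h2']; exact (smul_mem_smul g).2 hb

/-- Transitivity on flags. -/
theorem TwoTrans.flag (h2 : TwoTrans G) {p q : P} {l m : L} (hp : p ∈ l) (hq : q ∈ m) :
    ∃ g ∈ G, g • p = q ∧ g • l = m := by
  obtain ⟨a, ha, hap⟩ := exists_other l p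
  obtain ⟨b, hb, hbq⟩ := exists_other m q
  obtain ⟨g, hg, h1, h2'⟩ := h2 p a q b hap.symm hbq.symm
  refine ⟨g, hg, h1, line_eq hbq.symm ?_ ?_ hq hb⟩
  · rw [← h1]; exact (smul_mem_smul g).2 hp
  · rw [← h2']; exact (smul_mem_smul g).2 ha

/-- The stabiliser of a point is transitive on the lines not through it. -/
theorem TwoTrans.antiflag_line (h2 : TwoTrans G) {p : P} {l m : L} (hl : p ∉ l) (hm : p ∉ m) :
    ∃ g ∈ G, g • p = p ∧ g • l = m := by
  classical
  set H : Subgroup (Col P L) := G ⊓ MulAction.stabilizer (Col P L) p with hH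
  have hfix : ∀ h : H, (h : Col P L) • p = p := fun h => h.2.2
  have horb := card_orbits_eq_of_fixed (α := P) (β := L) H (fun g _ => card_fixed_eq g)
  -- at most two orbits on points
  have hP : Nat.card (MulAction.orbitRel.Quotient H P) ≤ 2 := by
    obtain ⟨l0, hl0, -⟩ := exists_other_line (P := P) p l
    obtain ⟨q0, hq0, hq0p⟩ := exists_other l0 p
    let f : Bool → MulAction.orbitRel.Quotient H P :=
      fun b => if b then Quotient.mk'' p else Quotient.mk'' q0
    have hf : Function.Surjective f := by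
      intro x
      induction x using Quotient.inductionOn' with
      | _ x =>
        by_cases hx : x = p
        · exact ⟨true, by simp [f, hx]⟩
        · obtain ⟨g, hg, h1, h2'⟩ := h2 p x p q0 (Ne.symm hx) hq0p.symm
          refine ⟨false, ?_⟩
          simp only [f, Bool.false_eq_true, if_false]
          exact Quotient.sound' ⟨⟨g, hg, h1⟩, h2'⟩
    have := Nat.card_le_card_of_surjective f hf
    simpa using this
  -- three invariant pieces on lines are impossible
  by_contra hc
  push Not at hc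
  obtain ⟨k, hk, -⟩ := exists_other_line (P := P) p l
  let f : Fin 3 → MulAction.orbitRel.Quotient H L :=
    ![Quotient.mk'' k, Quotient.mk'' l, Quotient.mk'' m]
  have hkl : ∀ {x : L}, p ∉ x →
      (Quotient.mk'' k : MulAction.orbitRel.Quotient H L) ≠ Quotient.mk'' x := by
    intro x hx e
    obtain ⟨h, hh⟩ := Quotient.eq''.1 e.symm
    apply hx
    have h3 := (smul_mem_smul (h : Col P L)⁻¹).2 hk
    have hh' : (h : Col P L) • k = x := hh
    rw [inv_smul_eq_iff.2 (hfix h).symm] at h3
    have := (smul_mem_smul (h : Col P L)).2 hk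
    rwa [hfix h, hh'] at this
  have hlm : (Quotient.mk'' l : MulAction.orbitRel.Quotient H L) ≠ Quotient.mk'' m := by
    intro e
    obtain ⟨h, hh⟩ := Quotient.eq''.1 e.symm
    exact hc h h.2.1 (hfix h) hh
  have hf : Function.Injective f := by
    intro a b hab
    fin_cases a <;> fin_cases b <;>
      first
        | rfl
        | (exfalso; first
            | exact hkl hl hab | exact hkl hl hab.symm | exact hkl hm hab
            | exact hkl hm hab.symm | exact hlm hab | exact hlm hab.symm)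
  have := Nat.card_le_card_of_injective f hf
  rw [Nat.card_fin] at this
  omega

/-- The stabiliser of a line is transitive on the points off it. -/
theorem TwoTrans.antiflag (h2 : TwoTrans G) {l : L} {p q : P} (hp : p ∉ l) (hq : q ∉ l) :
    ∃ g ∈ G, g • l = l ∧ g • p = q := by
  obtain ⟨a, ha, hap⟩ : ∃ a : P, a ∈ l ∧ a ≠ p := exists_other l p
  have hpq : ∃ g ∈ G, g • p = q := by
    by_cases hpq : p = q
    · exact ⟨1, one_mem _, by rw [one_smul, hpq]⟩
    · obtain ⟨g, hg, h1, -⟩ := h2 p q q p hpq (Ne.symm hpq)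
      exact ⟨g, hg, h1⟩
  obtain ⟨g, hg, hgp⟩ := hpq
  have hql : q ∉ g • l := by
    rw [← hgp, smul_mem_smul]
    exact hp
  obtain ⟨h, hh, hhq, hhl⟩ := h2.antiflag_line hql hq
  exact ⟨h * g, mul_mem hh hg, by rw [mul_smul, hhl], by rw [mul_smul, hgp, hhq]⟩

/-- The stabiliser of a flag is transitive on the points off the line. -/
theorem TwoTrans.flag_affine (h2 : TwoTrans G) {Y : P} {M : L} (hY : Y ∈ M) {p q : P}
    (hp : p ∉ M) (hq : q ∉ M) : ∃ g ∈ G, g • Y = Y ∧ g • M = M ∧ g • p = q := by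
  set H : Subgroup (Col P L) := G ⊓ MulAction.stabilizer (Col P L) M with hH
  set K : Subgroup (Col P L) := H ⊓ MulAction.stabilizer (Col P L) Y with hK
  have hmemH : ∀ {h : Col P L}, h ∈ H → ∀ {x : P}, x ∈ M → h • x ∈ M :=
    fun {h} hh {x} hx => mem_of_fix h hh.2 hx
  have hoff : ∀ {h : Col P L}, h ∈ H → ∀ {x : P}, x ∉ M → h • x ∉ M := by
    intro h hh x hx hm
    have h1 := (smul_mem_smul h (p := x) (l := M)).1
    rw [show h • M = M from hh.2] at h1
    exact hx (h1 hm)
  -- the two orbit lengths of the line stabiliser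
  have hon : (MulAction.stabilizer (Col P L) Y).relIndex H = ProjectivePlane.order P L + 1 := by
    rw [relIndex_stabilizer, ← card_on_line (P := P) M, ← Nat.card_coe_set_eq]
    refine Nat.card_congr (Equiv.subtypeEquivRight fun x => ⟨?_, fun hx => ?_⟩)
    · rintro ⟨h, rfl⟩
      exact hmemH h.2 hY
    · obtain ⟨g, hg, h1, h2'⟩ := h2.flag hY hx
      exact ⟨⟨g, hg, h2'⟩, h1⟩
  have hoffc : (MulAction.stabilizer (Col P L) p).relIndex H =
      ProjectivePlane.order P L ^ 2 := by
    rw [relIndex_stabilizer, ← card_off (P := P) M, ← Nat.card_coe_set_eq]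
    refine Nat.card_congr (Equiv.subtypeEquivRight fun x => ⟨?_, fun hx => ?_⟩)
    · rintro ⟨h, rfl⟩
      exact hoff h.2 hp
    · obtain ⟨g, hg, h1, h2'⟩ := h2.antiflag hp hx
      exact ⟨⟨g, hg, h1⟩, h2'⟩
  set Sp := MulAction.stabilizer (Col P L) p
  -- `|H : K_p|` is divisible by both
  have hA : (K ⊓ Sp).relIndex H = Sp.relIndex K * (ProjectivePlane.order P L + 1) := by
    rw [← Subgroup.relIndex_mul_relIndex (K ⊓ Sp) K H inf_le_left inf_le_left,
      Subgroup.inf_relIndex_left, hK, Subgroup.inf_relIndex_left, hon]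
  have hB : ProjectivePlane.order P L ^ 2 ∣ (K ⊓ Sp).relIndex H := by
    rw [← Subgroup.relIndex_mul_relIndex (K ⊓ Sp) (H ⊓ Sp) H
      (inf_le_inf_right _ inf_le_left) inf_le_left, Subgroup.inf_relIndex_left (K := Sp), hoffc]
    exact Dvd.intro_left _ rfl
  rw [hA] at hB
  have hcop : Nat.Coprime (ProjectivePlane.order P L ^ 2) (ProjectivePlane.order P L + 1) :=
    Nat.Coprime.pow_left 2 (by rw [Nat.coprime_self_add_right]; exact Nat.coprime_one_right _)
  have hdiv := hcop.dvd_of_dvd_mul_right hB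
  have hne : Sp.relIndex K ≠ 0 := Subgroup.index_ne_zero_of_finite
  have hle := Nat.le_of_dvd (Nat.pos_of_ne_zero hne) hdiv
  rw [← card_off (P := P) M] at hle
  replace hle : {x : P | x ∉ M}.ncard ≤ Sp.relIndex K := (Nat.card_coe_set_eq _).symm.trans_le hle
  obtain ⟨h, hh, hhp⟩ := orbit_eq_of_ncard_le (H := K) (O := {x : P | x ∉ M})
    (fun h hh => hoff hh.1 hp) hle (y := q) hq
  exact ⟨h, hh.1.1, hh.2, hh.1.2, hhp⟩

/-- The stabiliser of two points is transitive on the other lines through the second. -/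
theorem TwoTrans.pencil (h2 : TwoTrans G) {X Y : P} {M M' : L} (hYM : Y ∈ M) (hYM' : Y ∈ M')
    (hXM : X ∉ M) (hXM' : X ∉ M') : ∃ g ∈ G, g • X = X ∧ g • Y = Y ∧ g • M = M' := by
  obtain ⟨g, hg, hgY, hgM⟩ := h2.flag hYM hYM'
  have hgX : g • X ∉ M' := by
    rw [← hgM, smul_mem_smul]
    exact hXM
  obtain ⟨h, hh, hhY, hhM, hhX⟩ := h2.flag_affine hYM' hgX hXM'
  exact ⟨h * g, mul_mem hh hg, by rw [mul_smul, hhX], by rw [mul_smul, hgY, hhY],
    by rw [mul_smul, hgM, hhM]⟩

end Cfsg.Agent.Lib.Ostrom64
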