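import Cfsg.Agent.Lib.Ostrom64.Basic

/-!
Perspectivities: centre and axis, elation groups (for S3732).
-/

set_option autoImplicit false
set_option linter.unusedSectionVars false

namespace Cfsg.Agent.Lib.Ostrom64

open Configuration

universe u w

variable {P : Type u} {L : Type w} [Membership P L] [ProjectivePlane P L] [Finite P] [Finite L]

theorem IsAxis.smul_line {g : Col P L} {l : L} (h : IsAxis g l) : g • l = l := by
  obtain ⟨p, hp, -⟩ := exists_third l (Classical.choose
    (Configuration.ProjectivePlane.exists_config (P := P) (L := L))) (Classical.choose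
    (Configuration.ProjectivePlane.exists_config (P := P) (L := L)))
  obtain ⟨q, hq, hqp⟩ := exists_other l p
  exact smul_line_eq_of_two g hqp hq hp (h q hq) (h p hp)

theorem IsCentre.smul_point {g : Col P L} {C : P} (h : IsCentre g C) : g • C = C :=
  IsAxis.smul_line (P := Dual L) (L := Dual P) (g := dualHom P L g) (l := C) h

/-- A fixed point off the axis is a centre. -/
theorem IsAxis.isCentre_of_fix {g : Col P L} {l : L} {C : P} (h : IsAxis g l) (hC : C ∉ l)
    (hfix : g • C = C) : IsCentre g C := by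
  intro m hm
  obtain ⟨x, hxm, hxl⟩ := exists_point P m l (fun e => hC (by rwa [← e]))
  exact smul_line_eq_of_two g (show C ≠ x from fun e => hC (e ▸ hxl)) hm hxm hfix (h x hxl)

/-- Two fixed points off the axis force the identity. -/
theorem IsAxis.eq_one {g : Col P L} {l : L} {a b : P} (h : IsAxis g l) (ha : a ∉ l) (hb : b ∉ l)
    (hab : a ≠ b) (hga : g • a = a) (hgb : g • b = b) : g = 1 := by
  obtain ⟨m, ham, hbm⟩ := exists_line L a b hab
  have hml : m ≠ l := fun e => ha (e ▸ ham)
  have hca := h.isCentre_of_fix ha hga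
  have hcb := h.isCentre_of_fix hb hgb
  have hoff : ∀ x : P, x ∉ m → g • x = x := by
    intro x hx
    obtain ⟨m1, h1a, h1x⟩ := exists_line L a x (fun e => hx (e ▸ ham))
    obtain ⟨m2, h2b, h2x⟩ := exists_line L b x (fun e => hx (e ▸ hbm))
    refine smul_point_eq_of_two g ?_ h1x h2x (hca m1 h1a) (hcb m2 h2b)
    intro e
    subst e
    exact hx (line_eq hab h1a h2b ham hbm ▸ h1x)
  apply eq_one_of_fix_all
  intro x
  by_cases hxm : x ∈ m
  · obtain ⟨k, hxk, hkm⟩ := exists_other_line (P := P) x m
    obtain ⟨y, hyk, hyx⟩ := exists_other k x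
    obtain ⟨z, hzk, hzx, hzy⟩ := exists_third k x y
    have hym : y ∉ m := fun hy => hkm (line_eq hyx hyk hxk hy hxm)
    have hzm : z ∉ m := fun hz => hkm (line_eq hzx hzk hxk hz hxm)
    exact smul_point_eq_of_two g hkm hxk hxm
      (smul_line_eq_of_two g hzy hzk hyk (hoff z hzm) (hoff y hym)) (hca m ham)
  · exact hoff x hxm

/-- The elations with axis `l` and the identity fix no point off `l`. -/
def IsElation (g : Col P L) (l : L) : Prop :=
  IsAxis g l ∧ ∀ p : P, p ∉ l → g • p ≠ p

/-- A perspectivity without fixed point off the axis has a centre on the axis. -/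
theorem IsElation.exists_centre {g : Col P L} {l : L} (h : IsElation g l) :
    ∃ C : P, C ∈ l ∧ IsCentre g C := by
  classical
  -- a fixed line other than the axis, and all of them concur
  have hgl := h.1.smul_line
  have hcard := card_fixed_eq g
  have hfp : Nat.card {p : P // g • p = p} = ProjectivePlane.order P L + 1 := by
    rw [← card_on_line (P := P) l]
    exact Nat.card_congr (Equiv.subtypeEquivRight fun p =>
      ⟨fun hp => by_contra fun hn => h.2 p hn hp, fun hp => h.1 p hp⟩)
  rw [hfp] at hcard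
  have h2 : ∃ m : L, g • m = m ∧ m ≠ l := by
    by_contra! hc
    have : Nat.card {m : L // g • m = m} ≤ 1 := by
      have : Subsingleton {m : L // g • m = m} :=
        ⟨fun a b => Subtype.ext ((hc a a.2).trans (hc b b.2).symm)⟩
      exact Finite.card_le_one_iff_subsingleton.2 this
    have := ProjectivePlane.one_lt_order P L
    omega
  obtain ⟨m, hgm, hml⟩ := h2
  obtain ⟨C, hCm, hCl⟩ := exists_point P m l hml
  have hall : ∀ k : L, g • k = k → C ∈ k := by
    intro k hk
    by_cases hkm : k = m
    · exact hkm ▸ hCm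
    obtain ⟨x, hxk, hxm⟩ := exists_point P k m hkm
    have hgx := smul_point_eq_of_two g hkm hxk hxm hk hgm
    have hxl : x ∈ l := by_contra fun hn => h.2 x hn hgx
    rwa [eq_of_mem hml hCm hCl hxm hxl]
  refine ⟨C, hCl, ?_⟩
  have hsub : {k : L | g • k = k} ⊆ {k : L | C ∈ k} := fun k hk => hall k hk
  have hle : ({k : L | C ∈ k}).ncard ≤ ({k : L | g • k = k}).ncard := by
    rw [← Nat.card_coe_set_eq, ← Nat.card_coe_set_eq]
    refine le_of_eq ?_
    rw [Set.coe_ofPred, Set.coe_ofPred, card_thru, hcard]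
  have := Set.eq_of_subset_of_ncard_le hsub hle (Set.toFinite _)
  intro k hk
  have hk' : k ∈ {k : L | g • k = k} := by rw [this]; exact hk
  exact hk'

/-- A collineation with an axis has a centre. -/
theorem IsAxis.exists_centre {g : Col P L} {l : L} (h : IsAxis g l) :
    ∃ C : P, IsCentre g C ∧ ((C ∉ l) ∨ ∀ p : P, p ∉ l → g • p ≠ p) := by
  by_cases hf : ∃ p : P, p ∉ l ∧ g • p = p
  · obtain ⟨C, hC, hgC⟩ := hf
    exact ⟨C, h.isCentre_of_fix hC hgC, Or.inl hC⟩
  · push Not at hf
    obtain ⟨C, -, hC⟩ := IsElation.exists_centre ⟨h, hf⟩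
    exact ⟨C, hC, Or.inr hf⟩

/-- A collineation with a centre has an axis. -/
theorem IsCentre.exists_axis {g : Col P L} {C : P} (h : IsCentre g C) :
    ∃ l : L, IsAxis g l := by
  obtain ⟨l, hl, -⟩ := IsAxis.exists_centre (P := Dual L) (L := Dual P) (g := dualHom P L g)
    (l := C) h
  exact ⟨l, hl⟩

/-- A nontrivial collineation has at most one axis. -/
theorem IsAxis.unique {g : Col P L} {l m : L} (hg : g ≠ 1) (hl : IsAxis g l) (hm : IsAxis g m) :
    l = m := by
  by_contra hne
  obtain ⟨x, hxl, hxm⟩ := exists_point P l m hne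
  obtain ⟨a, ha, hax⟩ := exists_other m x
  obtain ⟨b, hb, hbx, hba⟩ := exists_third m x a
  have hal : a ∉ l := fun h => hax (eq_of_mem hne h ha hxl hxm)
  have hbl : b ∉ l := fun h => hbx (eq_of_mem hne h hb hxl hxm)
  exact hg (hl.eq_one hal hbl hba.symm (hm a ha) (hm b hb))

/-- A nontrivial collineation has at most one centre. -/
theorem IsCentre.unique {g : Col P L} {C D : P} (hg : g ≠ 1) (hC : IsCentre g C)
    (hD : IsCentre g D) : C = D :=
  IsAxis.unique (P := Dual L) (L := Dual P) (g := dualHom P L g)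
    (fun e => hg (dualHom_injective P L (e.trans (map_one _).symm))) hC hD

/-- The fixed points of a nontrivial collineation with axis `l` and centre `C`. -/
theorem fix_iff_of_persp {g : Col P L} {l : L} {C : P} (hg : g ≠ 1) (hl : IsAxis g l)
    (hC : IsCentre g C) (p : P) : g • p = p ↔ p = C ∨ p ∈ l := by
  refine ⟨fun hp => ?_, ?_⟩
  · by_cases hpl : p ∈ l
    · exact Or.inr hpl
    · exact Or.inl (IsCentre.unique hg (hl.isCentre_of_fix hpl hp) hC)
  · rintro (rfl | hp)
    · exact hC.smul_point
    · exact hl p hp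

theorem fix_line_iff_of_persp {g : Col P L} {l : L} {C : P} (hg : g ≠ 1) (hl : IsAxis g l)
    (hC : IsCentre g C) (m : L) : g • m = m ↔ m = l ∨ C ∈ m :=
  fix_iff_of_persp (P := Dual L) (L := Dual P) (g := dualHom P L g) (l := C) (C := l)
    (fun e => hg (dualHom_injective P L (e.trans (map_one _).symm))) hC hl m

/-- An elation is the same as a nontrivial perspectivity whose centre is on the axis. -/
theorem isElation_iff {g : Col P L} {l : L} {C : P} (hg : g ≠ 1) (hl : IsAxis g l)
    (hC : IsCentre g C) : IsElation g l ↔ C ∈ l := by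
  constructor
  · intro h
    by_contra hn
    exact h.2 C hn hC.smul_point
  · intro h
    exact ⟨hl, fun p hp e => ((fix_iff_of_persp hg hl hC p).1 e).elim (fun e' => hp (e' ▸ h)) hp⟩

/-! ### Elation groups -/

/-- The group of elations with axis `l`. -/
def elat (P : Type u) {L : Type w} [Membership P L] [ProjectivePlane P L] [Finite P] [Finite L]
    (l : L) : Subgroup (Col P L) where
  carrier := {g | IsAxis g l ∧ (g = 1 ∨ ∀ p : P, p ∉ l → g • p ≠ p)}
  one_mem' := ⟨fun p _ => one_smul _ p, Or.inl rfl⟩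
  inv_mem' := by
    rintro g ⟨hA, hE⟩
    refine ⟨fun p hp => inv_smul_eq_iff.2 (hA p hp).symm, ?_⟩
    rcases hE with rfl | hE
    · exact Or.inl inv_one
    · exact Or.inr fun p hp e => hE p hp (inv_smul_eq_iff.1 e).symm
  mul_mem' := by
    rintro g h ⟨hgA, hgE⟩ ⟨hhA, hhE⟩
    refine ⟨fun p hp => by rw [mul_smul, hhA p hp, hgA p hp], ?_⟩
    rcases hgE with rfl | hgE
    · rw [one_mul]; exact hhE
    rcases hhE with rfl | hhE
    · rw [mul_one]; exact Or.inr hgE
    by_cases h1 : g * h = 1
    · exact Or.inl h1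
    refine Or.inr fun p hp e => ?_
    obtain ⟨A, hAl, hA⟩ := IsElation.exists_centre ⟨hgA, hgE⟩
    obtain ⟨B, hBl, hB⟩ := IsElation.exists_centre ⟨hhA, hhE⟩
    rw [mul_smul] at e
    -- `h • p` lies on both lines joining `p` to the two centres
    obtain ⟨m1, hm1A, hm1p⟩ := exists_line L A p (fun e' => hp (e' ▸ hAl))
    obtain ⟨m2, hm2B, hm2p⟩ := exists_line L B p (fun e' => hp (e' ▸ hBl))
    have hq2 : h • p ∈ m2 := mem_of_fix h (hB m2 hm2B) hm2p
    have hq1 : h • p ∈ m1 := by
      have : g⁻¹ • m1 = m1 := inv_smul_eq_iff.2 (hA m1 hm1A).symm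
      have h' := mem_of_fix g⁻¹ this hm1p
      rwa [show g⁻¹ • p = h • p from inv_smul_eq_iff.2 e.symm] at h'
    by_cases hAB : A = B
    · subst hAB
      -- the product has centre `A` on the axis and a fixed point off it
      have hAc : IsCentre (g * h) A := fun k hk => by rw [mul_smul, hB k hk, hA k hk]
      have hax : IsAxis (g * h) l := fun q hq => by rw [mul_smul, hhA q hq, hgA q hq]
      rcases (fix_iff_of_persp h1 hax hAc p).1 (by rw [mul_smul]; exact e) with e' | e'
      · exact hp (e' ▸ hAl)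
      · exact hp e'
    · have hm12 : m1 ≠ m2 := fun e' => by
        subst e'
        have hml : m1 = l := line_eq hAB hm1A hm2B hAl hBl
        exact hp (hml ▸ hm1p)
      exact hhE p hp (eq_of_mem hm12 hq1 hq2 hm1p hm2p)

theorem mem_elat {g : Col P L} {l : L} :
    g ∈ elat P l ↔ IsAxis g l ∧ (g = 1 ∨ ∀ p : P, p ∉ l → g • p ≠ p) := Iff.rfl

theorem elat_isAxis {g : Col P L} {l : L} (h : g ∈ elat P l) : IsAxis g l := h.1

theorem elat_free {g : Col P L} {l : L} (h : g ∈ elat P l) {p : P} (hp : p ∉ l)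
    (e : g • p = p) : g = 1 :=
  h.2.elim id fun h' => absurd e (h' p hp)

/-- The subgroup of collineations with centre `C`. -/
def withCentre (L : Type w) {P : Type u} [Membership P L] (C : P) : Subgroup (Col P L) where
  carrier := {g | IsCentre g C}
  one_mem' := fun m _ => one_smul _ m
  inv_mem' := fun {g} hg m hm => inv_smul_eq_iff.2 (hg m hm).symm
  mul_mem' := fun {g h} hg hh m hm => by rw [mul_smul, hh m hm, hg m hm]

/-- The group of elations with centre `C` and axis `l`. -/
def elatC {P : Type u} {L : Type w} [Membership P L] [ProjectivePlane P L] [Finite P] [Finite L]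
    (C : P) (l : L) : Subgroup (Col P L) :=
  elat P l ⊓ withCentre L C

theorem mem_elatC {g : Col P L} {C : P} {l : L} :
    g ∈ elatC C l ↔ g ∈ elat P l ∧ IsCentre g C := Iff.rfl

theorem exists_centre_of_mem_elat {g : Col P L} {l : L} (h : g ∈ elat P l) :
    ∃ C : P, C ∈ l ∧ g ∈ elatC C l := by
  by_cases h1 : g = 1
  · obtain ⟨C, hC, -⟩ := exists_third l (Classical.choose
      (Configuration.ProjectivePlane.exists_config (P := P) (L := L))) (Classical.choose
      (Configuration.ProjectivePlane.exists_config (P := P) (L := L)))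
    exact ⟨C, hC, h, h1 ▸ fun m _ => one_smul _ m⟩
  · obtain ⟨C, hC, hCc⟩ := IsElation.exists_centre ⟨h.1, h.2.resolve_left h1⟩
    exact ⟨C, hC, h, hCc⟩

theorem elatC_inf {A B : P} {l : L} (hAB : A ≠ B) {g : Col P L} (hA : g ∈ elatC A l)
    (hB : g ∈ elatC B l) : g = 1 :=
  by_contra fun h => hAB (IsCentre.unique h hA.2 hB.2)

/-- Conjugation moves axis and centre. -/
theorem IsAxis.conj {g : Col P L} {l : L} (h : IsAxis g l) (x : Col P L) :
    IsAxis (x * g * x⁻¹) (x • l) := by
  intro p hp
  have hp' : x⁻¹ • p ∈ l := by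
    rw [← smul_mem_smul x, smul_inv_smul]
    exact hp
  rw [mul_smul, mul_smul, h _ hp', smul_inv_smul]

theorem IsCentre.conj {g : Col P L} {C : P} (h : IsCentre g C) (x : Col P L) :
    IsCentre (x * g * x⁻¹) (x • C) := by
  intro m hm
  have hm' : C ∈ x⁻¹ • m := by
    rw [← smul_mem_smul x, smul_inv_smul]
    exact hm
  rw [mul_smul, mul_smul, h _ hm', smul_inv_smul]

theorem elat_conj {g : Col P L} {l : L} (h : g ∈ elat P l) (x : Col P L) :
    x * g * x⁻¹ ∈ elat P (x • l) := by
  refine ⟨h.1.conj x, h.2.imp (fun e => by subst e; group) fun hE p hp e => ?_⟩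
  have hp' : x⁻¹ • p ∉ l := fun hm => hp (by
    have := (smul_mem_smul x).2 hm
    rwa [smul_inv_smul] at this)
  apply hE _ hp'
  rw [mul_smul, mul_smul] at e
  exact eq_inv_smul_iff.2 e

theorem elatC_conj {g : Col P L} {C : P} {l : L} (h : g ∈ elatC C l) (x : Col P L) :
    x * g * x⁻¹ ∈ elatC (x • C) (x • l) :=
  ⟨elat_conj h.1 x, h.2.conj x⟩

end Cfsg.Agent.Lib.Ostrom64
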