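import Cfsg.Agent.Lib.Ostrom64.Spec
import Mathlib.GroupTheory.PGroup
import Mathlib.GroupTheory.Perm.Cycle.Type
import Mathlib.LinearAlgebra.Matrix.Charpoly.FiniteField

/-!
A finite projective plane of odd order in which every involution of a group is a perspectivity and
any two points, and any two lines, are fixed by one, has prime power order (brick D of S3732).
-/

set_option autoImplicit false
set_option linter.unusedSectionVars false

namespace Cfsg.Agent.Lib.Ostrom64.PlanePow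

open Configuration

universe u w

/-- The points moved by an involutive map are even in number. -/
theorem card_mod_two {X : Type*} [Finite X] (σ : X → X) (h : ∀ x, σ (σ x) = x) :
    Nat.card X % 2 = Nat.card {x // σ x = x} % 2 := by
  classical
  cases nonempty_fintype X
  let e : Equiv.Perm X := ⟨σ, σ, h, h⟩
  have h2 : 2 ∣ e.support.card :=
    Equiv.Perm.two_dvd_card_support (Equiv.ext fun x => by simp [pow_two, e, h])
  have hc := Finset.card_add_card_compl e.support
  have hcompl : e.supportᶜ = Finset.univ.filter fun x => σ x = x := by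
    ext x; simp [e]
  rw [hcompl] at hc
  rw [Nat.card_eq_fintype_card, Nat.card_eq_fintype_card, Fintype.card_subtype]
  omega

/-- A group acting freely on a finite set has order dividing the cardinality of the set. -/
theorem card_dvd_of_free {G X : Type*} [Group G] [MulAction G X] [Finite X]
    (h : ∀ (g : G) (x : X), g • x = x → g = 1) : Nat.card G ∣ Nat.card X := by
  have hb : ∀ x : X, MulAction.stabilizer G x = ⊥ := fun x =>
    (Subgroup.eq_bot_iff_forall _).2 fun g hg => h g x hg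
  rw [Nat.card_congr (MulAction.selfEquivOrbitsQuotientProd hb), Nat.card_prod]
  exact dvd_mul_left _ _

/-- Two disjoint commuting subgroups whose mixed products generate cyclic groups meeting both
trivially are groups of the same prime exponent. -/
theorem isPrimePow_of_pair {G : Type*} [Group G] (A B : Subgroup G) [Finite A] [Finite B]
    (hA : A ≠ ⊥) (hB : B ≠ ⊥) (hcomm : ∀ a ∈ A, ∀ b ∈ B, a * b = b * a)
    (hmix : ∀ a ∈ A, ∀ b ∈ B, a ≠ 1 → b ≠ 1 →
      ∀ n : ℕ, ((a * b) ^ n ∈ A ∨ (a * b) ^ n ∈ B) → (a * b) ^ n = 1) :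
    IsPrimePow (Nat.card A) := by
  have key : ∀ a ∈ A, ∀ b ∈ B, a ≠ 1 → b ≠ 1 → orderOf a = orderOf b := by
    intro a ha b hb ha1 hb1
    have hc : Commute a b := hcomm a ha b hb
    refine Nat.dvd_antisymm (orderOf_dvd_of_pow_eq_one ?_) (orderOf_dvd_of_pow_eq_one ?_)
    · have h1 := hmix a ha b hb ha1 hb1 (orderOf b)
      rw [hc.mul_pow, pow_orderOf_eq_one, mul_one] at h1
      exact h1 (Or.inl (pow_mem ha _))
    · have h1 := hmix a ha b hb ha1 hb1 (orderOf a)
      rw [hc.mul_pow, pow_orderOf_eq_one, one_mul] at h1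
      exact h1 (Or.inr (pow_mem hb _))
  obtain ⟨⟨b, hb⟩, hb1⟩ := (Subgroup.ne_bot_iff_exists_ne_one).1 hB
  have hb1' : b ≠ 1 := fun e => hb1 (Subtype.ext e)
  obtain ⟨⟨a, ha⟩, ha1⟩ := (Subgroup.ne_bot_iff_exists_ne_one).1 hA
  have ha1' : a ≠ 1 := fun e => ha1 (Subtype.ext e)
  set p := (orderOf b).minFac with hp
  have hab : orderOf a = orderOf b := key a ha b hb ha1' hb1'
  have hob : orderOf b ≠ 1 := fun e => hb1' (orderOf_eq_one_iff.1 e)
  have : Fact p.Prime := ⟨Nat.minFac_prime hob⟩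
  -- some element of order `p` in `A`
  have hpdvd : p ∣ orderOf a := hab ▸ Nat.minFac_dvd _
  have hfin : IsOfFinOrder a := by
    have := isOfFinOrder_of_finite (⟨a, ha⟩ : A)
    exact (Submonoid.isOfFinOrder_coe (x := (⟨a, ha⟩ : A.toSubmonoid))).2 this
  have hord : orderOf (a ^ (orderOf a / p)) = p :=
    orderOf_pow_orderOf_div hfin.orderOf_pos.ne' hpdvd
  have hne : a ^ (orderOf a / p) ≠ 1 := fun e => by
    rw [e, orderOf_one] at hord; exact (Fact.out : p.Prime).ne_one hord.symm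
  have hobp : orderOf b = p := (key _ (pow_mem ha _) b hb hne hb1').symm.trans hord
  have hpg : IsPGroup p A := by
    intro x
    by_cases hx : (x : G) = 1
    · exact ⟨0, Subtype.ext (by simpa using hx)⟩
    · exact ⟨1, Subtype.ext (by
        rw [SubmonoidClass.coe_pow, pow_one, ← hobp, ← key x x.2 b hb hx hb1']
        exact pow_orderOf_eq_one _)⟩
  obtain ⟨n, hn⟩ := hpg.exists_card_eq
  refine ⟨p, n, (Fact.out : p.Prime).prime, ?_, hn.symm⟩
  rcases n with _ | n
  · rw [pow_zero, Subgroup.card_eq_one] at hn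
    exact absurd hn hA
  · exact Nat.succ_pos n

section Persp

variable {P : Type u} {L : Type w} [Membership P L] [ProjectivePlane P L] [Finite P] [Finite L]

/-- Membership in `elatC`, symmetrically in centre and axis. -/
theorem mem_elatC_iff {g : Col P L} {C : P} {l : L} (hC : C ∈ l) :
    g ∈ elatC C l ↔ IsAxis g l ∧ IsCentre g C := by
  refine ⟨fun h => ⟨h.1.1, h.2⟩, fun h => ⟨⟨h.1, ?_⟩, h.2⟩⟩
  by_cases hg : g = 1
  · exact Or.inl hg
  · exact Or.inr ((isElation_iff hg h.1 h.2).2 hC).2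

theorem elatC_dual {g : Col P L} {C : P} {l : L} (hC : C ∈ l)
    (h : g ∈ elatC C l) :
    dualHom P L g ∈ elatC (P := Dual L) (L := Dual P) (show Dual L from l) (show Dual P from C) :=
  (mem_elatC_iff (P := Dual L) (L := Dual P) (g := dualHom P L g) (C := l) (l := C) hC).2
    ⟨h.2, h.1.1⟩

/-- The centre of a nontrivial elation with centre `X`, `X ∈ l`, is the only one. -/
theorem elatC_eq {g : Col P L} {X Y : P} {l m : L} (hg : g ≠ 1) (h : g ∈ elatC X l)
    (h' : g ∈ elatC Y m) : X = Y ∧ l = m :=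
  ⟨IsCentre.unique hg h.2 h'.2, IsAxis.unique hg h.1.1 h'.1.1⟩

/-- Two directions in the group of elations with axis `l`. -/
theorem isPrimePow_elatC {Γ : Subgroup (Col P L)} {l : L} {X Y : P} (hX : X ∈ l) (hY : Y ∈ l)
    (hXY : X ≠ Y) (h1 : elatC X l ⊓ Γ ≠ ⊥) (h2 : elatC Y l ⊓ Γ ≠ ⊥) :
    IsPrimePow (Nat.card ↥(elatC X l ⊓ Γ)) := by
  have hfix : ∀ Z ∈ l, ∀ a ∈ elat P l, a • Z = Z := fun Z hZ a ha => ha.1 Z hZ
  have hconj : ∀ Z ∈ l, ∀ a ∈ elat P l, ∀ b ∈ elatC Z l, a * b * a⁻¹ ∈ elatC Z l := by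
    intro Z hZ a ha b hb
    have := elatC_conj hb a
    rwa [hfix Z hZ a ha, (elat_isAxis ha).smul_line] at this
  refine isPrimePow_of_pair (elatC X l ⊓ Γ) (elatC Y l ⊓ Γ) h1 h2 (fun a ha b hb => ?_)
    fun a ha b hb ha1 hb1 n hn => ?_
  · have e1 : a * b * a⁻¹ * b⁻¹ = 1 := by
      refine elatC_inf hXY ?_ (mul_mem (hconj Y hY a ha.1.1 b hb.1) (inv_mem hb.1))
      have := mul_mem ha.1 (hconj X hX b hb.1.1 a⁻¹ (inv_mem ha.1))
      rwa [show a * (b * a⁻¹ * b⁻¹) = a * b * a⁻¹ * b⁻¹ by group] at this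
    exact mul_inv_eq_iff_eq_mul.1 (mul_inv_eq_one.1 e1)
  · obtain ⟨D, -, hD⟩ := exists_centre_of_mem_elat (mul_mem ha.1.1 hb.1.1)
    have hDX : D ≠ X := by
      rintro rfl
      refine hb1 (elatC_inf hXY ?_ hb.1)
      have := mul_mem ((elatC _ l).inv_mem ha.1) hD
      rwa [inv_mul_cancel_left] at this
    have hDY : D ≠ Y := by
      rintro rfl
      refine ha1 (elatC_inf hXY ha.1 ?_)
      have := mul_mem hD (inv_mem hb.1)
      rwa [mul_inv_cancel_right] at this
    rcases hn with hn | hn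
    · exact elatC_inf hDX (pow_mem hD n) hn.1
    · exact elatC_inf hDY (pow_mem hD n) hn.1

/-- Two directions in the group of elations with centre `W`. -/
theorem isPrimePow_centre {Γ : Subgroup (Col P L)} {W : P} {l m : L} (hl : W ∈ l) (hm : W ∈ m)
    (hlm : l ≠ m) (h1 : elatC W l ⊓ Γ ≠ ⊥) (h2 : elatC W m ⊓ Γ ≠ ⊥) :
    IsPrimePow (Nat.card ↥(elatC W l ⊓ Γ)) := by
  have hmap : ∀ k : L, W ∈ k → elatC (P := Dual L) (L := Dual P) (show Dual L from k)
      (show Dual P from W) ⊓ Γ.map (dualHom P L) = (elatC W k ⊓ Γ).map (dualHom P L) := by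
    intro k hk
    refine le_antisymm ?_ ?_
    · rintro _ ⟨hg, ⟨g, hg', rfl⟩⟩
      refine ⟨g, ⟨(mem_elatC_iff hk).2 ?_, hg'⟩, rfl⟩
      have := (mem_elatC_iff (P := Dual L) (L := Dual P) (g := dualHom P L g) (C := k) (l := W)
        hk).1 hg
      exact ⟨this.2, this.1⟩
    · rintro _ ⟨g, ⟨hg, hg'⟩, rfl⟩
      exact ⟨elatC_dual hk hg, ⟨g, hg', rfl⟩⟩
  have h := isPrimePow_elatC (P := Dual L) (L := Dual P) (Γ := Γ.map (dualHom P L))
    (l := W) (X := l) (Y := m) hl hm hlm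
    (by rwa [hmap l hl, ne_eq, Subgroup.map_eq_bot_iff_of_injective _ (dualHom_injective P L)])
    (by rwa [hmap m hm, ne_eq, Subgroup.map_eq_bot_iff_of_injective _ (dualHom_injective P L)])
  rwa [hmap l hl, Subgroup.card_map_of_injective (dualHom_injective P L)] at h

end Persp

/-- The hypotheses of the brick. -/
structure Hyp (P : Type u) (L : Type w) [Membership P L] [ProjectivePlane P L] [Finite P]
    [Finite L] (Γ : Subgroup (Col P L)) : Prop where
  odd : Odd (ProjectivePlane.order P L)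
  axis : ∀ g ∈ Γ, g * g = 1 → g ≠ 1 → ∃ l : L, IsAxis g l
  two : ∀ X Y : P, X ≠ Y → ∃ g ∈ Γ, g * g = 1 ∧ g ≠ 1 ∧ g • X = X ∧ g • Y = Y
  twoL : ∀ l m : L, l ≠ m → ∃ g ∈ Γ, g * g = 1 ∧ g ≠ 1 ∧ g • l = l ∧ g • m = m

section Main

variable {P : Type u} {L : Type w} [Membership P L] [ProjectivePlane P L] [Finite P] [Finite L]
  {Γ : Subgroup (Col P L)}

/-- An involution of `Γ` is a homology with centre `C` and axis `a`. -/
def IsPair (Γ : Subgroup (Col P L)) (C : P) (a : L) : Prop :=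
  ∃ h ∈ Γ, h * h = 1 ∧ h ≠ 1 ∧ IsAxis h a ∧ IsCentre h C

/-- The group of elations in `Γ` with centre `X` and axis `l`. -/
abbrev EC (Γ : Subgroup (Col P L)) (X : P) (l : L) : Subgroup (Col P L) := elatC X l ⊓ Γ

theorem card_elat_dvd (l : L) (H : Subgroup (Col P L)) (hH : H ≤ elat P l) :
    Nat.card H ∣ ProjectivePlane.order P L ^ 2 := by
  rw [← card_off l]
  have hst : ∀ (g : H) (p : P), p ∉ l → (g : Col P L) • p ∉ l := by
    intro g p hp hm
    refine hp ?_
    rw [← (elat_isAxis (hH g.2)).smul_line] at hm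
    exact (smul_mem_smul _).1 hm
  let _ : MulAction H {p : P // p ∉ l} :=
    { smul := fun g p => ⟨(g : Col P L) • (p : P), hst g p p.2⟩
      one_smul := fun p => Subtype.ext (one_smul (Col P L) (p : P))
      mul_smul := fun g h p => Subtype.ext (mul_smul (g : Col P L) (h : Col P L) (p : P)) }
  exact card_dvd_of_free fun g p e =>
    Subtype.ext (elat_free (hH g.2) p.2 (congrArg Subtype.val e))

theorem card_elatC_dvd {X : P} {l : L} (H : Subgroup (Col P L)) (hH : H ≤ elatC X l)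
    {m : L} (hm : X ∈ m) (hXl : X ∈ l) (hml : m ≠ l) :
    Nat.card H ∣ ProjectivePlane.order P L := by
  classical
  cases nonempty_fintype P
  have hcard : Nat.card {p : P // p ∈ m ∧ p ≠ X} = ProjectivePlane.order P L := by
    have h := card_on_line (P := P) m
    rw [Nat.card_eq_fintype_card, Fintype.card_subtype] at h ⊢
    have he : (Finset.univ.filter fun p : P => p ∈ m ∧ p ≠ X) =
        (Finset.univ.filter fun p : P => p ∈ m).erase X := by
      ext p; simp [and_comm]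
    rw [he, Finset.card_erase_of_mem (by simpa using hm)]
    omega
  rw [← hcard]
  have hst : ∀ (g : H) (p : P), p ∈ m ∧ p ≠ X → (g : Col P L) • p ∈ m ∧ (g : Col P L) • p ≠ X :=
    fun g p hp => ⟨mem_of_fix _ ((hH g.2).2 m hm) hp.1, fun e => hp.2 (by
      have := congrArg (fun q => (g : Col P L)⁻¹ • q) e
      simpa [inv_smul_eq_iff.2 ((hH g.2).2).smul_point.symm] using this)⟩
  let _ : MulAction H {p : P // p ∈ m ∧ p ≠ X} :=
    { smul := fun g p => ⟨(g : Col P L) • (p : P), hst g p p.2⟩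
      one_smul := fun p => Subtype.ext (one_smul (Col P L) (p : P))
      mul_smul := fun g h p => Subtype.ext (mul_smul (g : Col P L) (h : Col P L) (p : P)) }
  exact card_dvd_of_free fun g p e =>
    Subtype.ext (elat_free (hH g.2).1 (fun hpl => p.2.2 (eq_of_mem hml p.2.1 hpl hm hXl))
      (congrArg Subtype.val e))

theorem odd_card_elat (hyp : Hyp P L Γ) (l : L) (H : Subgroup (Col P L)) (hH : H ≤ elat P l) :
    Odd (Nat.card H) := (hyp.odd.pow).of_dvd_nat (card_elat_dvd l H hH)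

namespace Hyp

variable (hyp : Hyp P L Γ)
include hyp

theorem pair_notMem {C : P} {a : L} (h : IsPair Γ C a) : C ∉ a := by
  obtain ⟨g, -, hgg, hg1, hA, hC⟩ := h
  intro hCa
  have hg : g ∈ elat P a := ((mem_elatC_iff hCa).2 ⟨hA, hC⟩).1
  have h2 : orderOf g = 2 := orderOf_eq_prime (by rwa [pow_two]) hg1
  have hodd : Odd (orderOf g) :=
    (hyp.odd.pow (n := 2)).of_dvd_nat
      ((Nat.card_zpowers g).symm ▸ card_elat_dvd a _ (Subgroup.zpowers_le.2 hg))
  rw [h2] at hodd
  exact absurd hodd (by decide)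

theorem exists_pair {g : Col P L} (hg : g ∈ Γ) (hgg : g * g = 1) (hg1 : g ≠ 1) :
    ∃ (C : P) (a : L), IsPair Γ C a ∧ IsAxis g a ∧ IsCentre g C := by
  obtain ⟨a, ha⟩ := hyp.axis g hg hgg hg1
  obtain ⟨C, hC, -⟩ := ha.exists_centre
  exact ⟨C, a, ⟨g, hg, hgg, hg1, ha, hC⟩, ha, hC⟩

/-- The fixed points of an involution. -/
theorem two_points {X Y : P} (h : X ≠ Y) : ∃ (C : P) (a : L), IsPair Γ C a ∧
    (X = C ∨ X ∈ a) ∧ (Y = C ∨ Y ∈ a) := by
  obtain ⟨g, hg, hgg, hg1, hX, hY⟩ := hyp.two X Y h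
  obtain ⟨C, a, hp, ha, hC⟩ := hyp.exists_pair hg hgg hg1
  exact ⟨C, a, hp, (fix_iff_of_persp hg1 ha hC X).1 hX, (fix_iff_of_persp hg1 ha hC Y).1 hY⟩

theorem two_lines {l m : L} (h : l ≠ m) : ∃ (C : P) (a : L), IsPair Γ C a ∧
    (l = a ∨ C ∈ l) ∧ (m = a ∨ C ∈ m) := by
  obtain ⟨g, hg, hgg, hg1, hl, hm⟩ := hyp.twoL l m h
  obtain ⟨C, a, hp, ha, hC⟩ := hyp.exists_pair hg hgg hg1
  exact ⟨C, a, hp, (fix_line_iff_of_persp hg1 ha hC l).1 hl,
    (fix_line_iff_of_persp hg1 ha hC m).1 hm⟩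

theorem pair_conj {C : P} {a : L} (h : IsPair Γ C a) {x : Col P L} (hx : x ∈ Γ) :
    IsPair Γ (x • C) (x • a) := by
  obtain ⟨g, hg, hgg, hg1, hA, hC⟩ := h
  refine ⟨x * g * x⁻¹, mul_mem (mul_mem hx hg) (inv_mem hx), ?_, fun e => hg1 ?_,
    hA.conj x, hC.conj x⟩
  · rw [show x * g * x⁻¹ * (x * g * x⁻¹) = x * (g * g) * x⁻¹ by group, hgg]; group
  · have := congrArg (fun y => x⁻¹ * y * x) e
    simpa [mul_assoc] using this

/-- Lemma 1: the centres of a fixed axis are conjugate under its elations. -/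
theorem centres_conj {C C' : P} {a : L} (h : IsPair Γ C a) (h' : IsPair Γ C' a) :
    ∃ s ∈ elat P a ⊓ Γ, s • C = C' := by
  by_cases hCC : C = C'
  · exact ⟨1, one_mem _, by rw [one_smul, hCC]⟩
  have hCa := hyp.pair_notMem h
  have hC'a := hyp.pair_notMem h'
  obtain ⟨g, hg, hgg, hg1, hA, hC⟩ := h
  obtain ⟨g', hg', hgg', hg1', hA', hC'⟩ := h'
  set r := g' * g with hr
  have hgi : g⁻¹ = g := inv_eq_of_mul_eq_one_right hgg
  have hgi' : g'⁻¹ = g' := inv_eq_of_mul_eq_one_right hgg'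
  have hrA : IsAxis r a := fun p hp => by rw [hr, mul_smul, hA p hp, hA' p hp]
  have hr1 : r ≠ 1 := fun e => hCC (by
    have h1 : g' = g := (eq_inv_of_mul_eq_one_left e).trans hgi
    subst h1
    exact IsCentre.unique hg1 hC hC')
  have hrE : r ∈ elat P a := by
    refine ⟨hrA, Or.inr fun D hD e => hCC ?_⟩
    have e' : r⁻¹ • D = D := inv_smul_eq_iff.2 e.symm
    have hrinv : r⁻¹ = g * g' := by rw [hr, mul_inv_rev, hgi, hgi']
    have h1 : r • (g • D) = g • D := by
      calc r • (g • D) = g' • D := by rw [hr, mul_smul, ← mul_smul g g, hgg, one_smul]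
        _ = g • (g • (g' • D)) := by rw [← mul_smul g g, hgg, one_smul]
        _ = g • (r⁻¹ • D) := by rw [hrinv, mul_smul]
        _ = g • D := by rw [e']
    have hga : g • D ∉ a := fun hm => hD (by
      rw [← hA.smul_line] at hm
      exact (smul_mem_smul _).1 hm)
    have h2 : g • D = D := by_contra fun hne => hr1 (hrA.eq_one hga hD hne h1 e)
    have h3 : g' • D = D := by
      calc g' • D = g' • (g • D) := by rw [h2]
        _ = r • D := by rw [hr, mul_smul]
        _ = D := e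
    exact (((fix_iff_of_persp hg1 hA hC D).1 h2).resolve_right hD).symm.trans
      (((fix_iff_of_persp hg1' hA' hC' D).1 h3).resolve_right hD)
  obtain ⟨j, hj⟩ : Odd (orderOf r) := (hyp.odd.pow (n := 2)).of_dvd_nat
    ((Nat.card_zpowers r).symm ▸ card_elat_dvd a _ (Subgroup.zpowers_le.2 hrE))
  set s := r ^ (j + 1) with hs
  have hss : s * s = r := by
    rw [hs, ← pow_add, show j + 1 + (j + 1) = 1 + orderOf r by omega, pow_add, pow_one,
      pow_orderOf_eq_one, mul_one]
  have hinv : ∀ m : ℕ, g * r ^ m * g⁻¹ = (r ^ m)⁻¹ := by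
    intro m
    rw [← conj_pow, ← inv_pow]
    congr 1
    rw [hr, mul_inv_rev, hgi, hgi', ← mul_assoc, mul_assoc (g * g'), hgg, mul_one]
  have hsconj : s * g * s⁻¹ = g' := by
    have e1 : g * s⁻¹ = s * g := by
      have e2 := hinv (j + 1)
      rw [← hs] at e2
      have e3 : g * s * g⁻¹ = s⁻¹ := e2
      calc g * s⁻¹ = g * (g * s * g⁻¹) := by rw [e3]
        _ = (g * g) * s * g⁻¹ := by group
        _ = s * g := by rw [hgg, one_mul, hgi]
    rw [mul_assoc, e1, ← mul_assoc, hss, hr, mul_assoc, hgg, mul_one]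
  refine ⟨s, ⟨pow_mem hrE _, pow_mem (mul_mem hg' hg) _⟩, ?_⟩
  have := hC.conj s
  rw [hsconj] at this
  exact IsCentre.unique hg1' this hC'

omit hyp in
theorem dual_pair {C : P} {a : L} : IsPair Γ C a →
    IsPair (P := Dual L) (L := Dual P) (Γ.map (dualHom P L)) (show Dual L from a)
      (show Dual P from C) := by
  rintro ⟨g, hg, hgg, hg1, hA, hC⟩
  exact ⟨dualHom P L g, ⟨g, hg, rfl⟩, by rw [← map_mul, hgg, map_one],
    fun e => hg1 (dualHom_injective P L (e.trans (map_one _).symm)), hC, hA⟩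

theorem dual : Hyp (Dual L) (Dual P) (Γ.map (dualHom P L)) where
  odd := by rw [ProjectivePlane.Dual.order]; exact hyp.odd
  axis := by
    rintro _ ⟨g, hg, rfl⟩ hgg hg1
    have hg1' : g ≠ 1 := fun e => hg1 (by rw [e, map_one])
    rw [← map_mul, ← map_one (dualHom P L)] at hgg
    obtain ⟨C, a, -, -, hC⟩ := hyp.exists_pair hg (dualHom_injective P L hgg) hg1'
    exact ⟨C, hC⟩
  two := by
    intro l m h
    obtain ⟨g, hg, hgg, hg1, hl, hm⟩ := hyp.twoL l m h
    exact ⟨dualHom P L g, ⟨g, hg, rfl⟩, by rw [← map_mul, hgg, map_one],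
      fun e => hg1 (dualHom_injective P L (e.trans (map_one _).symm)), hl, hm⟩
  twoL := by
    intro X Y h
    obtain ⟨g, hg, hgg, hg1, hX, hY⟩ := hyp.two X Y h
    exact ⟨dualHom P L g, ⟨g, hg, rfl⟩, by rw [← map_mul, hgg, map_one],
      fun e => hg1 (dualHom_injective P L (e.trans (map_one _).symm)), hX, hY⟩

/-- Lemma 1, dual: two axes of one centre differ by an elation with that centre whose axis passes
through their intersection. -/
theorem axes_conj {X : P} {a a' : L} (h : IsPair Γ X a) (h' : IsPair Γ X a') (hne : a ≠ a')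
    {p : P} (hpa : p ∈ a) (hpa' : p ∈ a') {m : L} (hXm : X ∈ m) (hpm : p ∈ m) :
    ∃ s ∈ EC Γ X m, s • a = a' := by
  obtain ⟨_, ⟨hs, ⟨s, hsΓ, rfl⟩⟩, hsa⟩ :=
    centres_conj hyp.dual (dual_pair h) (dual_pair h')
  have hsC : IsCentre s X := hs.1
  have hsa' : s • a = a' := hsa
  have hs1 : s ≠ 1 := fun e => hne (by rw [← hsa', e, one_smul])
  have hX : X ∉ a := hyp.pair_notMem h
  obtain ⟨m', hm'⟩ := hsC.exists_axis
  have hXm' : X ∈ m' := by
    refine (?_ : IsCentre (P := Dual L) (L := Dual P) (dualHom P L s) (show Dual L from m') →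
      X ∈ m') hm'
    intro _
    by_contra hn
    rcases hs.2 with e | e
    · exact hs1 (dualHom_injective P L (e.trans (map_one _).symm))
    · exact e m' hn hm'.smul_line
  have hpX : p ≠ X := fun e => hX (e ▸ hpa)
  have hsp : s • p = p := by
    have h1 : s • p ∈ a' := hsa' ▸ (smul_mem_smul s).2 hpa
    obtain ⟨n, hXn, hpn⟩ := exists_line L X p hpX.symm
    have h2 : s • p ∈ n := mem_of_fix s (hsC n hXn) hpn
    have hna : n ≠ a' := fun e => hyp.pair_notMem h' (e ▸ hXn)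
    exact eq_of_mem hna h2 h1 hpn hpa'
  have hpm' : p ∈ m' := ((fix_iff_of_persp hs1 hm' hsC p).1 hsp).resolve_left hpX
  have := line_eq hpX.symm hXm' hpm' hXm hpm
  subst this
  exact ⟨s, ⟨(mem_elatC_iff hXm').2 ⟨hm', hsC⟩, hsΓ⟩, hsa'⟩

/-- Step 2: not all elation groups are trivial. -/
theorem exists_elat : ∃ l : L, elat P l ⊓ Γ ≠ ⊥ := by
  classical
  by_contra hc
  push Not at hc
  have cu : ∀ {C C' : P} {a : L}, IsPair Γ C a → IsPair Γ C' a → C = C' := by
    intro C C' a h h'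
    obtain ⟨s, hs, e⟩ := hyp.centres_conj h h'
    rw [hc a, Subgroup.mem_bot] at hs
    rwa [hs, one_smul] at e
  have au : ∀ {X : P} {a a' : L}, IsPair Γ X a → IsPair Γ X a' → a = a' := by
    intro X a a' h h'
    by_contra hne
    obtain ⟨p, hpa, hpa'⟩ := exists_point P a a' hne
    obtain ⟨m, hXm, hpm⟩ := exists_line L X p fun e => hyp.pair_notMem h (e ▸ hpa)
    obtain ⟨s, hs, e⟩ := hyp.axes_conj h h' hne hpa hpa' hXm hpm
    have : s ∈ elat P m ⊓ Γ := ⟨hs.1.1, hs.2⟩
    rw [hc m, Subgroup.mem_bot] at this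
    exact hne (by rwa [this, one_smul] at e)
  have sym : ∀ {X Y : P} {a b : L}, IsPair Γ X a → IsPair Γ Y b → Y ∈ a → X ∈ b := by
    intro X Y a b hXa hYb hYa
    obtain ⟨g, hg, hgg, hg1, hA, hC⟩ := hXa
    have h' := hyp.pair_conj hYb hg
    rw [hA Y hYa] at h'
    rcases (fix_line_iff_of_persp hg1 hA hC b).1 (au h' hYb) with e | e
    · exact absurd (e ▸ hYa) (hyp.pair_notMem hYb)
    · exact e
  have hall : ∀ l : L, ∃ C, IsPair Γ C l := by
    intro l
    by_contra hl
    push Not at hl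
    have hp : ∀ Z Z' : P, Z ∈ l → Z' ∈ l → Z ≠ Z' →
        (∃ a, IsPair Γ Z a ∧ Z' ∈ a) ∨ ∃ a, IsPair Γ Z' a ∧ Z ∈ a := by
      intro Z Z' hZ hZ' hne
      obtain ⟨C, a, hpair, h1, h2⟩ := hyp.two_points hne
      rcases h1 with rfl | h1
      · rcases h2 with rfl | h2
        · exact absurd rfl hne
        · exact Or.inl ⟨a, hpair, h2⟩
      · rcases h2 with rfl | h2
        · exact Or.inr ⟨a, hpair, h1⟩
        · exact absurd hpair (line_eq hne h1 h2 hZ hZ' ▸ hl C)
    -- three centres on `l`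
    obtain ⟨N0, hN0⟩ : ∃ N0 : P, ∀ Z ∈ l, Z ≠ N0 → ∃ a, IsPair Γ Z a := by
      by_cases h : ∃ Z ∈ l, ∀ a, ¬ IsPair Γ Z a
      · obtain ⟨Z, hZ, hZn⟩ := h
        refine ⟨Z, fun Z' hZ' hne => ?_⟩
        rcases hp Z' Z hZ' hZ hne with ⟨a, ha, -⟩ | ⟨a, ha, -⟩
        · exact ⟨a, ha⟩
        · exact absurd ha (hZn a)
      · push Not at h
        obtain ⟨Z, -⟩ := ProjectivePlane.exists_config (P := P) (L := L)
        exact ⟨Z, fun Z' hZ' _ => h Z' hZ'⟩
    have hk : 3 ≤ ProjectivePlane.order P L := by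
      have := ProjectivePlane.one_lt_order P L
      obtain ⟨j, hj⟩ := hyp.odd
      omega
    cases nonempty_fintype P
    have hc3 : 3 ≤ (Finset.univ.filter fun p : P => p ∈ l ∧ p ≠ N0).card := by
      have h := card_on_line (P := P) l
      rw [Nat.card_eq_fintype_card, Fintype.card_subtype] at h
      have hsub : (Finset.univ.filter fun p : P => p ∈ l).erase N0 ⊆
          Finset.univ.filter fun p : P => p ∈ l ∧ p ≠ N0 := by
        intro p; simp only [Finset.mem_erase, Finset.mem_filter, Finset.mem_univ, true_and]; exact fun h => ⟨h.2, h.1⟩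
      have h2 := Finset.card_le_card hsub
      have h3 := Finset.pred_card_le_card_erase
        (s := Finset.univ.filter fun p : P => p ∈ l) (a := N0)
      omega
    obtain ⟨X, Y, Z, hX, hY, hZ, hXY, hXZ, hYZ⟩ := Finset.two_lt_card_iff.1 hc3
    simp only [Finset.mem_filter, Finset.mem_univ, true_and] at hX hY hZ
    obtain ⟨a, ha⟩ := hN0 X hX.1 hX.2
    have hin : ∀ Y' : P, Y' ∈ l → Y' ≠ N0 → X ≠ Y' → Y' ∈ a := by
      intro Y' hY' hY'N hne
      obtain ⟨b, hb⟩ := hN0 Y' hY' hY'N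
      rcases hp X Y' hX.1 hY' hne with ⟨a', ha', h⟩ | ⟨b', hb', h⟩
      · exact au ha' ha ▸ h
      · exact sym hb' ha (au hb' hb ▸ au hb hb' ▸ h)
    have := line_eq hYZ (hin Y hY.1 hY.2 hXY) (hin Z hZ.1 hZ.2 hXZ) hY.1 hZ.1
    exact hyp.pair_notMem ha (this ▸ hX.1)
  choose c hcp using hall
  have hinj : Function.Injective c := fun l m e => au (hcp l) (e ▸ hcp m)
  cases nonempty_fintype P
  cases nonempty_fintype L
  have hbij : Function.Bijective c := (Fintype.bijective_iff_injective_and_card c).2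
    ⟨hinj, (ProjectivePlane.card_points_eq_card_lines P L).symm⟩
  let e := Equiv.ofBijective c hbij
  set π : P → L := ⇑e.symm with hπ
  have hπp : ∀ X, IsPair Γ X (π X) := fun X => by
    have := hcp (e.symm X)
    rwa [show c (e.symm X) = X from e.apply_symm_apply X] at this
  have hself : ∀ X, X ∉ π X := fun X => hyp.pair_notMem (hπp X)
  have hsymm : ∀ X Y, Y ∈ π X → X ∈ π Y := fun X Y h => sym (hπp X) (hπp Y) h
  set k := ProjectivePlane.order P L with hk
  set q := k.minFac with hq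
  have : Fact q.Prime := ⟨Nat.minFac_prime (by
    have := ProjectivePlane.one_lt_order P L; omega)⟩
  have hk0 : (k : ZMod q) = 0 := (ZMod.natCast_eq_zero_iff _ _).2 (Nat.minFac_dvd k)
  let A : Matrix P P (ZMod q) := fun x y => if y ∈ π x then 1 else 0
  let J : Matrix P P (ZMod q) := fun _ _ => 1
  have hAA : A * A = J := by
    ext x z
    have hterm : ∀ y, A x y * A y z = if y ∈ π x ∧ y ∈ π z then 1 else 0 := by
      intro y
      simp only [A]
      by_cases h1 : y ∈ π x <;> by_cases h2 : y ∈ π z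
      · simp [h1, h2, hsymm z y h2]
      · have : z ∉ π y := fun h => h2 (hsymm y z h)
        simp [h1, h2, this]
      · simp [h1]
      · simp [h1]
    rw [Matrix.mul_apply, Finset.sum_congr rfl fun y _ => hterm y, Finset.sum_boole]
    show ((Finset.univ.filter fun y => y ∈ π x ∧ y ∈ π z).card : ZMod q) = 1
    by_cases hxz : x = z
    · subst hxz
      have h := card_on_line (P := P) (π x)
      rw [Nat.card_eq_fintype_card, Fintype.card_subtype] at h
      simp only [and_self, h, Nat.cast_add, hk0, Nat.cast_one, zero_add, ← hk]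
    · have hne : π x ≠ π z := fun h => hxz (e.symm.injective h)
      obtain ⟨y, hy1, hy2⟩ := exists_point P (π x) (π z) hne
      rw [show (Finset.univ.filter fun y => y ∈ π x ∧ y ∈ π z) = {y} from by
        ext w
        simp only [Finset.mem_filter, Finset.mem_univ, true_and, Finset.mem_singleton]
        exact ⟨fun h => eq_of_mem hne h.1 h.2 hy1 hy2, fun h => h ▸ ⟨hy1, hy2⟩⟩,
        Finset.card_singleton, Nat.cast_one]
  have hJA : J * A = J := by
    ext x z
    rw [Matrix.mul_apply]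
    show ∑ y, 1 * A y z = 1
    simp only [one_mul, A, Finset.sum_boole]
    have h := card_on_line (P := P) (π z)
    rw [Nat.card_eq_fintype_card, Fintype.card_subtype] at h
    rw [show (Finset.univ.filter fun y => z ∈ π y) = Finset.univ.filter fun y => y ∈ π z from by
      ext y
      simp only [Finset.mem_filter, Finset.mem_univ, true_and]
      exact ⟨hsymm y z, hsymm z y⟩, h]
    simp [hk0, ← hk]
  have hpow : ∀ j : ℕ, A ^ (j + 2) = J := by
    intro j
    induction j with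
    | zero => rw [zero_add, pow_two, hAA]
    | succ j ih => rw [show j + 1 + 2 = (j + 2) + 1 from rfl, pow_succ, ih, hJA]
  have h1 := ZMod.trace_pow_card A
  rw [show A ^ q = J from by
    have h2q := (Fact.out : q.Prime).two_le
    obtain ⟨j, hj⟩ : ∃ j, q = j + 2 := ⟨q - 2, by omega⟩
    exact (congrArg (A ^ ·) hj).trans (hpow j)] at h1
  have htA : A.trace = 0 := by
    simp only [Matrix.trace, Matrix.diag, A]
    exact Finset.sum_eq_zero fun x _ => by simp [hself x]
  have htJ : J.trace = 1 := by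
    simp only [Matrix.trace, Matrix.diag, J, Finset.sum_const, Finset.card_univ, nsmul_eq_mul,
      mul_one]
    rw [ProjectivePlane.card_points P L]
    simp [← hk, hk0]
  rw [htA, htJ, zero_pow (Fact.out : q.Prime).ne_zero] at h1
  exact one_ne_zero h1

/-- Step 3, the easy half: the product of two directions. -/
theorem mul_card_le {l : L} {X Y : P} (hXY : X ≠ Y) :
    Nat.card (EC Γ X l) * Nat.card (EC Γ Y l) ≤ Nat.card ↥(elat P l ⊓ Γ) := by
  rw [← Nat.card_prod]
  refine Nat.card_le_card_of_injective (fun p => ⟨(p.1 : Col P L) * (p.2 : Col P L),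
    mul_mem (⟨p.1.2.1.1, p.1.2.2⟩ : (p.1 : Col P L) ∈ elat P l ⊓ Γ)
      (⟨p.2.2.1.1, p.2.2.2⟩ : (p.2 : Col P L) ∈ elat P l ⊓ Γ)⟩) ?_
  rintro ⟨a, b⟩ ⟨a', b'⟩ h
  have h' : (a : Col P L) * b = a' * b' := congrArg Subtype.val h
  have e : (a' : Col P L)⁻¹ * a = b' * (b : Col P L)⁻¹ := by
    rw [eq_mul_inv_iff_mul_eq, mul_assoc, h', inv_mul_cancel_left]
  have h1 : (a' : Col P L)⁻¹ * a = 1 := elatC_inf hXY (mul_mem (inv_mem a'.2.1) a.2.1)
    (e ▸ mul_mem b'.2.1 (inv_mem b.2.1))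
  have ha : a' = a := Subtype.ext (inv_mul_eq_one.1 h1)
  subst ha
  exact Prod.ext rfl (Subtype.ext (mul_left_cancel h'))

/-- Claim K. -/
theorem card_eq {l a : L} {X Y : P} (hXl : X ∈ l) (hXa : IsPair Γ X a) (hYa : Y ∈ a)
    (hYl : Y ∈ l) :
    Nat.card (EC Γ X l) * Nat.card (EC Γ Y l) = Nat.card ↥(elat P l ⊓ Γ) := by
  have hXY : X ≠ Y := fun e => hyp.pair_notMem hXa (e ▸ hYa)
  refine le_antisymm (hyp.mul_card_le hXY) ?_
  rw [← Nat.card_congr (MulAction.orbitProdStabilizerEquivGroup ↥(elat P l ⊓ Γ) a), Nat.card_prod]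
  refine Nat.mul_le_mul ?_ ?_
  · refine Nat.card_le_card_of_surjective (fun s : EC Γ X l =>
      (⟨(s : Col P L) • a, ⟨⟨(s : Col P L), s.2.1.1, s.2.2⟩, rfl⟩⟩ :
        MulAction.orbit ↥(elat P l ⊓ Γ) a)) ?_
    rintro ⟨_, ⟨⟨e, he⟩, rfl⟩⟩
    by_cases hea : e • a = a
    · exact ⟨1, Subtype.ext (by simpa using hea.symm)⟩
    have h' := hyp.pair_conj hXa he.2
    rw [he.1.1 X hXl] at h'
    have hYa' : Y ∈ e • a := by
      have := (smul_mem_smul e).2 hYa
      rwa [he.1.1 Y hYl] at this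
    obtain ⟨s, hs, hsa⟩ := hyp.axes_conj hXa h' (Ne.symm hea) hYa hYa' hXl hYl
    exact ⟨⟨s, hs⟩, Subtype.ext hsa⟩
  · refine Nat.card_le_card_of_injective
      (fun e => ⟨((e : ↥(elat P l ⊓ Γ)) : Col P L), ?_⟩)
      (fun e e' h => Subtype.ext (Subtype.ext (congrArg Subtype.val h :)))
    obtain ⟨⟨e, he⟩, hea⟩ := e
    have hea' : e • a = a := hea
    refine ⟨(mem_elatC_iff hYl).2 ⟨he.1.1, ?_⟩, he.2⟩
    by_cases he1 : e = 1
    · subst he1; exact fun m _ => one_smul _ m
    obtain ⟨C, hCl, hC⟩ := exists_centre_of_mem_elat he.1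
    rcases (fix_line_iff_of_persp he1 he.1.1 hC.2 a).1 hea' with e1 | e1
    · exact absurd (e1 ▸ hXl) (hyp.pair_notMem hXa)
    · have hal : a ≠ l := fun h => hyp.pair_notMem hXa (h ▸ hXl)
      exact eq_of_mem hal e1 hCl hYa hYl ▸ hC.2

/-- Step 4: at a point which is no centre some line carries a centre whose axis passes through
the point, and `Γ` moves it onto every line through the point. -/
theorem exists_related_pair {Z : P} {l : L} (hZ : Z ∈ l) (hZn : ∀ a, ¬ IsPair Γ Z a) :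
    ∃ (X : P) (a : L), IsPair Γ X a ∧ X ∈ l ∧ Z ∈ a := by
  classical
  have key : ∀ M M' : L, Z ∈ M → Z ∈ M' → M ≠ M' → ∃ g ∈ Γ, g * g = 1 ∧
      g • Z = Z ∧ (∀ N : L, Z ∈ N → (g • N = N ↔ N = M ∨ N = M')) ∧
      ∃ (C : P) (a : L), IsPair Γ C a ∧ Z ∈ a ∧ (C ∈ M ∨ C ∈ M') := by
    intro M M' hM hM' hne
    obtain ⟨g, hg, hgg, hg1, h1, h2⟩ := hyp.twoL M M' hne
    obtain ⟨C, a, hp, hA, hC⟩ := hyp.exists_pair hg hgg hg1
    have hgZ : g • Z = Z := smul_point_eq_of_two g hne hM hM' h1 h2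
    have hZC : Z ≠ C := fun e => hZn a (e ▸ hp)
    have hZa : Z ∈ a := ((fix_iff_of_persp hg1 hA hC Z).1 hgZ).resolve_left hZC
    have hf := fix_line_iff_of_persp hg1 hA hC
    have hone : ∀ N N' : L, Z ∈ N → Z ∈ N' → C ∈ N → C ∈ N' → N = N' :=
      fun N N' u1 u2 u3 u4 => line_eq hZC u1 u3 u2 u4
    rcases (hf M).1 h1 with e1 | e1 <;> rcases (hf M').1 h2 with e2 | e2
    · exact absurd (e1.trans e2.symm) hne
    · refine ⟨g, hg, hgg, hgZ, fun N hN => ?_, C, a, hp, hZa, Or.inr e2⟩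
      rw [hf N]
      exact ⟨fun h => h.imp (fun h => h.trans e1.symm) (fun h => hone N M' hN hM' h e2),
        fun h => h.imp (fun h => h.trans e1) (fun h => by rw [h]; exact e2)⟩
    · refine ⟨g, hg, hgg, hgZ, fun N hN => ?_, C, a, hp, hZa, Or.inl e1⟩
      rw [hf N]
      constructor
      · rintro (h | h)
        · exact Or.inr (h.trans e2.symm)
        · exact Or.inl (hone N M hN hM h e1)
      · rintro (rfl | rfl)
        · exact Or.inr e1
        · exact Or.inl e2
    · exact absurd (hone M M' hM hM' e1 e2) hne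
  let S : Subgroup (Col P L) := MulAction.stabilizer (Col P L) Z ⊓ Γ
  let T := {M : L // Z ∈ M}
  let _ : MulAction S T :=
    { smul := fun g M => ⟨(g : Col P L) • (M : L),
        by
          have h := (smul_mem_smul (g : Col P L)).2 M.2
          rwa [show (g : Col P L) • Z = Z from g.2.1] at h⟩
      one_smul := fun M => Subtype.ext (one_smul (Col P L) (M : L))
      mul_smul := fun g h M => Subtype.ext (mul_smul (g : Col P L) (h : Col P L) (M : L)) }
  have hpar : ∀ O M M' : T, M ≠ M' → Nat.card (MulAction.orbit S O) % 2 =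
      Nat.card {N : MulAction.orbit S O // (N : T) = M ∨ (N : T) = M'} % 2 := by
    intro O M M' hne
    obtain ⟨g, hg, hgg, hgZ, hfix, -⟩ :=
      key M M' M.2 M'.2 fun e => hne (Subtype.ext e)
    let g' : S := ⟨g, hgZ, hg⟩
    have hgg' : g' * g' = 1 := Subtype.ext hgg
    rw [card_mod_two (fun N : MulAction.orbit S O => g' • N)
      (fun N => by rw [← mul_smul, hgg', one_smul])]
    congr 1
    refine Nat.card_congr (Equiv.subtypeEquivRight fun N => ?_)
    rw [Subtype.ext_iff, Subtype.ext_iff]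
    show g • ((N : T) : L) = ((N : T) : L) ↔ _
    rw [hfix _ (N : T).2, Subtype.ext_iff, Subtype.ext_iff]
  have htrans : ∀ M N : T, N ∈ MulAction.orbit S M := by
    intro M N
    by_contra hN
    have hMN : M ≠ N := fun e => hN (e ▸ MulAction.mem_orbit_self M)
    have h1 : Nat.card (MulAction.orbit S M) % 2 = 1 := by
      rw [hpar M M N hMN]
      have : Nat.card {R : MulAction.orbit S M // (R : T) = M ∨ (R : T) = N} = 1 := by
        rw [Nat.card_eq_one_iff_exists]
        refine ⟨⟨⟨M, MulAction.mem_orbit_self M⟩, Or.inl rfl⟩, fun R => Subtype.ext (Subtype.ext ?_)⟩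
        rcases R.2 with e | e
        · exact e
        · exact absurd (e ▸ R.1.2) hN
      rw [this]
    obtain ⟨R, hR, hRM, hRN⟩ := exists_third_line Z (M : L) (N : L)
    have hR' : (⟨R, hR⟩ : T) ∉ MulAction.orbit S M := by
      intro hmem
      have h2 := hpar M M ⟨R, hR⟩ fun e => hRM (congrArg Subtype.val e).symm
      have h3 : Nat.card {R' : MulAction.orbit S M // (R' : T) = M ∨ (R' : T) = ⟨R, hR⟩} = 2 := by
        rw [Nat.card_eq_two_iff]
        refine ⟨⟨⟨M, MulAction.mem_orbit_self M⟩, Or.inl rfl⟩, ⟨⟨_, hmem⟩, Or.inr rfl⟩,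
          fun e => hRM (congrArg (fun x => ((x.1 : T) : L)) e).symm, ?_⟩
        ext x
        simp only [Set.mem_insert_iff, Set.mem_singleton_iff, Set.mem_univ, iff_true]
        rcases x.2 with e | e
        · exact Or.inl (Subtype.ext (Subtype.ext e))
        · exact Or.inr (Subtype.ext (Subtype.ext e))
      rw [h3] at h2
      omega
    have h4 := hpar M N ⟨R, hR⟩ fun e => hRN (congrArg Subtype.val e).symm
    have h5 : Nat.card {R' : MulAction.orbit S M // (R' : T) = N ∨ (R' : T) = ⟨R, hR⟩} = 0 := by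
      rw [Nat.card_eq_zero]
      refine Or.inl ⟨fun x => ?_⟩
      rcases x.2 with e | e
      · exact hN (e ▸ x.1.2)
      · exact hR' (e ▸ x.1.2)
    rw [h5] at h4
    omega
  obtain ⟨R, hR, hRl⟩ := exists_other_line Z l
  obtain ⟨g, -, -, -, -, C, a, hp, hZa, hC⟩ := key l R hZ hR (Ne.symm hRl)
  rcases hC with hC | hC
  · exact ⟨C, a, hp, hC, hZa⟩
  · obtain ⟨s, hs⟩ := htrans ⟨R, hR⟩ ⟨l, hZ⟩
    have hsl : (s : Col P L) • R = l := congrArg Subtype.val hs
    refine ⟨(s : Col P L) • C, (s : Col P L) • a, hyp.pair_conj hp s.2.2,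
      hsl ▸ (smul_mem_smul (s : Col P L)).2 hC, ?_⟩
    have h := (smul_mem_smul (s : Col P L)).2 hZa
    rwa [show (s : Col P L) • Z = Z from s.2.1] at h

/-- Every point of a line is paired with another one. -/
theorem exists_related {l : L} {Z : P} (hZ : Z ∈ l) : ∃ W, W ∈ l ∧ W ≠ Z ∧
    Nat.card (EC Γ Z l) * Nat.card (EC Γ W l) = Nat.card ↥(elat P l ⊓ Γ) := by
  by_cases hZc : ∃ a, IsPair Γ Z a
  · obtain ⟨a, ha⟩ := hZc
    have hal : a ≠ l := fun e => hyp.pair_notMem ha (e ▸ hZ)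
    obtain ⟨Y, hYa, hYl⟩ := exists_point P a l hal
    exact ⟨Y, hYl, fun e => hyp.pair_notMem ha (e ▸ hYa), hyp.card_eq hZ ha hYa hYl⟩
  · obtain ⟨X, a, hp, hXl, hZa⟩ := hyp.exists_related_pair hZ fun a ha => hZc ⟨a, ha⟩
    refine ⟨X, hXl, fun e => hyp.pair_notMem hp (e ▸ hZa), ?_⟩
    rw [mul_comm]
    exact hyp.card_eq hXl hp hZa hZ

omit hyp in
/-- Every elation other than the identity has exactly one centre. -/
theorem card_elat_eq (l : L) [Fintype {p : P // p ∈ l}] :
    Nat.card ↥(elat P l ⊓ Γ) =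
      1 + ∑ Z : {p : P // p ∈ l}, (Nat.card (EC Γ (Z : P) l) - 1) := by
  classical
  have hsub : ∀ H : Subgroup (Col P L), Nat.card H = 1 + Nat.card {g : H // g ≠ 1} := fun H => by
    rw [← Nat.card_congr (Equiv.sumCompl fun g : H => g = 1), Nat.card_sum, Nat.card_unique]
  have e : (Σ Z : {p : P // p ∈ l}, {g : EC Γ (Z : P) l // g ≠ 1}) ≃
      {g : ↥(elat P l ⊓ Γ) // g ≠ 1} := by
    refine Equiv.ofBijective (fun x => ⟨⟨(x.2.1 : Col P L), x.2.1.2.1.1, x.2.1.2.2⟩,
      fun h => x.2.2 (Subtype.ext (congrArg Subtype.val h :))⟩) ⟨?_, ?_⟩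
    · rintro ⟨Z, g⟩ ⟨Z', g'⟩ h
      have hval : (g.1 : Col P L) = g'.1 := congrArg (fun y => (y.1 : Col P L)) h
      have hne : (g.1 : Col P L) ≠ 1 := fun e => g.2 (Subtype.ext e)
      obtain rfl : Z = Z' := Subtype.ext (IsCentre.unique hne g.1.2.1.2 (hval ▸ g'.1.2.1.2))
      exact congrArg (Sigma.mk Z) (Subtype.ext (Subtype.ext hval))
    · rintro ⟨⟨g, hg⟩, hg1⟩
      obtain ⟨C, hC, hgC⟩ := exists_centre_of_mem_elat hg.1
      exact ⟨⟨⟨C, hC⟩, ⟨⟨g, hgC, hg.2⟩, fun e => hg1 (Subtype.ext (congrArg Subtype.val e :))⟩⟩,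
        rfl⟩
  rw [hsub (elat P l ⊓ Γ), ← Nat.card_congr e, Nat.card_sigma]
  congr 1
  refine Finset.sum_congr rfl fun Z _ => ?_
  rw [hsub (EC Γ (Z : P) l), Nat.add_sub_cancel_left]

/-- The case of one direction. -/
theorem isPrimePow_single {l : L} {W : P} (hW : W ∈ l)
    (hN : Nat.card (EC Γ W l) = Nat.card ↥(elat P l ⊓ Γ))
    (hN1 : 1 < Nat.card (EC Γ W l))
    (hone : ∀ Z ∈ l, Z ≠ W → Nat.card (EC Γ Z l) = 1) :
    IsPrimePow (ProjectivePlane.order P L) := by
  classical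
  cases nonempty_fintype P
  cases nonempty_fintype L
  set k := ProjectivePlane.order P L with hk
  have hk3 : 3 ≤ k := by
    have := ProjectivePlane.one_lt_order P L
    obtain ⟨j, hj⟩ := hyp.odd
    omega
  have hEeq : EC Γ W l = elat P l ⊓ Γ :=
    Subgroup.eq_of_le_of_card_ge (le_inf (inf_le_left.trans inf_le_left) inf_le_right) hN.ge
  -- the line is an axis
  obtain ⟨C, hC⟩ : ∃ C, IsPair Γ C l := by
    by_contra hc
    push Not at hc
    obtain ⟨Z, hZ, hZW⟩ := exists_other l W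
    obtain ⟨Z', hZ', hZ'W, hZZ'⟩ := exists_third l W Z
    obtain ⟨C, a, hp, h1, h2⟩ := hyp.two_points hZZ'
    have bad : ∀ A B : P, A ∈ l → B ∈ l → A ≠ W → B ≠ W → IsPair Γ A a → B ∈ a → False := by
      intro A B hA hB hAW hBW hAp hBa
      have h := hyp.card_eq hA hAp hBa hB
      rw [hone A hA hAW, hone B hB hBW, one_mul, ← hN] at h
      omega
    rcases h1 with rfl | h1
    · rcases h2 with rfl | h2
      · exact hZZ' rfl
      · exact bad Z' Z hZ' hZ hZ'W hZW hp h2
    · rcases h2 with rfl | h2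
      · exact bad Z Z' hZ hZ' hZW hZ'W hp h1
      · exact hc C (line_eq hZZ' h1 h2 hZ' hZ ▸ hp)
  have hCl := hyp.pair_notMem hC
  obtain ⟨J, hCJ, hWJ⟩ := exists_line L C W fun e => hCl (e ▸ hW)
  have hJl : J ≠ l := fun e => hCl (e ▸ hCJ)
  have hNk : Nat.card (EC Γ W l) ∣ k := card_elatC_dvd (EC Γ W l) inf_le_left hWJ hW hJl
  -- every centre of `l` lies on `J`
  set S := {C' : P // IsPair Γ C' l} with hS
  have hSJ : ∀ C', IsPair Γ C' l → ∃ s ∈ EC Γ W l, s • C = C' ∧ C' ∈ J := by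
    intro C' hC'
    obtain ⟨s, hs, hsC⟩ := hyp.centres_conj hC hC'
    rw [← hEeq] at hs
    exact ⟨s, hs, hsC, hsC ▸ mem_of_fix s (hs.1.2 J hWJ) hCJ⟩
  let φ : EC Γ W l → S := fun s => ⟨(s : Col P L) • C, by
    have h := hyp.pair_conj hC s.2.2
    rwa [(elat_isAxis s.2.1.1).smul_line] at h⟩
  have hφ : Function.Bijective φ := by
    refine ⟨fun s t h => ?_, fun C' => ?_⟩
    · have h' : (s : Col P L) • C = (t : Col P L) • C := congrArg Subtype.val h
      have h1 : (t : Col P L)⁻¹ * s = 1 := elat_free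
        (mul_mem (inv_mem t.2.1.1) s.2.1.1) hCl (by rw [mul_smul, h', inv_smul_smul])
      exact (Subtype.ext (inv_mul_eq_one.1 h1)).symm
    · obtain ⟨s, hs, e, -⟩ := hSJ C' C'.2
      exact ⟨⟨s, hs⟩, Subtype.ext e⟩
  have hScard : Nat.card S = Nat.card (EC Γ W l) := (Nat.card_congr (Equiv.ofBijective φ hφ)).symm
  -- centres on `l` have axis `J`
  have hW' : ∀ (Z : P) (a : L), Z ∈ l → Z ≠ W → IsPair Γ Z a → W ∈ a ∧ a = J := by
    intro Z a hZ hZW hp
    have hal : a ≠ l := fun e => hyp.pair_notMem hp (e ▸ hZ)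
    obtain ⟨Y, hYa, hYl⟩ := exists_point P a l hal
    have hYW : Y = W := by
      by_contra hne
      have h := hyp.card_eq hZ hp hYa hYl
      rw [hone Z hZ hZW, hone Y hYl hne, one_mul, ← hN] at h
      omega
    subst hYW
    refine ⟨hYa, ?_⟩
    obtain ⟨g, hg, hgg, hg1, hA, hCg⟩ := hp
    have hgl : g • l = l := hCg l hZ
    let σ : S → S := fun C' => ⟨g • (C' : P), by
      have h := hyp.pair_conj C'.2 hg
      rwa [hgl] at h⟩
    have hmod := card_mod_two σ fun C' => Subtype.ext (by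
      show g • g • (C' : P) = (C' : P)
      rw [← mul_smul, hgg, one_smul])
    have hoddS : Nat.card S % 2 = 1 := by
      rw [hScard]
      exact Nat.odd_iff.1 (hyp.odd.of_dvd_nat hNk)
    have : Nonempty {C' : S // σ C' = C'} := (Nat.card_pos_iff.1 (by omega)).1
    obtain ⟨⟨⟨C', hC'⟩, hfix⟩⟩ := this
    have hC'l := hyp.pair_notMem hC'
    have hC'a : C' ∈ a := ((fix_iff_of_persp hg1 hA hCg C').1
      (congrArg Subtype.val hfix)).resolve_left fun e => hC'l (e ▸ hZ)
    obtain ⟨-, -, -, hC'J⟩ := hSJ C' hC'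
    exact line_eq (fun e => hC'l (by rw [e]; exact hYl)) hC'a hYa hC'J hWJ
  have hcardoff : Nat.card {p : P // p ∈ l ∧ p ≠ W} = k := by
    have h := card_on_line (P := P) l
    rw [Nat.card_eq_fintype_card, Fintype.card_subtype] at h ⊢
    rw [show (Finset.univ.filter fun p : P => p ∈ l ∧ p ≠ W) =
        (Finset.univ.filter fun p : P => p ∈ l).erase W by ext p; simp [and_comm],
      Finset.card_erase_of_mem (by simpa using hW)]
    omega
  have hEne : EC Γ W l ≠ ⊥ := fun e => by rw [e, Subgroup.card_bot] at hN1; omega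
  -- two centres on `l` give elations with axis `J`
  have htwoA : ∀ Z Z' : P, Z ∈ l → Z' ∈ l → Z ≠ W → Z' ≠ W → IsPair Γ Z J → IsPair Γ Z' J →
      ∃ s ∈ EC Γ W J, s • Z = Z' := by
    intro Z Z' hZ hZ' hZW hZ'W hp hp'
    obtain ⟨s, hs, e⟩ := hyp.centres_conj hp hp'
    by_cases hs1 : s = 1
    · exact ⟨s, hs1 ▸ one_mem _, e⟩
    obtain ⟨D, hDJ, hD⟩ := exists_centre_of_mem_elat hs.1
    have hDZ : D ≠ Z := fun h => hyp.pair_notMem hp (h ▸ hDJ)
    obtain ⟨n, hDn, hZn⟩ := exists_line L D Z hDZ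
    have hZ'n : Z' ∈ n := e ▸ mem_of_fix s (hD.2 n hDn) hZn
    have hne : Z ≠ Z' := fun h =>
      hs1 (elat_free hs.1 (hyp.pair_notMem hp) (by rw [e, h]))
    have := line_eq hne hZn hZ'n hZ hZ'
    subst this
    have := eq_of_mem hJl hDJ hDn hWJ hW
    subst this
    exact ⟨s, ⟨hD, hs.2⟩, e⟩
  by_cases hall : ∀ Z, Z ∈ l → Z ≠ W → ∃ a, IsPair Γ Z a
  · -- all points of `l` but `W` are centres for `J`
    have hJp : ∀ Z, Z ∈ l → Z ≠ W → IsPair Γ Z J := fun Z hZ hZW => by
      obtain ⟨a, ha⟩ := hall Z hZ hZW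
      exact (hW' Z a hZ hZW ha).2 ▸ ha
    obtain ⟨Z₀, hZ₀, hZ₀W⟩ := exists_other l W
    have hle : k ≤ Nat.card (EC Γ W J) := by
      choose s hs hse using fun Z : {p : P // p ∈ l ∧ p ≠ W} =>
        htwoA Z₀ Z hZ₀ Z.2.1 hZ₀W Z.2.2 (hJp _ hZ₀ hZ₀W) (hJp _ Z.2.1 Z.2.2)
      rw [← hcardoff]
      refine Nat.card_le_card_of_injective (fun Z => (⟨s Z, hs Z⟩ : EC Γ W J)) fun Z Z' h => ?_
      have h' : s Z = s Z' := congrArg Subtype.val h
      exact Subtype.ext (by rw [← hse Z, h', hse])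
    have heq : Nat.card (EC Γ W J) = k := le_antisymm (Nat.le_of_dvd (by omega)
      (card_elatC_dvd (EC Γ W J) inf_le_left hW hWJ (Ne.symm hJl))) hle
    rw [← heq]
    exact isPrimePow_centre hWJ hW hJl
      (fun e => by rw [show EC Γ W J = ⊥ from e, Subgroup.card_bot] at heq; omega) hEne
  · push Not at hall
    obtain ⟨Z, hZ, hZW, hZn⟩ := hall
    have hB : ∀ Z', Z' ∈ l → Z' ≠ W → (∀ a, ¬ IsPair Γ Z' a) →
        ∃ b, IsPair Γ W b ∧ Z' ∈ b := by
      intro Z' hZ' hZ'W hn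
      obtain ⟨X, a, hp, hXl, hZa⟩ := hyp.exists_related_pair hZ' hn
      have h := hyp.card_eq hXl hp hZa hZ'
      rw [hone Z' hZ' hZ'W, mul_one] at h
      have hXW : X = W := by
        by_contra hne
        rw [hone X hXl hne, ← hN] at h
        omega
      exact ⟨a, hXW ▸ hp, hZa⟩
    obtain ⟨b₀, hb₀, hZb₀⟩ := hB Z hZ hZW hZn
    have hfirst : ∀ M : {M : L // Z ∈ M ∧ M ≠ l},
        (∃ C' : S, (C' : P) ∈ (M : L)) ∨ ∃ s : EC Γ W l, (s : Col P L) • b₀ = M := by
      rintro ⟨M, hZM, hMl⟩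
      obtain ⟨D, a, hp, h1, h2⟩ := hyp.two_lines (Ne.symm hMl)
      have hDZ : D ≠ Z := fun e => hZn a (e ▸ hp)
      rcases h1 with rfl | h1
      · rcases h2 with rfl | h2
        · exact absurd rfl hMl
        · exact Or.inl ⟨⟨D, hp⟩, h2⟩
      · rcases h2 with rfl | h2
        · have hDW : D = W := by
            by_contra hne
            have h := hyp.card_eq h1 hp hZM hZ
            rw [hone D h1 hne, hone Z hZ hZW, ← hN] at h
            omega
          subst hDW
          refine Or.inr ?_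
          by_cases hMb : M = b₀
          · refine ⟨1, ?_⟩
            show ((1 : Col P L)) • b₀ = M
            rw [one_smul]; exact hMb.symm
          · obtain ⟨s, hs, e⟩ :=
              hyp.axes_conj hb₀ hp (Ne.symm hMb) hZb₀ hZM (m := l) hW hZ
            exact ⟨⟨s, hs⟩, e⟩
        · exact absurd (line_eq hDZ h1 hZ h2 hZM).symm hMl
    have h2N : k ≤ 2 * Nat.card (EC Γ W l) := by
      have hcardM : Nat.card {M : L // Z ∈ M ∧ M ≠ l} = k := by
        have h := card_thru (L := L) Z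
        rw [Nat.card_eq_fintype_card, Fintype.card_subtype] at h ⊢
        rw [show (Finset.univ.filter fun M : L => Z ∈ M ∧ M ≠ l) =
            (Finset.univ.filter fun M : L => Z ∈ M).erase l by ext M; simp [and_comm],
          Finset.card_erase_of_mem (by simpa using hZ)]
        omega
      choose f hf using fun M => hfirst M |>.elim
        (fun h => (⟨Sum.inl h.choose, Or.inl ⟨h.choose, rfl, h.choose_spec⟩⟩ :
          ∃ x : S ⊕ EC Γ W l, (∃ C' : S, x = Sum.inl C' ∧ (C' : P) ∈ (M : L)) ∨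
            ∃ s : EC Γ W l, x = Sum.inr s ∧ (s : Col P L) • b₀ = M))
        (fun h => ⟨Sum.inr h.choose, Or.inr ⟨h.choose, rfl, h.choose_spec⟩⟩)
      rw [← hcardM, two_mul]
      nth_rewrite 1 [← hScard]
      rw [← Nat.card_sum]
      refine Nat.card_le_card_of_injective f fun M M' h => Subtype.ext ?_
      rcases hf M with ⟨c, hc, hcM⟩ | ⟨s, hs, hsM⟩ <;>
        rcases hf M' with ⟨c', hc', hcM'⟩ | ⟨s', hs', hsM'⟩
      · rw [hc, hc'] at h
        obtain rfl := Sum.inl.inj h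
        have hcZ : (c : P) ≠ Z := fun e => hyp.pair_notMem c.2 (e ▸ hZ)
        exact line_eq hcZ hcM M.2.1 hcM' M'.2.1
      · rw [hc, hs'] at h; exact absurd h Sum.inl_ne_inr
      · rw [hs, hc'] at h; exact absurd h Sum.inr_ne_inl
      · rw [hs, hs'] at h
        obtain rfl := Sum.inr.inj h
        exact hsM.symm.trans hsM'
    have hNeq : Nat.card (EC Γ W l) = k := by
      obtain ⟨j, hj⟩ := hNk
      have hjodd : Odd j := by
        have := hyp.odd
        rw [← hk, hj] at this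
        exact (Nat.odd_mul.1 this).2
      have hj1 : j ≤ 2 := by
        rw [hj, mul_comm 2] at h2N
        exact Nat.le_of_mul_le_mul_left h2N (by omega)
      obtain ⟨i, hi⟩ := hjodd
      have : j = 1 := by omega
      rw [hj, this, mul_one]
    -- a second axis at `W`
    obtain ⟨m, hWm, hml, hm⟩ : ∃ m, W ∈ m ∧ m ≠ l ∧ EC Γ W m ≠ ⊥ := by
      obtain ⟨Z₁, hZ₁, hZ₁Z, hZ₁W⟩ : ∃ Z₁, Z₁ ∈ l ∧ Z₁ ≠ Z ∧ Z₁ ≠ W := exists_third l Z W
      obtain ⟨Z₂, hZ₂, hZ₂Z, hZ₂W, hZ₂Z₁⟩ :
          ∃ Z₂, Z₂ ∈ l ∧ Z₂ ≠ Z ∧ Z₂ ≠ W ∧ Z₂ ≠ Z₁ := by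
        by_contra hc
        push Not at hc
        have hsub : (Finset.univ.filter fun p : P => p ∈ l) ⊆ {Z, W, Z₁} := by
          intro p hp
          simp only [Finset.mem_filter, Finset.mem_univ, true_and] at hp
          simp only [Finset.mem_insert, Finset.mem_singleton]
          by_cases h1 : p = Z
          · exact Or.inl h1
          by_cases h2 : p = W
          · exact Or.inr (Or.inl h2)
          exact Or.inr (Or.inr (hc p hp h1 h2))
        have h1 := (Finset.card_le_card hsub).trans Finset.card_le_three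
        have h2 := card_on_line (P := P) l
        rw [Nat.card_eq_fintype_card, Fintype.card_subtype] at h2
        omega
      have two : ∀ A : P, A ∈ l → A ≠ W → A ≠ Z → (∀ a, ¬ IsPair Γ A a) →
          ∃ m, W ∈ m ∧ m ≠ l ∧ EC Γ W m ≠ ⊥ := by
        intro A hA hAW hAZ hAn
        obtain ⟨b, hb, hAb⟩ := hB A hA hAW hAn
        have hbl : b ≠ l := fun e => hyp.pair_notMem hb (e ▸ hW)
        have hne : b₀ ≠ b := fun e => hAZ (eq_of_mem hbl hAb hA (e ▸ hZb₀) hZ)
        obtain ⟨p, hp1, hp2⟩ := exists_point P b₀ b hne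
        obtain ⟨m, hWm, hpm⟩ :=
          exists_line L W p fun e => hyp.pair_notMem hb (e ▸ hp2)
        obtain ⟨s, hs, e⟩ := hyp.axes_conj hb₀ hb hne hp1 hp2 hWm hpm
        have hb₀l : b₀ ≠ l := fun e => hyp.pair_notMem hb₀ (e ▸ hW)
        refine ⟨m, hWm, ?_, fun h => ?_⟩
        · rintro rfl
          exact hAZ ((eq_of_mem hbl hAb hA hp2 hpm).trans (eq_of_mem hb₀l hp1 hpm hZb₀ hZ))
        · have : s ∈ EC Γ W m := hs
          rw [h, Subgroup.mem_bot] at this
          exact hne (by rwa [this, one_smul] at e)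
      by_cases h1 : ∃ a, IsPair Γ Z₁ a
      · by_cases h2 : ∃ a, IsPair Γ Z₂ a
        · obtain ⟨a, ha⟩ := h1
          obtain ⟨a', ha'⟩ := h2
          obtain ⟨s, hs, e⟩ := htwoA Z₁ Z₂ hZ₁ hZ₂ hZ₁W hZ₂W
            ((hW' _ _ hZ₁ hZ₁W ha).2 ▸ ha) ((hW' _ _ hZ₂ hZ₂W ha').2 ▸ ha')
          refine ⟨J, hWJ, hJl, fun h => ?_⟩
          rw [h, Subgroup.mem_bot] at hs
          exact hZ₂Z₁ (by rw [← e, hs, one_smul])
        · exact two Z₂ hZ₂ hZ₂W hZ₂Z fun a ha => h2 ⟨a, ha⟩
      · exact two Z₁ hZ₁ hZ₁W hZ₁Z fun a ha => h1 ⟨a, ha⟩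
    rw [← hNeq]
    exact isPrimePow_centre hW hWm (Ne.symm hml) hEne hm

/-- The plane has prime power order. -/
theorem isPrimePow : IsPrimePow (ProjectivePlane.order P L) := by
  classical
  cases nonempty_fintype P
  obtain ⟨l, hl⟩ := hyp.exists_elat
  set N := Nat.card ↥(elat P l ⊓ Γ) with hN
  have hN1 : 1 < N := (Subgroup.one_lt_card_iff_ne_bot _).2 hl
  let f : {p : P // p ∈ l} → ℕ := fun Z => Nat.card (EC Γ (Z : P) l)
  have : Nonempty {p : P // p ∈ l} := by
    obtain ⟨Z, -⟩ := ProjectivePlane.exists_config (P := P) (L := L)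
    obtain ⟨Z', hZ', -⟩ := exists_other l Z
    exact ⟨⟨Z', hZ'⟩⟩
  obtain ⟨X, hX⟩ := Finite.exists_max f
  obtain ⟨Y, hY, hYX, hXY⟩ := hyp.exists_related X.2
  set F := f X with hF
  set q := Nat.card (EC Γ Y l) with hq
  have hFpos : 0 < F := Nat.card_pos
  have hqpos : 0 < q := Nat.card_pos
  have hqF : q ≤ F := hX ⟨Y, hY⟩
  have hprod : F * q = N := hXY
  have hall : ∀ Z : {p : P // p ∈ l}, Z ≠ X → f Z = q := by
    intro Z hZX
    have hle : ∀ Z' : {p : P // p ∈ l}, Z' ≠ X → f Z' ≤ q := by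
      intro Z' hne
      have h := hyp.mul_card_le (Γ := Γ) (l := l) fun e => hne (Subtype.ext e).symm
      exact Nat.le_of_mul_le_mul_left (h.trans (hprod.ge)) hFpos
    obtain ⟨W, hW, hWZ, hprod'⟩ := hyp.exists_related Z.2
    by_cases hWX : (⟨W, hW⟩ : {p : P // p ∈ l}) = X
    · have hWX' : W = (X : P) := congrArg Subtype.val hWX
      rw [hWX'] at hprod'
      have : f Z * F = q * F := by rw [mul_comm q, hprod]; exact hprod'
      exact Nat.eq_of_mul_eq_mul_right hFpos this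
    · have h1 := hle Z hZX
      have h2 : f ⟨W, hW⟩ ≤ q := hle _ hWX
      have h3 : f Z * f ⟨W, hW⟩ = N := hprod'
      refine le_antisymm h1 (Nat.le_of_mul_le_mul_right (c := q) ?_ hqpos)
      calc q * q ≤ F * q := Nat.mul_le_mul_right _ hqF
        _ = f Z * f ⟨W, hW⟩ := hprod.trans h3.symm
        _ ≤ f Z * q := Nat.mul_le_mul_left _ h2
  set k := ProjectivePlane.order P L with hk
  have hsum : N = 1 + ((F - 1) + k * (q - 1)) := by
    have h := card_elat_eq (Γ := Γ) l
    rw [← Finset.add_sum_erase _ _ (Finset.mem_univ X), Finset.sum_congr rfl (g := fun _ => q - 1)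
      (fun Z hZ => by rw [show Nat.card (EC Γ (Z : P) l) = q from
        hall Z (Finset.ne_of_mem_erase hZ)]),
      Finset.sum_const, smul_eq_mul, Finset.card_erase_of_mem (Finset.mem_univ X),
      Finset.card_univ] at h
    have hc := card_on_line (P := P) l
    rw [Nat.card_eq_fintype_card] at hc
    rw [hc, Nat.add_sub_cancel] at h
    exact h
  by_cases hq1 : q = 1
  · refine hyp.isPrimePow_single X.2 ?_ ?_ fun Z hZ hne => ?_
    · show F = N
      rw [← hprod, hq1, mul_one]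
    · show 1 < F
      rw [hq1, mul_one] at hprod
      omega
    · exact (hall ⟨Z, hZ⟩ fun e => hne (congrArg Subtype.val e)).trans hq1
  · have hFk : F = k := by
      obtain ⟨t, hqt⟩ : ∃ t, q = t + 2 := ⟨q - 2, by omega⟩
      rw [← hprod, hqt, show t + 2 - 1 = t + 1 from rfl, mul_add] at hsum
      have h' : F * (t + 1) = k * (t + 1) := by rw [mul_add, mul_one]; omega
      exact Nat.eq_of_mul_eq_mul_right (Nat.succ_pos t) h'
    have hne1 : EC Γ (X : P) l ≠ ⊥ := (Subgroup.one_lt_card_iff_ne_bot _).1 (by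
      show 1 < F; omega)
    have hne2 : EC Γ Y l ≠ ⊥ := (Subgroup.one_lt_card_iff_ne_bot _).1 (by omega)
    rw [← hFk]
    exact isPrimePow_elatC X.2 hY (Ne.symm hYX) hne1 hne2

end Hyp

end Main

end Cfsg.Agent.Lib.Ostrom64.PlanePow

namespace Cfsg.Agent.Lib.Ostrom64

universe u w

/-- Brick D. -/
theorem planePow : PlanePowBrick.{u, w} :=
  fun _ _ _ _ _ _ _ h1 h2 h3 h4 => (PlanePow.Hyp.mk h1 h2 h3 h4).isPrimePow

end Cfsg.Agent.Lib.Ostrom64
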