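import Cfsg.Agent.Lib.Ostrom64.Orbit
import Mathlib.GroupTheory.PGroup

/-!
Prime power order: a central element of a Sylow subgroup of a two-point stabiliser is a
perspectivity (brick B of S3732).
-/

set_option autoImplicit false
set_option linter.unusedSectionVars false

namespace Cfsg.Agent.Lib.Ostrom64

open Configuration

universe u w

theorem pow_persp : PowBrick.{u, w} := by
  intro P L _ _ _ _ G h2 hpow
  classical
  obtain ⟨p, r, hp, hr, hn⟩ := (isPrimePow_nat_iff _).1 hpow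
  have : Fact p.Prime := ⟨hp⟩
  by_contra hno
  push Not at hno
  obtain ⟨X, p₂, p₃, l₁, l₂, l₃, h₁, -⟩ :=
    Configuration.ProjectivePlane.exists_config (P := P) (L := L)
  obtain ⟨Y, hY, -⟩ := exists_third l₂ X X
  have hXY : X ≠ Y := fun e => h₁ (e ▸ hY)
  obtain ⟨l, hXl, hYl⟩ := exists_line L X Y hXY
  set H : Subgroup (Col P L) :=
    G ⊓ MulAction.stabilizer (Col P L) X ⊓ MulAction.stabilizer (Col P L) Y with hH
  obtain ⟨Q₀⟩ : Nonempty (Sylow p H) := inferInstance
  set Q : Subgroup (Col P L) := (Q₀ : Subgroup H).map H.subtype with hQ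
  have hQH : Q ≤ H := Subgroup.map_subtype_le _
  have hQc : Nat.card Q = p ^ (Nat.card H).factorization p := by
    rw [hQ, Subgroup.card_map_of_injective H.subtype_injective]
    exact Q₀.card_eq_multiplicity
  -- the orbit of a line through a fixed point of `Q` on `l`
  have htrans : ∀ (A B : P), A ∈ l → B ∈ l → A ≠ B → (∀ h ∈ Q, h • A = A ∧ h • B = B) →
      ∀ M M' : L, B ∈ M → B ∈ M' → M ≠ l → M' ≠ l → ∃ h ∈ Q, h • M = M' := by
    intro A B hA hB hAB hQAB M M' hM hM' hMl hMl'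
    set K : Subgroup (Col P L) :=
      G ⊓ MulAction.stabilizer (Col P L) A ⊓ MulAction.stabilizer (Col P L) B with hK
    have hQK : Q ≤ K := fun h hh => ⟨⟨(hQH hh).1.1, (hQAB h hh).1⟩, (hQAB h hh).2⟩
    obtain ⟨g, hg, hgA, hgB⟩ := h2 X Y A B hXY hAB
    have hcard : Nat.card K = Nat.card H := by
      have : H.map (MulAut.conj g).toMonoidHom = K := by
        ext x
        simp only [Subgroup.mem_map, hK, hH, Subgroup.mem_inf, MulAction.mem_stabilizer_iff]
        constructor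
        · rintro ⟨h, ⟨⟨h1, h2'⟩, h3⟩, rfl⟩
          change ((g * h * g⁻¹ ∈ G ∧ (g * h * g⁻¹) • A = A) ∧ (g * h * g⁻¹) • B = B)
          refine ⟨⟨mul_mem (mul_mem hg h1) (inv_mem hg), ?_⟩, ?_⟩
          · rw [mul_smul, mul_smul, inv_smul_eq_iff.2 hgA.symm, h2', hgA]
          · rw [mul_smul, mul_smul, inv_smul_eq_iff.2 hgB.symm, h3, hgB]
        · rintro ⟨⟨h1, h2'⟩, h3⟩
          refine ⟨g⁻¹ * x * g, ⟨⟨mul_mem (mul_mem (inv_mem hg) h1) hg, ?_⟩, ?_⟩, ?_⟩
          · rw [mul_smul, mul_smul, hgA, h2', inv_smul_eq_iff.2 hgA.symm]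
          · rw [mul_smul, mul_smul, hgB, h3, inv_smul_eq_iff.2 hgB.symm]
          · change g * (g⁻¹ * x * g) * g⁻¹ = x
            group
      rw [← this, Subgroup.card_map_of_injective (MulAut.conj g).injective]
    set O : Set L := {m : L | B ∈ m ∧ m ≠ l} with hO
    have hOc : O.ncard = p ^ r := by
      have h1 : ({m : L | B ∈ m}).ncard = ProjectivePlane.order P L + 1 := by
        rw [← card_thru (L := L) B, ← Nat.card_coe_set_eq]
        rfl
      have h2' : O = {m : L | B ∈ m} \ {l} := rfl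
      rw [h2', Set.ncard_diff_singleton_of_mem (by exact hB), h1, hn]
      omega
    refine sylow_transitive hQK (by rw [hcard]; exact hQc) (O := O) ?_ ?_ hOc ⟨hM', hMl'⟩
    · intro h hh
      have hB' : h • B = B := hh.2
      refine ⟨?_, fun e => hMl ?_⟩
      · rw [← hB']; exact (smul_mem_smul h).2 hM
      · have hl : h • l = l := smul_line_eq_of_two h hAB hA hB hh.1.2 hB'
        exact MulAction.injective h (e.trans hl.symm)
    · intro m hm
      have hAM : A ∉ M := fun e => hMl (line_eq hAB e hM hA hB)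
      have hAm : A ∉ m := fun e => hm.2 (line_eq hAB e hm.1 hA hB)
      obtain ⟨g', hg', h1, h2', h3⟩ := h2.pencil hM hm.1 hAM hAm
      exact ⟨g', ⟨⟨hg', h1⟩, h2'⟩, h3⟩
  have hfixXY : ∀ h ∈ Q, h • X = X ∧ h • Y = Y := fun h hh => ⟨(hQH hh).1.2, (hQH hh).2⟩
  have hfixl : ∀ h ∈ Q, h • l = l := fun h hh =>
    smul_line_eq_of_two h hXY hXl hYl (hfixXY h hh).1 (hfixXY h hh).2
  -- `Q` is nontrivial, so it has a nontrivial centre
  have hQne : Nontrivial Q := by
    obtain ⟨M, hM, hMl⟩ := exists_other_line (P := P) Y l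
    obtain ⟨M', hM', hMl', hMM'⟩ := exists_third_line (P := P) Y l M
    obtain ⟨h, hh, hh'⟩ := htrans X Y hXl hYl hXY hfixXY M M' hM hM' hMl hMl'
    refine ⟨⟨h, hh⟩, 1, fun e => hMM' ?_⟩
    have : h = 1 := congrArg Subtype.val e
    rw [this, one_smul] at hh'
    exact hh'.symm
  have hQp : IsPGroup p Q := IsPGroup.of_card hQc
  have hZ : Nontrivial (Subgroup.center Q) := hQp.center_nontrivial
  obtain ⟨⟨⟨e, heQ⟩, hez⟩, hne⟩ := exists_ne (1 : Subgroup.center Q)
  have he1 : e ≠ 1 := fun h => hne (Subtype.ext (Subtype.ext h))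
  have hcomm : ∀ h ∈ Q, h * e = e * h := fun h hh =>
    congrArg Subtype.val (Subgroup.mem_center_iff.1 hez ⟨h, hh⟩)
  have heG : e ∈ G := (hQH heQ).1.1
  -- a fixed line, other than `l`, through a fixed point of `Q` on `l` gives a centre
  have hkey : ∀ A B : P, A ∈ l → B ∈ l → A ≠ B → (∀ h ∈ Q, h • A = A ∧ h • B = B) →
      ∀ M : L, B ∈ M → M ≠ l → e • M = M → False := by
    intro A B hA hB hAB hQAB M hM hMl heM
    have hc : IsCentre e B := by
      intro m hm
      by_cases hml : m = l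
      · subst hml
        exact hfixl e heQ
      · obtain ⟨h, hh, hhm⟩ := htrans A B hA hB hAB hQAB M m hM hm hMl hml
        rw [← hhm, ← mul_smul, ← hcomm h hh, mul_smul, heM]
    obtain ⟨a, ha⟩ := hc.exists_axis
    exact hno e heG ⟨he1, a, ha⟩
  -- all fixed points lie on `l`
  have honl : ∀ x : P, e • x = x → x ∈ l := by
    intro x hx
    by_contra hxl
    obtain ⟨M, hYM, hxM⟩ := exists_line L Y x (fun h => hxl (h ▸ hYl))
    exact hkey X Y hXl hYl hXY hfixXY M hYM (fun h => hxl (h ▸ hxM))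
      (smul_line_eq_of_two e (show Y ≠ x from fun h => hxl (h ▸ hYl)) hYM hxM (hfixXY e heQ).2 hx)
  -- a fixed line other than `l`
  obtain ⟨M, heM, hMl⟩ : ∃ M : L, e • M = M ∧ M ≠ l := by
    by_contra hc
    push Not at hc
    have hcard := card_fixed_eq e
    have h1 : Nat.card {m : L // e • m = m} ≤ 1 :=
      Finite.card_le_one_iff_subsingleton.2
        ⟨fun a b => Subtype.ext ((hc a a.2).trans (hc b b.2).symm)⟩
    have h2' : 1 < Nat.card {x : P // e • x = x} :=
      Finite.one_lt_card_iff_nontrivial.2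
        ⟨⟨X, (hfixXY e heQ).1⟩, ⟨Y, (hfixXY e heQ).2⟩, fun h => hXY (congrArg Subtype.val h)⟩
    omega
  obtain ⟨Z, hZM, hZl⟩ := exists_point P M l hMl
  -- `Z` is fixed by `Q`
  have hQZ : ∀ h ∈ Q, h • Z = Z := by
    intro h hh
    have hM' : e • (h • M) = h • M := by rw [← mul_smul, ← hcomm h hh, mul_smul, heM]
    have hlZ : h • Z ∈ l := mem_of_fix h (hfixl h hh) hZl
    have hMZ : h • Z ∈ h • M := (smul_mem_smul h).2 hZM
    by_cases hMM : h • M = M
    · rw [hMM] at hMZ
      exact eq_of_mem hMl hMZ hlZ hZM hZl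
    · have hne' : h • M ≠ l := fun e' => hMl (MulAction.injective h (e'.trans (hfixl h hh).symm))
      obtain ⟨x, hx1, hx2⟩ := exists_point P (h • M) M hMM
      have hxl := honl x (smul_point_eq_of_two e hMM hx1 hx2 hM' heM)
      have hxZ : x = Z := eq_of_mem hMl hx2 hxl hZM hZl
      exact eq_of_mem hne' hMZ hlZ (hxZ ▸ hx1) hZl
  by_cases hZX : Z = X
  · subst hZX
    exact hkey Y Z hYl hZl hXY.symm
      (fun h hh => ⟨(hfixXY h hh).2, (hfixXY h hh).1⟩) M hZM hMl heM
  · exact hkey X Z hXl hZl (Ne.symm hZX)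
      (fun h hh => ⟨(hfixXY h hh).1, hQZ h hh⟩) M hZM hMl heM

end Cfsg.Agent.Lib.Ostrom64
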