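import Cfsg.Agent.Lib.Ostrom64.Persp
import Mathlib.Algebra.IsPrimePow
import Mathlib.LinearAlgebra.Projectivization.Basic
import Mathlib.LinearAlgebra.Matrix.Charpoly.Basic
import Mathlib.Data.ZMod.Basic

/-!
Interfaces of the bricks for the Ostrom–Wagner theorem (S3732).

Line of proof: an involution is a perspectivity or a Baer involution; for `n` even or a prime power
a central element of a Sylow group is a perspectivity; for `n` odd without perspectivities the
fixed plane of a largest 2-group fixing a quadrangle has all involutions homologies, hence prime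
power order; a perspectivity gives transitive elation groups; those give coordinates in a field.
-/

set_option autoImplicit false

namespace Cfsg.Agent.Lib.Ostrom64

open Configuration

universe u w

/-- Brick D: a plane of odd order in which every involution of a group is a perspectivity and any
two points, and any two lines, are fixed by one, has prime power order. -/
def PlanePowBrick : Prop :=
  ∀ (P : Type u) (L : Type w) [Membership P L] [ProjectivePlane P L] [Finite P] [Finite L]
    (Γ : Subgroup (Col P L)), Odd (ProjectivePlane.order P L) →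
    (∀ g ∈ Γ, g * g = 1 → g ≠ 1 → ∃ l : L, IsAxis g l) →
    (∀ X Y : P, X ≠ Y → ∃ g ∈ Γ, g * g = 1 ∧ g ≠ 1 ∧ g • X = X ∧ g • Y = Y) →
    (∀ l m : L, l ≠ m → ∃ g ∈ Γ, g * g = 1 ∧ g ≠ 1 ∧ g • l = l ∧ g • m = m) →
    IsPrimePow (ProjectivePlane.order P L)

/-- Brick A: even order. -/
def EvenBrick : Prop :=
  ∀ (P : Type u) (L : Type w) [Membership P L] [ProjectivePlane P L] [Finite P] [Finite L]
    (G : Subgroup (Col P L)), TwoTrans G → Even (ProjectivePlane.order P L) →
    ∃ g ∈ G, IsPersp g

/-- Brick B: prime power order. -/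
def PowBrick : Prop :=
  ∀ (P : Type u) (L : Type w) [Membership P L] [ProjectivePlane P L] [Finite P] [Finite L]
    (G : Subgroup (Col P L)), TwoTrans G → IsPrimePow (ProjectivePlane.order P L) →
    ∃ g ∈ G, IsPersp g

/-- Brick C: odd order without perspectivities. -/
def BottomBrick : Prop :=
  ∀ (P : Type u) (L : Type w) [Membership P L] [ProjectivePlane P L] [Finite P] [Finite L]
    (G : Subgroup (Col P L)), TwoTrans G → Odd (ProjectivePlane.order P L) →
    (∀ g ∈ G, ¬ IsPersp g) → IsPrimePow (ProjectivePlane.order P L)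

/-- Every line is a translation line. -/
def AllTranslation (P : Type u) (L : Type w) [Membership P L] [ProjectivePlane P L] [Finite P]
    [Finite L] : Prop :=
  ∀ (l : L) (p q : P), p ∉ l → q ∉ l → ∃ g ∈ elat P l, g • p = q

/-- Brick E: transitive elation groups. -/
def TransBrick : Prop :=
  ∀ (P : Type u) (L : Type w) [Membership P L] [ProjectivePlane P L] [Finite P] [Finite L]
    (G : Subgroup (Col P L)), TwoTrans G → (∃ g ∈ G, IsPersp g) → AllTranslation P L

/-- Brick F: a spread set closed under `A B A` is a field. -/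
def SpreadBrick : Prop :=
  ∀ (p m : ℕ) [Fact p.Prime], 0 < m → ∀ S : AddSubgroup (Matrix (Fin m) (Fin m) (ZMod p)),
    Nat.card S = p ^ m → 1 ∈ S → (∀ A ∈ S, A ≠ 0 → IsUnit A) →
    (∀ A ∈ S, ∀ B ∈ S, A * B * A ∈ S) →
    ∀ A ∈ S, ∀ B ∈ S, A * B = B * A ∧ A * B ∈ S

/-- The conclusion of S3732. -/
def Desarguesian (P : Type u) (L : Type w) [Membership P L] : Prop :=
  ∃ (F : Type) (_ : Field F) (_ : Fintype F) (φ : P ≃ Projectivization F (Fin 3 → F)),
    (∀ l : L, ∃ W : Submodule F (Fin 3 → F), Module.finrank F W = 2 ∧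
        ∀ p : P, p ∈ l ↔ (φ p).submodule ≤ W) ∧
    (∀ W : Submodule F (Fin 3 → F), Module.finrank F W = 2 →
        ∃ l : L, ∀ p : P, p ∈ l ↔ (φ p).submodule ≤ W)

/-- Brick G: coordinates. -/
def CoordBrick : Prop :=
  SpreadBrick → ∀ (P : Type u) (L : Type w) [Membership P L] [ProjectivePlane P L] [Finite P]
    [Finite L], AllTranslation P L → Desarguesian P L

/-- Assembly. -/
theorem desarguesian_of_bricks (hA : EvenBrick.{u, w}) (hB : PowBrick.{u, w})
    (hC : BottomBrick.{u, w}) (hE : TransBrick.{u, w}) (hF : SpreadBrick) (hG : CoordBrick.{u, w})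
    (P : Type u) (L : Type w) [Membership P L] [ProjectivePlane P L] [Finite P] [Finite L]
    (G : Subgroup (Col P L)) (h2 : TwoTrans G) : Desarguesian P L := by
  refine hG hF P L (hE P L G h2 ?_)
  rcases Nat.even_or_odd (ProjectivePlane.order P L) with he | ho
  · exact hA P L G h2 he
  · by_contra hc
    push Not at hc
    obtain ⟨g, hg, hg'⟩ := hB P L G h2 (hC P L G h2 ho hc)
    exact hc g hg hg'

end Cfsg.Agent.Lib.Ostrom64
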