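import Cfsg.Agent.Lib.Ostrom64.Spec
import Mathlib

/-!
Brick F of the Ostrom–Wagner theorem: a spread set over `ZMod p` closed under `(A, B) ↦ A * B * A`
is a field.  The minimal polynomial of the generic element has degree `m` by Chevalley–Warning,
so the powers of the generic element span the spread set.
-/

set_option autoImplicit false

namespace Cfsg.Agent.Lib.Ostrom64

open Polynomial

namespace SpreadAux

variable {p m : ℕ} [Fact p.Prime]

/-- Spreading the total degree into a new variable. -/
noncomputable def grade (p m : ℕ) :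
    MvPolynomial (Fin m) (ZMod p) →+* (MvPolynomial (Fin m) (ZMod p))[X] :=
  MvPolynomial.eval₂Hom (Polynomial.C.comp MvPolynomial.C)
    (fun i => Polynomial.C (MvPolynomial.X i) * Polynomial.X)

theorem grade_monomial (s : Fin m →₀ ℕ) (a : ZMod p) :
    grade p m (MvPolynomial.monomial s a) =
      Polynomial.monomial (s.sum fun _ e => e) (MvPolynomial.monomial s a) := by
  rw [grade, MvPolynomial.eval₂Hom_monomial, ← Polynomial.C_mul_X_pow_eq_monomial,
    MvPolynomial.monomial_eq]
  simp only [Finsupp.prod, Finsupp.sum, map_mul, map_prod, map_pow, RingHom.comp_apply, mul_pow,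
    Finset.prod_mul_distrib, Finset.prod_pow_eq_pow_sum]
  ring

theorem coeff_grade (c : MvPolynomial (Fin m) (ZMod p)) (e : ℕ) (s : Fin m →₀ ℕ) :
    ((grade p m c).coeff e).coeff s =
      if (s.sum fun _ k => k) = e then c.coeff s else 0 := by
  classical
  induction c using MvPolynomial.induction_on' with
  | monomial t a =>
    rw [grade_monomial, Polynomial.coeff_monomial, MvPolynomial.coeff_monomial]
    by_cases hts : t = s
    · subst hts
      by_cases he : (t.sum fun _ k => k) = e <;> simp [he, MvPolynomial.coeff_monomial]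
    · by_cases he : (t.sum fun _ k => k) = e <;> simp [he, hts, MvPolynomial.coeff_monomial]
  | add q r hq hr =>
    rw [map_add, Polynomial.coeff_add, MvPolynomial.coeff_add, MvPolynomial.coeff_add, hq, hr]
    split_ifs <;> simp

theorem totalDegree_le_grade (c : MvPolynomial (Fin m) (ZMod p)) :
    c.totalDegree ≤ (grade p m c).natDegree := by
  refine Finset.sup_le fun s hs => Polynomial.le_natDegree_of_ne_zero ?_
  intro h0
  have h := coeff_grade c (s.sum fun _ k => k) s
  rw [h0, MvPolynomial.coeff_zero, if_pos rfl] at h
  exact MvPolynomial.mem_support_iff.1 hs h.symm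

/-- The grading on polynomials in one more variable. -/
noncomputable def gradeT (p m : ℕ) :
    (MvPolynomial (Fin m) (ZMod p))[X] →+* (MvPolynomial (Fin m) (ZMod p))[X][X] :=
  Polynomial.eval₂RingHom ((Polynomial.mapRingHom Polynomial.C).comp (grade p m))
    (Polynomial.C Polynomial.X * Polynomial.X : (MvPolynomial (Fin m) (ZMod p))[X][X])

theorem natDegree_grade_coeff_zero (f : (MvPolynomial (Fin m) (ZMod p))[X]) :
    (grade p m (f.coeff 0)).natDegree ≤ (gradeT p m f).natDegree := by
  have h : (Polynomial.mapRingHom (Polynomial.evalRingHom 0)).comp (gradeT p m)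
      = (grade p m).comp (Polynomial.evalRingHom 0) := by
    refine Polynomial.ringHom_ext (fun r => ?_) ?_
    · simp [gradeT, Polynomial.map_map]
      have : (Polynomial.evalRingHom (0 : MvPolynomial (Fin m) (ZMod p))).comp Polynomial.C
          = RingHom.id _ := by ext <;> simp
      rw [this, Polynomial.map_id]
    · simp [gradeT]
  have h' := congrArg (fun φ => φ f) h
  simp only [RingHom.comp_apply, Polynomial.coe_evalRingHom, Polynomial.coe_mapRingHom,
    ← Polynomial.coeff_zero_eq_eval_zero] at h'
  rw [← h']
  exact Polynomial.natDegree_map_le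

theorem le_natDegree_gradeT (f : (MvPolynomial (Fin m) (ZMod p))[X]) (k : ℕ)
    (hf : f.map (MvPolynomial.eval (0 : Fin m → ZMod p)) = Polynomial.X ^ k) :
    k ≤ (gradeT p m f).natDegree := by
  let ev : MvPolynomial (Fin m) (ZMod p) →+* ZMod p := MvPolynomial.eval 0
  have h : (Polynomial.mapRingHom (Polynomial.mapRingHom ev)).comp (gradeT p m)
      = (Polynomial.eval₂RingHom (Polynomial.C.comp (Polynomial.C : ZMod p →+* (ZMod p)[X]))
          (Polynomial.C Polynomial.X * Polynomial.X)).comp (Polynomial.mapRingHom ev) := by
    refine Polynomial.ringHom_ext (fun r => ?_) ?_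
    · have h2 : ((Polynomial.mapRingHom (Polynomial.mapRingHom ev)).comp
          ((Polynomial.mapRingHom Polynomial.C).comp (grade p m)))
          = (Polynomial.C.comp (Polynomial.C : ZMod p →+* (ZMod p)[X])).comp ev := by
        refine MvPolynomial.ringHom_ext (fun a => ?_) (fun i => ?_)
        · simp [grade, ev]
        · simp [grade, ev]
      simpa [gradeT] using congrArg (fun φ => φ r) h2
    · simp [gradeT]
  have h' := congrArg (fun φ => φ f) h
  simp only [RingHom.comp_apply, Polynomial.coe_mapRingHom] at h'
  rw [hf] at h'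
  rw [map_pow, Polynomial.coe_eval₂RingHom, Polynomial.eval₂_X, mul_pow,
    ← map_pow] at h'
  calc k = (Polynomial.map (Polynomial.mapRingHom ev) (gradeT p m f)).natDegree := by
        rw [h', Polynomial.natDegree_C_mul_X_pow _ _ (pow_ne_zero _ Polynomial.X_ne_zero)]
    _ ≤ _ := Polynomial.natDegree_map_le

variable (B : Fin m → Matrix (Fin m) (Fin m) (ZMod p))

/-- The generic linear combination of the `B i`. -/
noncomputable def gen : Matrix (Fin m) (Fin m) (MvPolynomial (Fin m) (ZMod p)) :=
  Matrix.of fun i j => ∑ k, MvPolynomial.X k * MvPolynomial.C (B k i j)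

theorem gen_map_eval (a : Fin m → ZMod p) :
    (gen B).map (MvPolynomial.eval a) = ∑ k, a k • B k := by
  ext i j
  simp [gen, Matrix.sum_apply]

theorem gradeT_charpoly :
    gradeT p m (gen B).charpoly = Polynomial.C (gen B).charpoly * Polynomial.X ^ m := by
  rw [Matrix.charpoly]
  refine (RingHom.map_det (R := (MvPolynomial (Fin m) (ZMod p))[X])
    (S := (MvPolynomial (Fin m) (ZMod p))[X][X]) (n := Fin m) (gradeT p m) (gen B).charmatrix).trans ?_
  have he : (gradeT p m).mapMatrix (gen B).charmatrix =
      (Polynomial.X : (MvPolynomial (Fin m) (ZMod p))[X][X]) •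
        (Polynomial.C : (MvPolynomial (Fin m) (ZMod p))[X] →+* _).mapMatrix (gen B).charmatrix := by
    refine Matrix.ext fun i j => ?_
    have hg : ∀ r : MvPolynomial (Fin m) (ZMod p),
        gradeT p m (Polynomial.C r) = (grade p m r).map Polynomial.C := fun r => by
      simp [gradeT]
    have hlin : grade p m (gen B i j) = Polynomial.C (gen B i j) * Polynomial.X := by
      simp only [gen, Matrix.of_apply, map_sum, Finset.sum_mul]
      refine Finset.sum_congr rfl fun k _ => ?_
      simp [grade]
      ring
    have hX : gradeT p m Polynomial.X = Polynomial.C Polynomial.X * Polynomial.X := by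
      simp [gradeT]
    simp only [RingHom.mapMatrix_apply, Matrix.map_apply, Matrix.smul_apply, smul_eq_mul]
    by_cases hij : i = j
    · subst hij
      rw [Matrix.charmatrix_apply_eq, map_sub, map_sub, hg, hlin, hX, Polynomial.map_mul,
        Polynomial.map_C, Polynomial.map_X]
      ring
    · rw [Matrix.charmatrix_apply_ne _ _ _ hij, map_neg, map_neg, hg, hlin, Polynomial.map_mul,
        Polynomial.map_C, Polynomial.map_X]
      ring
  rw [he, Matrix.det_smul, ← RingHom.map_det, Fintype.card_fin, mul_comm]

/-- A monic divisor of the generic characteristic polynomial has degree `m`, if `det` vanishes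
only at the zero combination. -/
theorem natDegree_divisor (hB : ∀ a : Fin m → ZMod p, a ≠ 0 → IsUnit (∑ k, a k • B k))
    (μ : (MvPolynomial (Fin m) (ZMod p))[X]) (hμ : μ.Monic) (hμ1 : 0 < μ.natDegree)
    (hdvd : μ ∣ (gen B).charpoly) : m ≤ μ.natDegree := by
  classical
  obtain ⟨ν, hν⟩ := hdvd
  have hχ : (gen B).charpoly.Monic := Matrix.charpoly_monic _
  have hνm : ν.Monic := hμ.of_mul_monic_left (hν ▸ hχ)
  have hdeg : μ.natDegree + ν.natDegree = m := by
    rw [← hμ.natDegree_mul hνm, ← hν, Matrix.charpoly_natDegree_eq_dim, Fintype.card_fin]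
  set ev : MvPolynomial (Fin m) (ZMod p) →+* ZMod p := MvPolynomial.eval 0 with hev
  have h0 : (gen B).charpoly.map ev = Polynomial.X ^ m := by
    rw [← Matrix.charpoly_map]
    have : (gen B).map ev = 0 := by rw [hev, gen_map_eval]; simp
    rw [this, Matrix.charpoly_zero, Fintype.card_fin]
  have key : ∀ f : (MvPolynomial (Fin m) (ZMod p))[X], f.Monic → f ∣ (gen B).charpoly →
      f.map ev = Polynomial.X ^ f.natDegree := by
    intro f hf hd
    have h1 : f.map ev ∣ Polynomial.X ^ m := h0 ▸ Polynomial.map_dvd ev hd
    obtain ⟨i, -, hi⟩ := (dvd_prime_pow Polynomial.prime_X m).1 h1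
    have h2 := Polynomial.eq_of_monic_of_associated (hf.map ev) (Polynomial.monic_X_pow i) hi
    have h3 := congrArg Polynomial.natDegree h2
    rw [hf.natDegree_map, Polynomial.natDegree_X_pow] at h3
    rw [h2, h3]
  have hμ0 := key μ hμ ⟨ν, hν⟩
  have hν0 := key ν hνm ⟨μ, hν.trans (mul_comm _ _)⟩
  -- degree in the graded variable
  have hg := congrArg (fun f => (gradeT p m f).natDegree) hν
  simp only [map_mul, gradeT_charpoly,
    Polynomial.natDegree_C_mul_X_pow _ _ hχ.ne_zero] at hg
  have hgne : gradeT p m μ * gradeT p m ν ≠ 0 := by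
    rw [← map_mul, ← hν, gradeT_charpoly]
    exact mul_ne_zero (by simpa using hχ.ne_zero) (pow_ne_zero _ Polynomial.X_ne_zero)
  rw [Polynomial.natDegree_mul (left_ne_zero_of_mul hgne) (right_ne_zero_of_mul hgne)] at hg
  have hν1 := le_natDegree_gradeT ν ν.natDegree hν0
  have hc : (μ.coeff 0).totalDegree ≤ μ.natDegree :=
    le_trans (totalDegree_le_grade _)
      (le_trans (natDegree_grade_coeff_zero μ) (by omega))
  by_contra hlt
  push Not at hlt
  have hzero : ∀ a : Fin m → ZMod p, MvPolynomial.eval a (μ.coeff 0) = 0 ↔ a = 0 := by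
    intro a
    constructor
    · intro ha
      by_contra hne
      have hu := (Matrix.isUnit_iff_isUnit_det _).1 (hB a hne)
      have h1 : ((∑ k, a k • B k).charpoly).coeff 0 = 0 := by
        rw [← gen_map_eval, Matrix.charpoly_map, Polynomial.coeff_map, hν,
          Polynomial.mul_coeff_zero, map_mul, ha, zero_mul]
      rw [Matrix.det_eq_sign_charpoly_coeff, h1, mul_zero] at hu
      exact not_isUnit_zero hu
    · rintro rfl
      have := congrArg (fun f => f.coeff 0) hμ0
      simp only [Polynomial.coeff_map, Polynomial.coeff_X_pow] at this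
      rw [if_neg (by omega)] at this
      exact this
  have hcw := char_dvd_card_solutions p (f := μ.coeff 0)
    (by rw [Fintype.card_fin]; omega)
  have hone : Fintype.card {a : Fin m → ZMod p // MvPolynomial.eval a (μ.coeff 0) = 0} = 1 :=
    Fintype.card_eq_one_iff.2 ⟨⟨0, (hzero 0).2 rfl⟩, fun a => Subtype.ext ((hzero a.1).1 a.2)⟩
  rw [hone] at hcw
  exact (Fact.out : p.Prime).one_lt.ne' (Nat.dvd_one.1 hcw)

end SpreadAux

/-- Brick F. -/
theorem spread : SpreadBrick := by
  intro p m _ hm S hcard hone hunit hABA
  classical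
  let W : Submodule (ZMod p) (Matrix (Fin m) (Fin m) (ZMod p)) :=
    AddSubgroup.toZModSubmodule p S
  have hW : ∀ A, A ∈ W ↔ A ∈ S := fun A => Iff.rfl
  have hfin : Module.finrank (ZMod p) W = m := by
    have h1 : Nat.card W = p ^ m := hcard
    rw [Module.natCard_eq_pow_finrank (K := ZMod p), Nat.card_zmod] at h1
    exact Nat.pow_right_injective (Fact.out : p.Prime).two_le h1
  let b : Module.Basis (Fin m) (ZMod p) W := Module.finBasisOfFinrankEq _ _ hfin
  let B : Fin m → Matrix (Fin m) (Fin m) (ZMod p) := fun k => (b k).1
  let R := MvPolynomial (Fin m) (ZMod p)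
  let K := FractionRing R
  let c : ZMod p →+* K := (algebraMap R K).comp MvPolynomial.C
  let ι : Matrix (Fin m) (Fin m) (ZMod p) →+* Matrix (Fin m) (Fin m) K := c.mapMatrix
  have hι : ∀ A, ι A = A.map c := fun A => rfl
  let T : Submodule K (Matrix (Fin m) (Fin m) K) := Submodule.span K (ι '' (S : Set _))
  have hmem : ∀ A ∈ S, ι A ∈ T := fun A hA => Submodule.subset_span ⟨A, hA, rfl⟩
  -- the span of `S` is closed under `x ↦ x * y * x`
  have tri : ∀ a ∈ T, ∀ y ∈ T, ∀ d ∈ T, a * y * d + d * y * a ∈ T := by
    intro a ha
    induction ha using Submodule.span_induction with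
    | mem a ha =>
      obtain ⟨A, hA, rfl⟩ := ha
      intro y hy
      induction hy using Submodule.span_induction with
      | mem y hy =>
        obtain ⟨Y, hY, rfl⟩ := hy
        intro d hd
        induction hd using Submodule.span_induction with
        | mem d hd =>
          obtain ⟨D, hD, rfl⟩ := hd
          rw [← map_mul, ← map_mul, ← map_mul, ← map_mul, ← map_add]
          refine hmem _ ?_
          have h := S.sub_mem (S.sub_mem (hABA (A + D) (S.add_mem hA hD) Y hY) (hABA A hA Y hY))
            (hABA D hD Y hY)
          convert h using 1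
          noncomm_ring
        | zero => simp
        | add d e _ _ hd he =>
          convert T.add_mem hd he using 1
          noncomm_ring
        | smul k d _ hd =>
          convert T.smul_mem k hd using 1
          simp [smul_add]
      | zero => simp
      | add y z _ _ hy hz =>
        intro d hd
        convert T.add_mem (hy d hd) (hz d hd) using 1
        noncomm_ring
      | smul k y _ hy =>
        intro d hd
        convert T.smul_mem k (hy d hd) using 1
        simp [smul_add]
    | zero => simp
    | add a a' _ _ ha ha' =>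
      intro y hy d hd
      convert T.add_mem (ha y hy d hd) (ha' y hy d hd) using 1
      noncomm_ring
    | smul k a _ ha =>
      intro y hy d hd
      convert T.smul_mem k (ha y hy d hd) using 1
      simp [smul_add]
  have quad : ∀ a ∈ T, ∀ y ∈ T, a * y * a ∈ T := by
    intro a ha
    induction ha using Submodule.span_induction with
    | mem a ha =>
      obtain ⟨A, hA, rfl⟩ := ha
      intro y hy
      induction hy using Submodule.span_induction with
      | mem y hy =>
        obtain ⟨Y, hY, rfl⟩ := hy
        rw [← map_mul, ← map_mul]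
        exact hmem _ (hABA A hA Y hY)
      | zero => simp
      | add y z _ _ hy hz =>
        convert T.add_mem hy hz using 1
        noncomm_ring
      | smul k y _ hy =>
        convert T.smul_mem k hy using 1
        simp
    | zero => simp
    | add a a' ha₀ ha₀' ha ha' =>
      intro y hy
      convert T.add_mem (T.add_mem (ha y hy) (ha' y hy)) (tri a ha₀ y hy a' ha₀') using 1
      noncomm_ring
    | smul k a _ ha =>
      intro y hy
      convert T.smul_mem (k * k) (ha y hy) using 1
      simp [smul_smul]
  -- the generic element and its powers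
  let x : Matrix (Fin m) (Fin m) K := (SpreadAux.gen B).map (algebraMap R K)
  have hx : x ∈ T := by
    have he : x = ∑ k, algebraMap R K (MvPolynomial.X k) • ι (B k) := by
      refine Matrix.ext fun i j => ?_
      simp [x, SpreadAux.gen, Matrix.sum_apply, hι, c, R]
      refine Finset.sum_congr rfl fun k _ => ?_
      exact (Algebra.smul_def _ _).symm
    rw [he]
    exact Submodule.sum_mem _ fun k _ => T.smul_mem _ (hmem _ ((hW _).1 (b k).2))
  have hpow : ∀ n : ℕ, x ^ n ∈ T ∧ x ^ (n + 1) ∈ T := by
    intro n
    induction n with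
    | zero =>
      refine ⟨?_, by simpa using hx⟩
      have := hmem 1 hone
      simpa using this
    | succ n ih =>
      refine ⟨ih.2, ?_⟩
      have := quad x hx (x ^ n) ih.1
      rwa [← pow_succ', ← pow_succ] at this
  have hdeg : m ≤ (minpoly K x).natDegree := by
    have hint : IsIntegral K x := Algebra.IsIntegral.isIntegral x
    have hd : minpoly K x ∣ (SpreadAux.gen B).charpoly.map (algebraMap R K) := by
      rw [← Matrix.charpoly_map]
      exact Matrix.minpoly_dvd_charpoly x
    obtain ⟨μ, hμ⟩ := IsIntegrallyClosed.eq_map_mul_C_of_dvd K (Matrix.charpoly_monic _) hd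
    rw [(minpoly.monic hint).leadingCoeff, map_one, mul_one] at hμ
    have hinj : Function.Injective (algebraMap R K) := IsFractionRing.injective R K
    have : Nonempty (Fin m) := ⟨⟨0, hm⟩⟩
    have hμm : μ.Monic := Polynomial.monic_of_injective hinj (by rw [hμ]; exact minpoly.monic hint)
    have hμd : μ.natDegree = (minpoly K x).natDegree := by
      rw [← hμ, Polynomial.natDegree_map_eq_of_injective hinj]
    rw [← hμd]
    refine SpreadAux.natDegree_divisor B ?_ μ hμm (hμd ▸ minpoly.natDegree_pos hint) ?_
    · intro a ha
      have h1 : ∑ k, a k • B k = ((b.equivFun.symm a : W) : Matrix (Fin m) (Fin m) (ZMod p)) := by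
        simp [B, Module.Basis.equivFun_symm_apply]
      rw [h1]
      refine hunit _ ((hW _).1 (b.equivFun.symm a).2) fun h0 => ha ?_
      have h2 : b.equivFun.symm a = 0 := Subtype.ext h0
      rw [← b.equivFun.apply_symm_apply a, h2, map_zero]
    · rw [← hμ] at hd
      exact (Polynomial.map_dvd_map _ hinj hμm).1 hd
  have hli : LinearIndependent K (fun i : Fin m => x ^ (i : ℕ)) :=
    (linearIndependent_pow x).comp (Fin.castLE hdeg) (Fin.castLE_injective _)
  have hTdim : Module.finrank K T ≤ m := by
    have hle : T ≤ Submodule.span K (Set.range fun k => ι (B k)) := by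
      refine Submodule.span_le.2 ?_
      rintro _ ⟨A, hA, rfl⟩
      have hs : A = ∑ k, b.equivFun ⟨A, hA⟩ k • B k := by
        have := congrArg Subtype.val (b.sum_equivFun (⟨A, hA⟩ : W))
        rw [Submodule.coe_sum] at this
        exact this.symm
      rw [SetLike.mem_coe, hs, map_sum]
      refine Submodule.sum_mem _ fun k _ => ?_
      have : ι (b.equivFun ⟨A, hA⟩ k • B k) = c (b.equivFun ⟨A, hA⟩ k) • ι (B k) :=
        Matrix.ext fun i j => by simp [hι]
      rw [this]
      exact Submodule.smul_mem _ _ (Submodule.subset_span ⟨k, rfl⟩)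
    exact le_trans (Submodule.finrank_mono hle)
      ((finrank_range_le_card _).trans_eq (Fintype.card_fin m))
  have hspan : Submodule.span K (Set.range fun i : Fin m => x ^ (i : ℕ)) = T := by
    refine Submodule.eq_of_le_of_finrank_le (Submodule.span_le.2 ?_) ?_
    · rintro _ ⟨i, rfl⟩
      exact (hpow i).1
    · rw [finrank_span_eq_card hli, Fintype.card_fin]
      exact hTdim
  have hadj : ∀ y ∈ T, y ∈ Algebra.adjoin K {x} := by
    intro y hy
    rw [← hspan] at hy
    have hle : Submodule.span K (Set.range fun i : Fin m => x ^ (i : ℕ)) ≤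
        Subalgebra.toSubmodule (Algebra.adjoin K {x}) := by
      refine Submodule.span_le.2 ?_
      rintro _ ⟨i, rfl⟩
      exact Subalgebra.pow_mem _ (Algebra.self_mem_adjoin_singleton K x) _
    exact hle hy
  have hadj' : ∀ y ∈ Algebra.adjoin K {x}, y ∈ T := by
    intro y hy
    rw [Algebra.adjoin_singleton_eq_range_aeval] at hy
    obtain ⟨f, rfl⟩ := hy
    show aeval x f ∈ T
    rw [Polynomial.aeval_eq_sum_range]
    exact Submodule.sum_mem _ fun i _ => T.smul_mem _ (hpow i).1
  intro A hA A' hA'
  have h1 := hadj _ (hmem A hA)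
  have h2 := hadj _ (hmem A' hA')
  refine ⟨?_, ?_⟩
  · refine Matrix.map_injective c.injective ?_
    show ι (A * A') = ι (A' * A)
    rw [map_mul, map_mul]
    exact Algebra.commute_of_mem_adjoin_singleton_of_commute h2
      (Algebra.commute_of_mem_adjoin_singleton_of_commute h1 (Commute.refl x)).symm
  · by_contra hne
    obtain ⟨f, hfx, hfW⟩ :=
      Submodule.exists_dual_map_eq_bot_of_notMem (mt (hW (A * A')).1 hne) inferInstance
    let F : Matrix (Fin m) (Fin m) K →ₗ[K] K :=
      ∑ i, ∑ j, c (f (Matrix.single i j 1)) • Matrix.entryLinearMap K K i j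
    have hF : ∀ M, F (ι M) = c (f M) := by
      intro M
      conv_rhs => rw [Matrix.matrix_eq_sum_single M]
      simp only [map_sum]
      simp only [F, LinearMap.sum_apply, LinearMap.smul_apply, Matrix.entryLinearMap_apply,
        smul_eq_mul, hι, Matrix.map_apply]
      refine Finset.sum_congr rfl fun i _ => Finset.sum_congr rfl fun j _ => ?_
      have : Matrix.single i j (M i j) = M i j • Matrix.single i j (1 : ZMod p) := by simp
      rw [this, map_smul, smul_eq_mul, map_mul, mul_comm]
    have hkill : T ≤ LinearMap.ker F := by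
      refine Submodule.span_le.2 ?_
      rintro _ ⟨M, hM, rfl⟩
      have : f M = 0 := by
        have hm' : f M ∈ W.map f := Submodule.mem_map_of_mem ((hW M).2 hM)
        rwa [hfW, Submodule.mem_bot] at hm'
      simp [hF, this]
    have h3 : ι (A * A') ∈ LinearMap.ker F := hkill (hadj' _ (by
      rw [map_mul]; exact Subalgebra.mul_mem _ h1 h2))
    rw [LinearMap.mem_ker, hF] at h3
    exact hfx (c.injective (h3.trans (map_zero c).symm))

end Cfsg.Agent.Lib.Ostrom64
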