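import Cfsg.Agent.Lib.Ostrom64.Sub
import Cfsg.Agent.Lib.Ostrom64.Orbit
import Mathlib.GroupTheory.Nilpotent
import Mathlib.GroupTheory.PGroup
import Mathlib.GroupTheory.IndexNormal

/-!
Two-groups fixing a quadrangle: the tower of Baer subplanes, and the dual quadrangle (for S3732).
-/

set_option autoImplicit false
set_option linter.unusedSectionVars false

namespace Cfsg.Agent.Lib.Ostrom64

open Configuration

universe u w

variable {P : Type u} {L : Type w} [Membership P L] [ProjectivePlane P L] [Finite P] [Finite L]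

/-- The four sides of a fixed quadrangle form a fixed dual quadrangle. -/
theorem HasQuad.lines {H : Subgroup (Col P L)} (hq : HasQuad H) :
    HasQuad (H.map (dualHom P L)) := by
  obtain ⟨a, b, c, d, hf, habc, habd, hacd, hbcd⟩ := hq
  obtain ⟨ab, hab1, hab2⟩ := exists_line L a b habc.ne₁₂
  obtain ⟨bc, hbc1, hbc2⟩ := exists_line L b c habc.ne₂₃
  obtain ⟨cd, hcd1, hcd2⟩ := exists_line L c d hacd.ne₂₃
  obtain ⟨da, hda1, hda2⟩ := exists_line L d a habd.ne₁₃.symm
  refine ⟨ab, bc, cd, da, ?_, ?_, ?_, ?_, ?_⟩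
  · rintro _ ⟨h, hh, rfl⟩
    obtain ⟨fa, fb, fc, fd⟩ := hf h hh
    exact ⟨smul_line_eq_of_two h habc.ne₁₂ hab1 hab2 fa fb,
      smul_line_eq_of_two h habc.ne₂₃ hbc1 hbc2 fb fc,
      smul_line_eq_of_two h hacd.ne₂₃ hcd1 hcd2 fc fd,
      smul_line_eq_of_two h habd.ne₁₃.symm hda1 hda2 fd fa⟩
  -- no point is on three sides
  · intro (x : P) (h1 : x ∈ ab) (h2 : x ∈ bc) (h3 : x ∈ cd)
    have hne : ab ≠ bc := fun e => habc ab hab1 hab2 (e ▸ hbc2)
    exact hbcd cd ((eq_of_mem hne h1 h2 hab2 hbc1) ▸ h3) hcd1 hcd2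
  · intro (x : P) (h1 : x ∈ ab) (h2 : x ∈ bc) (h3 : x ∈ da)
    have hne : ab ≠ bc := fun e => habc ab hab1 hab2 (e ▸ hbc2)
    exact habd da hda2 ((eq_of_mem hne h1 h2 hab2 hbc1) ▸ h3) hda1
  · intro (x : P) (h1 : x ∈ ab) (h2 : x ∈ cd) (h3 : x ∈ da)
    have hne : ab ≠ da := fun e => habd ab hab1 hab2 (e ▸ hda1)
    exact hacd cd ((eq_of_mem hne h1 h3 hab1 hda2) ▸ h2) hcd1 hcd2
  · intro (x : P) (h1 : x ∈ bc) (h2 : x ∈ cd) (h3 : x ∈ da)
    have hne : bc ≠ cd := fun e => hbcd bc hbc1 hbc2 (e ▸ hcd2)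
    exact hacd da hda2 ((eq_of_mem hne h1 h2 hbc2 hcd1) ▸ h3) hda1

/-- A plane contains a quadrangle. -/
theorem hasQuad_bot : HasQuad (⊥ : Subgroup (Col P L)) := by
  obtain ⟨a, b, -, -, l, -, -, -, -, hb, -⟩ :=
    Configuration.ProjectivePlane.exists_config (P := P) (L := L)
  obtain ⟨a', ha', hab⟩ := exists_other l b
  obtain ⟨c, hc⟩ : ∃ c : P, c ∉ l := Nondegenerate.exists_point l
  obtain ⟨lac, hac1, hac2⟩ := exists_line L a' c (fun e => hc (e ▸ ha'))
  obtain ⟨lbc, hbc1, hbc2⟩ := exists_line L b c (fun e => hc (e ▸ hb))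
  obtain ⟨x, hx, hxb, hxc⟩ := exists_third lbc b c
  have ha'bc : a' ∉ lbc := fun h => hc (line_eq hab h hbc1 ha' hb ▸ hbc2)
  obtain ⟨k, hk1, hk2⟩ := exists_line L a' x (fun e => ha'bc (e ▸ hx))
  obtain ⟨d, hd, hda, hdx⟩ := exists_third k a' x
  have hkl : k ≠ l := fun e => hxb (eq_of_mem (fun e' : lbc = l => hc (e' ▸ hbc2)) hx (e ▸ hk2)
    hbc1 hb)
  have hklac : k ≠ lac := fun e => hxc (eq_of_mem
    (fun e' : lbc = lac => ha'bc (e' ▸ hac1)) hx (e ▸ hk2) hbc2 hac2)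
  have hkbc : k ≠ lbc := fun e => ha'bc (e ▸ hk1)
  refine ⟨a', b, c, d, fun h hh => ?_, ?_, ?_, ?_, ?_⟩
  · rw [Subgroup.mem_bot] at hh
    subst hh
    exact ⟨one_smul _ _, one_smul _ _, one_smul _ _, one_smul _ _⟩
  · exact fun m h1 h2 h3 => hc (line_eq hab h1 h2 ha' hb ▸ h3)
  · intro m h1 h2 h3
    have hm : m = l := line_eq hab h1 h2 ha' hb
    exact hda (eq_of_mem hkl hd (hm ▸ h3) hk1 ha')
  · intro m h1 h2 h3
    have hm : m = lac := line_eq (show a' ≠ c from fun e => hc (e ▸ ha')) h1 h2 hac1 hac2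
    exact hda (eq_of_mem hklac hd (hm ▸ h3) hk1 hac1)
  · intro m h1 h2 h3
    have hm : m = lbc := line_eq (show b ≠ c from fun e => hc (e ▸ hb)) h1 h2 hbc1 hbc2
    exact hdx (eq_of_mem hkbc hd (hm ▸ h3) hk2 hx)

/-- A quadrangle of fixed points is a quadrangle of the fixed plane. -/
theorem HasQuad.restrict {R S : Subgroup (Col P L)} (hR : HasQuad R) (hRS : R ≤ S) (hS : HasQuad S)
    (g : Subgroup.normalizer (R : Set (Col P L))) (hg : (g : Col P L) ∈ S) :
    letI := subPlane hR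
    HasQuad (Subgroup.zpowers (restrictCol R g)) := by
  letI := subPlane hR
  obtain ⟨a, b, c, d, hf, habc, habd, hacd, hbcd⟩ := hS
  refine ⟨⟨a, fun h hh => (hf h (hRS hh)).1⟩, ⟨b, fun h hh => (hf h (hRS hh)).2.1⟩,
    ⟨c, fun h hh => (hf h (hRS hh)).2.2.1⟩, ⟨d, fun h hh => (hf h (hRS hh)).2.2.2⟩, ?_,
    fun l => habc l.1, fun l => habd l.1, fun l => hacd l.1, fun l => hbcd l.1⟩
  intro h hh
  exact ⟨(fix_zpowers _ _).2 (Subtype.ext (hf _ hg).1) h hh,
    (fix_zpowers _ _).2 (Subtype.ext (hf _ hg).2.1) h hh,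
    (fix_zpowers _ _).2 (Subtype.ext (hf _ hg).2.2.1) h hh,
    (fix_zpowers _ _).2 (Subtype.ext (hf _ hg).2.2.2) h hh⟩

set_option maxHeartbeats 400000 in
/-- The order of the plane is a power of the order of a plane fixed by a 2-group. -/
theorem order_tower (R : Subgroup (Col P L)) (hR : IsPGroup 2 R) (hq : HasQuad R) :
    letI := subPlane hq
    ∃ i : ℕ, ProjectivePlane.order P L = ProjectivePlane.order (fixP R) (fixL R) ^ 2 ^ i := by
  induction hc : Nat.card R using Nat.strong_induction_on generalizing R with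
  | _ c ih =>
  letI := subPlane hq
  have : Fact (Nat.Prime 2) := ⟨Nat.prime_two⟩
  by_cases hbot : R = ⊥
  · refine ⟨0, ?_⟩
    rw [pow_zero, pow_one]
    refine (order_eq_of_card (P := fixP R) (L := fixL R) ?_).symm
    rw [← card_point (L := L)]
    refine Nat.card_congr (Equiv.subtypeUnivEquiv fun p => ?_)
    subst hbot
    intro h hh
    rw [Subgroup.mem_bot] at hh
    rw [hh, one_smul]
  obtain ⟨j, hj⟩ := IsPGroup.iff_card.1 hR
  have hj0 : j ≠ 0 := by
    intro e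
    exact hbot (Subgroup.eq_bot_of_card_eq _ (by rw [hj, e, pow_zero]))
  obtain ⟨S, hS⟩ := Sylow.exists_subgroup_card_pow_prime 2 (n := j - 1)
    (show 2 ^ (j - 1) ∣ Nat.card R by rw [hj]; exact pow_dvd_pow 2 (by omega))
  set R' : Subgroup (Col P L) := S.map R.subtype with hR'
  have hR'R : R' ≤ R := Subgroup.map_subtype_le _
  have hcard' : Nat.card R' = 2 ^ (j - 1) := by
    rw [hR', Subgroup.card_map_of_injective R.subtype_injective, hS]
  have hindex : S.index = 2 := by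
    have h1 := Subgroup.card_mul_index S
    rw [hS, hj, show j = (j - 1) + 1 by omega, pow_succ, Nat.add_sub_cancel] at h1
    exact Nat.eq_of_mul_eq_mul_left (by positivity) h1
  have hSn : S.Normal := Subgroup.normal_of_index_eq_two hindex
  have hRN : R ≤ Subgroup.normalizer (R' : Set (Col P L)) := by
    intro x hx
    rw [Subgroup.mem_normalizer_iff]
    intro y
    constructor
    · intro hy
      obtain ⟨s, hs, hsy⟩ := Subgroup.mem_map.1 hy
      refine Subgroup.mem_map.2 ⟨_, hSn.conj_mem s hs ⟨x, hx⟩, ?_⟩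
      simp only [Subgroup.coe_subtype] at hsy
      simp only [Subgroup.coe_subtype, Subgroup.coe_mul, InvMemClass.coe_inv, hsy]
    · intro hy
      obtain ⟨s, hs, hsy⟩ := Subgroup.mem_map.1 hy
      refine Subgroup.mem_map.2 ⟨_, hSn.conj_mem s hs ⟨x, hx⟩⁻¹, ?_⟩
      simp only [Subgroup.coe_subtype] at hsy
      simp only [inv_inv, Subgroup.coe_subtype, Subgroup.coe_mul, InvMemClass.coe_inv, hsy]
      group
  obtain ⟨g, hg, hg'⟩ : ∃ g ∈ R, g ∉ R' := by
    refine SetLike.exists_of_lt (lt_of_le_of_ne hR'R fun e => ?_)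
    have := congrArg (fun K : Subgroup (Col P L) => Nat.card K) e
    simp only [hcard', hj] at this
    exact absurd (Nat.pow_right_injective le_rfl this) (by omega)
  have hq' : HasQuad R' := hq.mono hR'R
  letI := subPlane hq'
  obtain ⟨i, hi⟩ := ih (Nat.card R') (by
    rw [hcard', ← hc, hj]
    exact Nat.pow_lt_pow_right (by norm_num) (by omega)) R' (hR.to_le hR'R) hq' rfl
  set γ := restrictCol R' ⟨g, hRN hg⟩ with hγ
  have hsq : g * g ∈ R' := by
    have h1 := Subgroup.mul_self_mem_of_index_two hindex ⟨g, hg⟩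
    exact Subgroup.mem_map.2 ⟨_, h1, by simp only [Subgroup.coe_subtype, Subgroup.coe_mul]⟩
  have hγ2 : γ * γ = 1 := by
    rw [hγ, ← map_mul]
    refine eq_one_of_fix_all fun p => Subtype.ext ?_
    exact p.2 _ hsq
  -- points fixed by `γ` are the points fixed by `R`
  have hfix : ∀ p : fixP R', γ • p = p ↔ (p : P) ∈ fixP R := by
    intro p
    refine ⟨fun h x hx => ?_, fun h => Subtype.ext (h g hg)⟩
    have h2 := Subgroup.mul_mem_iff_of_index_two hindex (a := (⟨g, hg⟩ : R)) (b := ⟨x, hx⟩)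
    by_cases hx' : x ∈ R'
    · exact p.2 x hx'
    · have hgs : (⟨g, hg⟩ : R) ∉ S := fun h => hg' ⟨_, h, rfl⟩
      have hxs : (⟨x, hx⟩ : R) ∉ S := fun h => hx' ⟨_, h, rfl⟩
      have hgx : g * x ∈ R' := ⟨_, h2.2 (iff_of_false hgs hxs), rfl⟩
      have h3 := p.2 _ hgx
      rw [mul_smul] at h3
      have h4 : g • (p : P) = p := congrArg Subtype.val h
      exact MulAction.injective g (h3.trans h4.symm)
  have hcardfix : Nat.card {p : fixP R' // γ • p = p} = Nat.card (fixP R) :=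
    Nat.card_congr
      { toFun := fun p => ⟨p.1.1, (hfix p.1).1 p.2⟩
        invFun := fun p => ⟨⟨p.1, fun h hh => p.2 h (hR'R hh)⟩, (hfix _).2 p.2⟩
        left_inv := fun _ => rfl
        right_inv := fun _ => rfl }
  by_cases hγ1 : γ = 1
  · refine ⟨i, ?_⟩
    rw [hi, order_eq_of_card (P := fixP R) (L := fixL R)
      (m := ProjectivePlane.order (fixP R') (fixL R')) ?_]
    rw [← hcardfix, ← card_point (L := fixL R')]
    exact Nat.card_congr (Equiv.subtypeUnivEquiv fun p => by rw [hγ1, one_smul])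
  · rcases persp_or_baer hγ2 hγ1 with ⟨a, ha⟩ | ⟨m, hm, hm', -⟩
    · exfalso
      obtain ⟨x1, x2, x3, x4, hf, hn1, hn2, hn3, hn4⟩ := hq'.restrict hR'R hq ⟨g, hRN hg⟩ hg
      obtain ⟨f1, f2, f3, f4⟩ := hf _ (Subgroup.mem_zpowers _)
      -- two of the four points are off the axis
      by_cases h1 : x1 ∈ a
      · by_cases h2 : x2 ∈ a
        · exact hγ1 (ha.eq_one (hn1 a h1 h2) (hn2 a h1 h2) hn3.ne₂₃ f3 f4)
        · by_cases h3 : x3 ∈ a
          · exact hγ1 (ha.eq_one h2 (hn3 a h1 h3) hn2.ne₂₃ f2 f4)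
          · exact hγ1 (ha.eq_one h2 h3 hn1.ne₂₃ f2 f3)
      · by_cases h2 : x2 ∈ a
        · by_cases h3 : x3 ∈ a
          · exact hγ1 (ha.eq_one h1 (hn4 a h2 h3) hn2.ne₁₃ f1 f4)
          · exact hγ1 (ha.eq_one h1 h3 hn1.ne₁₃ f1 f3)
        · exact hγ1 (ha.eq_one h1 h2 hn1.ne₁₂ f1 f2)
    · refine ⟨i + 1, ?_⟩
      rw [hi, hm, order_eq_of_card (P := fixP R) (L := fixL R) (m := m) (by rw [← hcardfix, hm']),
        ← pow_mul, pow_succ' 2 i]

end Cfsg.Agent.Lib.Ostrom64
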