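import Cfsg.Agent.Lib.Ostrom64.Orbit
import Cfsg.Agent.Lib.Ostrom64.PlanePow

/-!
A perspectivity in a two-transitive collineation group forces transitive elation groups (brick E
of S3732).
-/

set_option autoImplicit false
set_option linter.unusedSectionVars false

namespace Cfsg.Agent.Lib.Ostrom64.Trans

open Configuration

universe u w

variable {P : Type u} {L : Type w} [Membership P L] [ProjectivePlane P L] [Finite P] [Finite L]
  {G : Subgroup (Col P L)}

/-- The elements of `G` with axis `l`. -/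
def axisGroup (G : Subgroup (Col P L)) (l : L) : Subgroup (Col P L) where
  carrier := {g | g ∈ G ∧ IsAxis g l}
  one_mem' := ⟨one_mem G, fun p _ => one_smul _ p⟩
  mul_mem' := fun {g h} hg hh =>
    ⟨mul_mem hg.1 hh.1, fun p hp => by rw [mul_smul, hh.2 p hp, hg.2 p hp]⟩
  inv_mem' := fun {g} hg => ⟨inv_mem hg.1, fun p hp => inv_smul_eq_iff.2 (hg.2 p hp).symm⟩

theorem smul_notMem {g : Col P L} {l : L} (hl : g • l = l) {p : P} (hp : p ∉ l) : g • p ∉ l :=
  fun hm => hp (by
    rw [← hl] at hm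
    exact (smul_mem_smul g).1 hm)

/-- Step 1: `G` contains an elation. -/
theorem exists_elation (h2 : TwoTrans G) (hp : ∃ g ∈ G, IsPersp g) :
    ∃ (C : P) (l : L), C ∈ l ∧ elatC C l ⊓ G ≠ ⊥ := by
  classical
  by_contra hc
  push Not at hc
  obtain ⟨g, hg, hg1, l, hA⟩ := hp
  have hno : ∀ x ∈ axisGroup G l, x ≠ 1 → ∃ p : P, p ∉ l ∧ x • p = p := by
    intro x hx hx1
    by_contra hn
    push Not at hn
    obtain ⟨C, hC, hxC⟩ := exists_centre_of_mem_elat (show x ∈ elat P l from ⟨hx.2, Or.inr hn⟩)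
    have : x ∈ elatC C l ⊓ G := ⟨hxC, hx.1⟩
    rw [hc C l hC, Subgroup.mem_bot] at this
    exact hx1 this
  obtain ⟨C, hCl, hgC⟩ := hno g ⟨hg, hA⟩ hg1
  have hall : ∀ p : P, p ∉ l → ∃ x ∈ axisGroup G l, x ≠ 1 ∧ x • p = p := by
    intro p hp
    obtain ⟨s, hs, hsl, hsC⟩ := h2.antiflag hCl hp
    refine ⟨s * g * s⁻¹, ⟨mul_mem (mul_mem hs hg) (inv_mem hs), ?_⟩,
      fun e => hg1 ?_, ?_⟩
    · have := hA.conj s
      rwa [hsl] at this
    · rw [show g = s⁻¹ * (s * g * s⁻¹) * s by group, e]
      group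
    · rw [mul_smul, mul_smul, inv_smul_eq_iff.2 hsC.symm, hgC, hsC]
  set H := axisGroup G l with hH
  let X := {p : P // p ∉ l}
  let _ : MulAction H X :=
    { smul := fun x p => ⟨(x : Col P L) • (p : P), smul_notMem x.2.2.smul_line p.2⟩
      one_smul := fun p => Subtype.ext (one_smul (Col P L) (p : P))
      mul_smul := fun x y p => Subtype.ext (mul_smul (x : Col P L) (y : Col P L) (p : P)) }
  have : Fintype H := Fintype.ofFinite H
  have : Fintype X := Fintype.ofFinite X
  have hn := ProjectivePlane.one_lt_order P L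
  have hX : Fintype.card X = ProjectivePlane.order P L ^ 2 := by
    rw [← Nat.card_eq_fintype_card]
    exact card_off l
  have hfix : ∀ x : H, Fintype.card (MulAction.fixedBy X x) =
      if x = 1 then Fintype.card X else 1 := by
    intro x
    by_cases hx : x = 1
    · subst hx
      rw [if_pos rfl]
      exact Fintype.card_congr (Equiv.subtypeUnivEquiv fun p => one_smul H p)
    · rw [if_neg hx, Fintype.card_eq_one_iff]
      have hx' : (x : Col P L) ≠ 1 := fun e => hx (Subtype.ext e)
      obtain ⟨p, hp, hxp⟩ := hno x x.2 hx'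
      refine ⟨⟨⟨p, hp⟩, Subtype.ext hxp⟩, fun q => Subtype.ext (Subtype.ext ?_)⟩
      by_contra hne
      exact hx' (x.2.2.eq_one q.1.2 hp hne (congrArg Subtype.val q.2) hxp)
  have hB := MulAction.sum_card_fixedBy_eq_card_orbits_mul_card_group H X
  rw [Finset.sum_congr rfl fun x _ => hfix x, ← Finset.add_sum_erase _ _ (Finset.mem_univ (1 : H)),
    if_pos rfl, Finset.sum_congr rfl (g := fun _ => 1) (fun x hx =>
      if_neg (Finset.ne_of_mem_erase hx)), Finset.sum_const, smul_eq_mul, mul_one,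
    Finset.card_erase_of_mem (Finset.mem_univ _), Finset.card_univ, hX] at hB
  have hbig : ProjectivePlane.order P L ^ 2 + 1 ≤ Fintype.card H := by
    choose f hf1 hf2 hf3 using fun p : X => hall p p.2
    let F : Option X → H := fun o => o.elim 1 fun p => ⟨f p, hf1 p⟩
    have hF : Function.Injective F := by
      rintro (_ | p) (_ | q) h
      · rfl
      · exact absurd (congrArg Subtype.val h).symm (hf2 q)
      · exact absurd (congrArg Subtype.val h) (hf2 p)
      · have h' : f p = f q := congrArg Subtype.val h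
        refine congrArg some (Subtype.ext (by_contra fun hne => hf2 p ?_))
        exact (hf1 p).2.eq_one p.2 q.2 hne (hf3 p) (h' ▸ hf3 q)
    have := Fintype.card_le_of_injective F hF
    rwa [Fintype.card_option, hX] at this
  set o := Fintype.card (Quotient (MulAction.orbitRel H X))
  set n := ProjectivePlane.order P L
  have hn2 : 4 ≤ n ^ 2 := by
    calc 4 = 2 ^ 2 := rfl
      _ ≤ n ^ 2 := Nat.pow_le_pow_left hn 2
  rcases o with _ | _ | o
  · rw [zero_mul] at hB; omega
  · rw [zero_add, one_mul] at hB; omega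
  · rw [add_mul, add_mul, one_mul] at hB
    omega

/-- Step 2. -/
theorem trans_brick : TransBrick.{u, w} := by
  intro P L _ _ _ _ G h2 hp l p q hpl hql
  classical
  cases nonempty_fintype P
  obtain ⟨C₀, l₀, hC₀, hne⟩ := exists_elation h2 hp
  set h := Nat.card ↥(elatC C₀ l₀ ⊓ G) with hh
  have hh1 : 1 < h := (Subgroup.one_lt_card_iff_ne_bot _).2 hne
  have hle : ∀ {C : P} {m : L} {C' : P} {m' : L}, C ∈ m → C' ∈ m' →
      Nat.card ↥(elatC C m ⊓ G) ≤ Nat.card ↥(elatC C' m' ⊓ G) := by
    intro C m C' m' hC hC'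
    obtain ⟨s, hs, hsC, hsm⟩ := h2.flag hC hC'
    refine Nat.card_le_card_of_injective (fun x => ⟨s * (x : Col P L) * s⁻¹, ?_⟩)
      fun x y e => Subtype.ext (mul_left_cancel (mul_right_cancel (congrArg Subtype.val e :)))
    have := elatC_conj x.2.1 s
    rw [hsC, hsm] at this
    exact ⟨this, G.mul_mem (G.mul_mem hs x.2.2) (G.inv_mem hs)⟩
  have hall : ∀ Z : {p : P // p ∈ l}, Nat.card ↥(elatC (Z : P) l ⊓ G) - 1 = h - 1 := fun Z => by
    rw [hh, le_antisymm (hle Z.2 hC₀) (hle hC₀ Z.2)]
  have hsum := PlanePow.Hyp.card_elat_eq (Γ := G) l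
  rw [Finset.sum_congr rfl fun Z _ => hall Z, Finset.sum_const, smul_eq_mul, Finset.card_univ,
    ← Nat.card_eq_fintype_card, card_on_line (P := P) l] at hsum
  set E := Nat.card ↥(elat P l ⊓ G)
  set n := ProjectivePlane.order P L with hn
  have hn1 := ProjectivePlane.one_lt_order P L
  obtain ⟨s, hs⟩ : E ∣ n ^ 2 := PlanePow.card_elat_dvd l _ inf_le_left
  have hEn : E = n ^ 2 := by
    obtain ⟨t, ht⟩ : ∃ t, h - 1 = t + 1 := ⟨h - 2, by omega⟩
    rw [ht] at hsum
    -- `s` is `1` modulo `n + 1` and smaller than `n + 1`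
    have hs1 : s = 1 := by
      have hn2 : (n : ℤ) ^ 2 = (1 + ((n : ℤ) + 1) * ((t : ℤ) + 1)) * (s : ℤ) := by
        rw [hsum] at hs
        exact_mod_cast hs
      have hdiv : ((n : ℤ) + 1) ∣ (s : ℤ) - 1 :=
        ⟨(n : ℤ) - 1 - ((t : ℤ) + 1) * s, by linear_combination -hn2⟩
      have hslt : s < n + 1 := by
        by_contra hge
        push Not at hge
        have h1 : (n + 1) * (n + 1) ≤ E * s := by
          refine Nat.mul_le_mul ?_ hge
          rw [hsum]
          exact le_add_left (Nat.le_mul_of_pos_right _ (Nat.succ_pos t))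
        rw [← hs] at h1
        nlinarith
      have hspos : s ≠ 0 := fun e => by
        rw [e, mul_zero] at hs
        have := Nat.pow_pos (n := 2) (show 0 < n by omega)
        omega
      have := Int.eq_zero_of_dvd_of_nonneg_of_lt (show 0 ≤ (s : ℤ) - 1 by omega)
        (show (s : ℤ) - 1 < (n : ℤ) + 1 by omega) hdiv
      omega
    rw [hs, hs1, mul_one]
  let f : ↥(elat P l ⊓ G) → {p : P // p ∉ l} := fun x =>
    ⟨(x : Col P L) • p, smul_notMem (elat_isAxis x.2.1).smul_line hpl⟩
  have hf : Function.Injective f := by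
    intro x y e
    have e' : (x : Col P L) • p = (y : Col P L) • p := congrArg Subtype.val e
    have h1 : (y : Col P L)⁻¹ * x = 1 := elat_free ((elat P l).mul_mem ((elat P l).inv_mem y.2.1) x.2.1) hpl
      (by rw [mul_smul, e', inv_smul_smul])
    exact (Subtype.ext (inv_mul_eq_one.1 h1)).symm
  obtain ⟨x, hx⟩ := (hf.bijective_of_nat_card_le (by rw [card_off l]; exact hEn.ge)).2 ⟨q, hql⟩
  exact ⟨x, x.2.1, congrArg Subtype.val hx⟩

end Cfsg.Agent.Lib.Ostrom64.Trans

namespace Cfsg.Agent.Lib.Ostrom64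

universe u w

/-- Brick E. -/
theorem trans : TransBrick.{u, w} := Trans.trans_brick

end Cfsg.Agent.Lib.Ostrom64
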